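import Cfsg.Agent.H823.B0R.Arith

/-!
# Instances of the arithmetic of the engine

`G_p_q` (nothing else needed) and `G_p_q_Lr1_r2…` (the odd parts of the local units at `r1, r2, …` needed), `n`
the full group order. `Gen.symm`, `Gen.mono`: other orders and larger lists.
-/

set_option autoImplicit false

namespace Cfsg.Agent.H823.B0R

theorem Gen.symm {n p q : ℕ} {L : List ℕ} (h : Gen n p q L) : Gen n q p L :=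
  fun H a b c d e => h H c d a b e

theorem Gen.mono {n p q : ℕ} {L L' : List ℕ} (h : Gen n p q L) (hL : ∀ r ∈ L, r ∈ L') : Gen n p q L' :=
  fun H a b c d e => h H a b c d (fun r hr => e r (hL r hr))

theorem Fi23_7_11 : Gen (2 ^ 18 * 3 ^ 13 * 5 ^ 2 * 7 * 11 * 13 * 17 * 23) 7 11 [] :=
  gen_of_check (PS := [2, 3, 5, 7, 11, 13, 17, 23]) (C := [(3, [(3, 1, 1), (13, 0, 1)]), (5, [(5, 0, 1)]), (11, [(23, 0, 1)])]) (by decide +kernel)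

theorem Fi23_7_13 : Gen (2 ^ 18 * 3 ^ 13 * 5 ^ 2 * 7 * 11 * 13 * 17 * 23) 7 13 [] :=
  gen_of_check (PS := [2, 3, 5, 7, 11, 13, 17, 23]) (C := [(3, [(3, 0, 1)]), (5, [(5, 1, 3), (11, 0, 1)]), (11, [(23, 0, 1)])]) (by decide +kernel)

theorem Fi23_7_17 : Gen (2 ^ 18 * 3 ^ 13 * 5 ^ 2 * 7 * 11 * 13 * 17 * 23) 7 17 [] :=
  gen_of_check (PS := [2, 3, 5, 7, 11, 13, 17, 23]) (C := [(3, [(3, 1, 2), (13, 0, 1)]), (5, [(5, 1, 2), (11, 0, 1)]), (11, [(23, 0, 1)])]) (by decide +kernel)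

theorem Fi23_7_23_L3 : Gen (2 ^ 18 * 3 ^ 13 * 5 ^ 2 * 7 * 11 * 13 * 17 * 23) 7 23 [3] :=
  gen_of_check (PS := [2, 3, 5, 7, 11, 13, 17, 23]) (C := [(3, [(13, 0, 1)]), (5, [(5, 0, 1), (11, 1, 0)])]) (by decide +kernel)

theorem Fi23_7_23_L13 : Gen (2 ^ 18 * 3 ^ 13 * 5 ^ 2 * 7 * 11 * 13 * 17 * 23) 7 23 [13] :=
  gen_of_check (PS := [2, 3, 5, 7, 11, 13, 17, 23]) (C := [(3, [(3, 0, 1)]), (5, [(5, 0, 1), (11, 1, 0)])]) (by decide +kernel)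

theorem Fi23_11_13 : Gen (2 ^ 18 * 3 ^ 13 * 5 ^ 2 * 7 * 11 * 13 * 17 * 23) 11 13 [] :=
  gen_of_check (PS := [2, 3, 5, 7, 11, 13, 17, 23]) (C := [(3, [(3, 0, 1), (7, 1, 0)]), (5, [(5, 0, 1)]), (11, [(23, 0, 1)])]) (by decide +kernel)

theorem Fi23_11_17_L3 : Gen (2 ^ 18 * 3 ^ 13 * 5 ^ 2 * 7 * 11 * 13 * 17 * 23) 11 17 [3] :=
  gen_of_check (PS := [2, 3, 5, 7, 11, 13, 17, 23]) (C := [(3, [(7, 1, 1), (13, 0, 1)]), (5, [(5, 0, 1)]), (11, [(23, 0, 1)])]) (by decide +kernel)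

theorem Fi23_11_17_L7 : Gen (2 ^ 18 * 3 ^ 13 * 5 ^ 2 * 7 * 11 * 13 * 17 * 23) 11 17 [7] :=
  gen_of_check (PS := [2, 3, 5, 7, 11, 13, 17, 23]) (C := [(3, [(3, 1, 1), (13, 0, 1)]), (5, [(5, 0, 1)]), (11, [(23, 0, 1)])]) (by decide +kernel)

theorem Fi23_11_17_L13 : Gen (2 ^ 18 * 3 ^ 13 * 5 ^ 2 * 7 * 11 * 13 * 17 * 23) 11 17 [13] :=
  gen_of_check (PS := [2, 3, 5, 7, 11, 13, 17, 23]) (C := [(3, [(3, 1, 2), (7, 0, 1)]), (5, [(5, 0, 1)]), (11, [(23, 0, 1)])]) (by decide +kernel)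

theorem Fi23_11_23_L3 : Gen (2 ^ 18 * 3 ^ 13 * 5 ^ 2 * 7 * 11 * 13 * 17 * 23) 11 23 [3] :=
  gen_of_check (PS := [2, 3, 5, 7, 11, 13, 17, 23]) (C := [(3, [(7, 1, 2), (13, 0, 1)]), (5, [(5, 0, 1)])]) (by decide +kernel)

theorem Fi23_11_23_L7 : Gen (2 ^ 18 * 3 ^ 13 * 5 ^ 2 * 7 * 11 * 13 * 17 * 23) 11 23 [7] :=
  gen_of_check (PS := [2, 3, 5, 7, 11, 13, 17, 23]) (C := [(3, [(3, 1, 2), (13, 0, 1)]), (5, [(5, 0, 1)])]) (by decide +kernel)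

theorem Fi23_13_17 : Gen (2 ^ 18 * 3 ^ 13 * 5 ^ 2 * 7 * 11 * 13 * 17 * 23) 13 17 [] :=
  gen_of_check (PS := [2, 3, 5, 7, 11, 13, 17, 23]) (C := [(3, [(3, 1, 0), (7, 0, 1)]), (5, [(5, 1, 1), (11, 0, 1)]), (11, [(23, 0, 1)])]) (by decide +kernel)

theorem Fi23_13_23 : Gen (2 ^ 18 * 3 ^ 13 * 5 ^ 2 * 7 * 11 * 13 * 17 * 23) 13 23 [] :=
  gen_of_check (PS := [2, 3, 5, 7, 11, 13, 17, 23]) (C := [(3, [(3, 1, 0), (7, 0, 1)]), (5, [(5, 0, 1), (11, 1, 0)])]) (by decide +kernel)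

theorem Fi23_17_23_L7 : Gen (2 ^ 18 * 3 ^ 13 * 5 ^ 2 * 7 * 11 * 13 * 17 * 23) 17 23 [7] :=
  gen_of_check (PS := [2, 3, 5, 7, 11, 13, 17, 23]) (C := [(3, [(3, 1, 1), (13, 0, 1)]), (5, [(5, 0, 1), (11, 1, 0)])]) (by decide +kernel)

theorem Fi23_17_23_L13 : Gen (2 ^ 18 * 3 ^ 13 * 5 ^ 2 * 7 * 11 * 13 * 17 * 23) 17 23 [13] :=
  gen_of_check (PS := [2, 3, 5, 7, 11, 13, 17, 23]) (C := [(3, [(3, 1, 1), (7, 0, 1)]), (5, [(5, 0, 1), (11, 1, 0)])]) (by decide +kernel)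

theorem Fi24_11_13_L7 : Gen (2 ^ 21 * 3 ^ 16 * 5 ^ 2 * 7 ^ 3 * 11 * 13 * 17 * 23 * 29) 11 13 [7] :=
  gen_of_check (PS := [2, 3, 5, 7, 11, 13, 17, 23, 29]) (C := [(3, [(3, 0, 1)]), (5, [(5, 0, 1)]), (7, [(29, 0, 1)]), (11, [(23, 0, 1)])]) (by decide +kernel)

theorem Fi24_11_13_L29 : Gen (2 ^ 21 * 3 ^ 16 * 5 ^ 2 * 7 ^ 3 * 11 * 13 * 17 * 23 * 29) 11 13 [29] :=
  gen_of_check (PS := [2, 3, 5, 7, 11, 13, 17, 23, 29]) (C := [(3, [(3, 0, 1), (7, 1, 0)]), (5, [(5, 0, 1)]), (7, [(7, 0, 1)]), (11, [(23, 0, 1)])]) (by decide +kernel)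

theorem Fi24_11_17_L3 : Gen (2 ^ 21 * 3 ^ 16 * 5 ^ 2 * 7 ^ 3 * 11 * 13 * 17 * 23 * 29) 11 17 [3] :=
  gen_of_check (PS := [2, 3, 5, 7, 11, 13, 17, 23, 29]) (C := [(3, [(7, 1, 1), (13, 0, 1)]), (5, [(5, 0, 1)]), (7, [(7, 0, 1), (29, 1, 0)]), (11, [(23, 0, 1)])]) (by decide +kernel)

theorem Fi24_11_17_L7 : Gen (2 ^ 21 * 3 ^ 16 * 5 ^ 2 * 7 ^ 3 * 11 * 13 * 17 * 23 * 29) 11 17 [7] :=
  gen_of_check (PS := [2, 3, 5, 7, 11, 13, 17, 23, 29]) (C := [(3, [(3, 1, 1), (13, 0, 1)]), (5, [(5, 0, 1)]), (7, [(29, 1, 0)]), (11, [(23, 0, 1)])]) (by decide +kernel)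

theorem Fi24_11_17_L13 : Gen (2 ^ 21 * 3 ^ 16 * 5 ^ 2 * 7 ^ 3 * 11 * 13 * 17 * 23 * 29) 11 17 [13] :=
  gen_of_check (PS := [2, 3, 5, 7, 11, 13, 17, 23, 29]) (C := [(3, [(3, 1, 2), (7, 0, 1)]), (5, [(5, 0, 1)]), (7, [(7, 0, 1), (29, 1, 0)]), (11, [(23, 0, 1)])]) (by decide +kernel)

theorem Fi24_11_23_L3 : Gen (2 ^ 21 * 3 ^ 16 * 5 ^ 2 * 7 ^ 3 * 11 * 13 * 17 * 23 * 29) 11 23 [3] :=
  gen_of_check (PS := [2, 3, 5, 7, 11, 13, 17, 23, 29]) (C := [(3, [(7, 1, 2), (13, 0, 1)]), (5, [(5, 0, 1)]), (7, [(7, 1, 4), (29, 0, 1)])]) (by decide +kernel)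

theorem Fi24_11_23_L7 : Gen (2 ^ 21 * 3 ^ 16 * 5 ^ 2 * 7 ^ 3 * 11 * 13 * 17 * 23 * 29) 11 23 [7] :=
  gen_of_check (PS := [2, 3, 5, 7, 11, 13, 17, 23, 29]) (C := [(3, [(3, 1, 2), (13, 0, 1)]), (5, [(5, 0, 1)]), (7, [(29, 0, 1)])]) (by decide +kernel)

theorem Fi24_11_29_L3 : Gen (2 ^ 21 * 3 ^ 16 * 5 ^ 2 * 7 ^ 3 * 11 * 13 * 17 * 23 * 29) 11 29 [3] :=
  gen_of_check (PS := [2, 3, 5, 7, 11, 13, 17, 23, 29]) (C := [(3, [(7, 1, 2), (13, 0, 1)]), (5, [(5, 0, 1)]), (7, [(7, 0, 1)]), (11, [(23, 0, 1)])]) (by decide +kernel)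

theorem Fi24_11_29_L13 : Gen (2 ^ 21 * 3 ^ 16 * 5 ^ 2 * 7 ^ 3 * 11 * 13 * 17 * 23 * 29) 11 29 [13] :=
  gen_of_check (PS := [2, 3, 5, 7, 11, 13, 17, 23, 29]) (C := [(3, [(3, 0, 1), (7, 1, 0)]), (5, [(5, 0, 1)]), (7, [(7, 0, 1)]), (11, [(23, 0, 1)])]) (by decide +kernel)

theorem Fi24_13_17 : Gen (2 ^ 21 * 3 ^ 16 * 5 ^ 2 * 7 ^ 3 * 11 * 13 * 17 * 23 * 29) 13 17 [] :=
  gen_of_check (PS := [2, 3, 5, 7, 11, 13, 17, 23, 29]) (C := [(3, [(3, 1, 0), (7, 0, 1)]), (5, [(5, 1, 1), (11, 0, 1)]), (7, [(7, 0, 1), (29, 1, 0)]), (11, [(23, 0, 1)])]) (by decide +kernel)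

theorem Fi24_13_23 : Gen (2 ^ 21 * 3 ^ 16 * 5 ^ 2 * 7 ^ 3 * 11 * 13 * 17 * 23 * 29) 13 23 [] :=
  gen_of_check (PS := [2, 3, 5, 7, 11, 13, 17, 23, 29]) (C := [(3, [(3, 1, 0), (7, 0, 1)]), (5, [(5, 0, 1), (11, 1, 0)]), (7, [(7, 1, 4), (29, 0, 1)])]) (by decide +kernel)

theorem Fi24_13_29_L7 : Gen (2 ^ 21 * 3 ^ 16 * 5 ^ 2 * 7 ^ 3 * 11 * 13 * 17 * 23 * 29) 13 29 [7] :=
  gen_of_check (PS := [2, 3, 5, 7, 11, 13, 17, 23, 29]) (C := [(3, [(3, 0, 1)]), (5, [(5, 1, 2), (11, 0, 1)]), (11, [(23, 0, 1)])]) (by decide +kernel)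

theorem Fi24_17_23_L7 : Gen (2 ^ 21 * 3 ^ 16 * 5 ^ 2 * 7 ^ 3 * 11 * 13 * 17 * 23 * 29) 17 23 [7] :=
  gen_of_check (PS := [2, 3, 5, 7, 11, 13, 17, 23, 29]) (C := [(3, [(3, 1, 1), (13, 0, 1)]), (5, [(5, 0, 1), (11, 1, 0)]), (7, [(29, 0, 1)])]) (by decide +kernel)

theorem Fi24_17_23_L13 : Gen (2 ^ 21 * 3 ^ 16 * 5 ^ 2 * 7 ^ 3 * 11 * 13 * 17 * 23 * 29) 17 23 [13] :=
  gen_of_check (PS := [2, 3, 5, 7, 11, 13, 17, 23, 29]) (C := [(3, [(3, 1, 1), (7, 0, 1)]), (5, [(5, 0, 1), (11, 1, 0)]), (7, [(7, 1, 0), (29, 0, 1)])]) (by decide +kernel)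

theorem Fi24_17_29_L3 : Gen (2 ^ 21 * 3 ^ 16 * 5 ^ 2 * 7 ^ 3 * 11 * 13 * 17 * 23 * 29) 17 29 [3] :=
  gen_of_check (PS := [2, 3, 5, 7, 11, 13, 17, 23, 29]) (C := [(3, [(7, 1, 1), (13, 0, 1)]), (5, [(5, 1, 3), (11, 0, 1)]), (7, [(7, 0, 1)]), (11, [(23, 0, 1)])]) (by decide +kernel)

theorem Fi24_17_29_L7 : Gen (2 ^ 21 * 3 ^ 16 * 5 ^ 2 * 7 ^ 3 * 11 * 13 * 17 * 23 * 29) 17 29 [7] :=
  gen_of_check (PS := [2, 3, 5, 7, 11, 13, 17, 23, 29]) (C := [(3, [(3, 1, 1), (13, 0, 1)]), (5, [(5, 1, 3), (11, 0, 1)]), (11, [(23, 0, 1)])]) (by decide +kernel)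

theorem Fi24_17_29_L13 : Gen (2 ^ 21 * 3 ^ 16 * 5 ^ 2 * 7 ^ 3 * 11 * 13 * 17 * 23 * 29) 17 29 [13] :=
  gen_of_check (PS := [2, 3, 5, 7, 11, 13, 17, 23, 29]) (C := [(3, [(3, 0, 1), (7, 1, 0)]), (5, [(5, 1, 3), (11, 0, 1)]), (7, [(7, 0, 1)]), (11, [(23, 0, 1)])]) (by decide +kernel)

theorem Fi24_23_29_L3 : Gen (2 ^ 21 * 3 ^ 16 * 5 ^ 2 * 7 ^ 3 * 11 * 13 * 17 * 23 * 29) 23 29 [3] :=
  gen_of_check (PS := [2, 3, 5, 7, 11, 13, 17, 23, 29]) (C := [(3, [(7, 1, 2), (13, 0, 1)]), (5, [(5, 1, 0), (11, 0, 1)]), (7, [(7, 0, 1)])]) (by decide +kernel)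

theorem Fi24_23_29_L7 : Gen (2 ^ 21 * 3 ^ 16 * 5 ^ 2 * 7 ^ 3 * 11 * 13 * 17 * 23 * 29) 23 29 [7] :=
  gen_of_check (PS := [2, 3, 5, 7, 11, 13, 17, 23, 29]) (C := [(3, [(3, 1, 2), (13, 0, 1)]), (5, [(5, 1, 0), (11, 0, 1)])]) (by decide +kernel)

theorem Fi24_23_29_L13 : Gen (2 ^ 21 * 3 ^ 16 * 5 ^ 2 * 7 ^ 3 * 11 * 13 * 17 * 23 * 29) 23 29 [13] :=
  gen_of_check (PS := [2, 3, 5, 7, 11, 13, 17, 23, 29]) (C := [(3, [(3, 0, 1), (7, 1, 0)]), (5, [(5, 1, 0), (11, 0, 1)]), (7, [(7, 0, 1)])]) (by decide +kernel)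

theorem Co1_11_13 : Gen (2 ^ 21 * 3 ^ 9 * 5 ^ 4 * 7 ^ 2 * 11 * 13 * 23) 11 13 [] :=
  gen_of_check (PS := [2, 3, 5, 7, 11, 13, 23]) (C := [(3, [(3, 0, 1), (7, 1, 0)]), (5, [(5, 0, 1)]), (7, [(7, 0, 1)]), (11, [(23, 0, 1)])]) (by decide +kernel)

theorem Co1_11_23_L3 : Gen (2 ^ 21 * 3 ^ 9 * 5 ^ 4 * 7 ^ 2 * 11 * 13 * 23) 11 23 [3] :=
  gen_of_check (PS := [2, 3, 5, 7, 11, 13, 23]) (C := [(3, [(7, 1, 2), (13, 0, 1)]), (5, [(5, 0, 1)]), (7, [(7, 0, 1)])]) (by decide +kernel)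

theorem Co1_11_23_L7 : Gen (2 ^ 21 * 3 ^ 9 * 5 ^ 4 * 7 ^ 2 * 11 * 13 * 23) 11 23 [7] :=
  gen_of_check (PS := [2, 3, 5, 7, 11, 13, 23]) (C := [(3, [(3, 1, 2), (13, 0, 1)]), (5, [(5, 0, 1)])]) (by decide +kernel)

theorem Co1_13_23 : Gen (2 ^ 21 * 3 ^ 9 * 5 ^ 4 * 7 ^ 2 * 11 * 13 * 23) 13 23 [] :=
  gen_of_check (PS := [2, 3, 5, 7, 11, 13, 23]) (C := [(3, [(3, 1, 0), (7, 0, 1)]), (5, [(5, 0, 1), (11, 1, 0)]), (7, [(7, 0, 1)])]) (by decide +kernel)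

theorem J4_5_7_L3_31 : Gen (2 ^ 21 * 3 ^ 3 * 5 * 7 * 11 ^ 3 * 23 * 29 * 31 * 37 * 43) 5 7 [3, 31] :=
  gen_of_check (PS := [2, 3, 5, 7, 11, 23, 29, 31, 37, 43]) (C := [(3, [(37, 1, 1), (43, 0, 1)]), (5, [(11, 0, 1)]), (7, [(29, 0, 1), (43, 1, 0)]), (11, [(11, 1, 4), (23, 0, 1)])]) (by decide +kernel)

theorem J4_5_7_L3_43 : Gen (2 ^ 21 * 3 ^ 3 * 5 * 7 * 11 ^ 3 * 23 * 29 * 31 * 37 * 43) 5 7 [3, 43] :=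
  gen_of_check (PS := [2, 3, 5, 7, 11, 23, 29, 31, 37, 43]) (C := [(3, [(31, 1, 2), (37, 0, 1)]), (5, [(11, 1, 0), (31, 0, 1)]), (7, [(29, 0, 1)]), (11, [(11, 1, 4), (23, 0, 1)])]) (by decide +kernel)

theorem J4_5_7_L31_43 : Gen (2 ^ 21 * 3 ^ 3 * 5 * 7 * 11 ^ 3 * 23 * 29 * 31 * 37 * 43) 5 7 [31, 43] :=
  gen_of_check (PS := [2, 3, 5, 7, 11, 23, 29, 31, 37, 43]) (C := [(3, [(3, 1, 2), (37, 0, 1)]), (5, [(11, 0, 1)]), (7, [(29, 0, 1)]), (11, [(11, 1, 4), (23, 0, 1)])]) (by decide +kernel)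

theorem J4_5_23_L3_7_31 : Gen (2 ^ 21 * 3 ^ 3 * 5 * 7 * 11 ^ 3 * 23 * 29 * 31 * 37 * 43) 5 23 [3, 7, 31] :=
  gen_of_check (PS := [2, 3, 5, 7, 11, 23, 29, 31, 37, 43]) (C := [(3, [(37, 1, 2), (43, 0, 1)]), (5, [(11, 1, 0)]), (7, [(29, 1, 5), (43, 0, 1)]), (11, [(11, 0, 1)])]) (by decide +kernel)

theorem J4_5_23_L3_7_37 : Gen (2 ^ 21 * 3 ^ 3 * 5 * 7 * 11 ^ 3 * 23 * 29 * 31 * 37 * 43) 5 23 [3, 7, 37] :=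
  gen_of_check (PS := [2, 3, 5, 7, 11, 23, 29, 31, 37, 43]) (C := [(3, [(31, 1, 2), (43, 0, 1)]), (5, [(11, 1, 0), (31, 0, 1)]), (7, [(29, 1, 5), (43, 0, 1)]), (11, [(11, 0, 1)])]) (by decide +kernel)

theorem J4_5_23_L3_31_43 : Gen (2 ^ 21 * 3 ^ 3 * 5 * 7 * 11 ^ 3 * 23 * 29 * 31 * 37 * 43) 5 23 [3, 31, 43] :=
  gen_of_check (PS := [2, 3, 5, 7, 11, 23, 29, 31, 37, 43]) (C := [(3, [(7, 0, 1), (37, 1, 0)]), (5, [(11, 1, 0)]), (7, [(29, 0, 1)]), (11, [(11, 0, 1)])]) (by decide +kernel)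

theorem J4_5_23_L3_37_43 : Gen (2 ^ 21 * 3 ^ 3 * 5 * 7 * 11 ^ 3 * 23 * 29 * 31 * 37 * 43) 5 23 [3, 37, 43] :=
  gen_of_check (PS := [2, 3, 5, 7, 11, 23, 29, 31, 37, 43]) (C := [(3, [(7, 0, 1), (31, 1, 0)]), (5, [(11, 1, 0), (31, 0, 1)]), (7, [(29, 0, 1)]), (11, [(11, 0, 1)])]) (by decide +kernel)

theorem J4_5_23_L7_31_43 : Gen (2 ^ 21 * 3 ^ 3 * 5 * 7 * 11 ^ 3 * 23 * 29 * 31 * 37 * 43) 5 23 [7, 31, 43] :=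
  gen_of_check (PS := [2, 3, 5, 7, 11, 23, 29, 31, 37, 43]) (C := [(3, [(3, 0, 1), (37, 1, 0)]), (5, [(11, 1, 0)]), (7, [(29, 0, 1)]), (11, [(11, 0, 1)])]) (by decide +kernel)

theorem J4_5_23_L7_37_43 : Gen (2 ^ 21 * 3 ^ 3 * 5 * 7 * 11 ^ 3 * 23 * 29 * 31 * 37 * 43) 5 23 [7, 37, 43] :=
  gen_of_check (PS := [2, 3, 5, 7, 11, 23, 29, 31, 37, 43]) (C := [(3, [(3, 0, 1), (31, 1, 0)]), (5, [(11, 1, 0), (31, 0, 1)]), (7, [(29, 0, 1)]), (11, [(11, 0, 1)])]) (by decide +kernel)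

theorem J4_5_29_L3_7_31 : Gen (2 ^ 21 * 3 ^ 3 * 5 * 7 * 11 ^ 3 * 23 * 29 * 31 * 37 * 43) 5 29 [3, 7, 31] :=
  gen_of_check (PS := [2, 3, 5, 7, 11, 23, 29, 31, 37, 43]) (C := [(3, [(37, 1, 1), (43, 0, 1)]), (5, [(11, 0, 1)]), (7, [(43, 0, 1)]), (11, [(11, 1, 3), (23, 0, 1)])]) (by decide +kernel)

theorem J4_5_29_L3_7_37 : Gen (2 ^ 21 * 3 ^ 3 * 5 * 7 * 11 ^ 3 * 23 * 29 * 31 * 37 * 43) 5 29 [3, 7, 37] :=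
  gen_of_check (PS := [2, 3, 5, 7, 11, 23, 29, 31, 37, 43]) (C := [(3, [(31, 1, 1), (43, 0, 1)]), (5, [(11, 1, 0), (31, 0, 1)]), (7, [(43, 0, 1)]), (11, [(11, 1, 3), (23, 0, 1)])]) (by decide +kernel)

theorem J4_5_29_L3_31_37 : Gen (2 ^ 21 * 3 ^ 3 * 5 * 7 * 11 ^ 3 * 23 * 29 * 31 * 37 * 43) 5 29 [3, 31, 37] :=
  gen_of_check (PS := [2, 3, 5, 7, 11, 23, 29, 31, 37, 43]) (C := [(3, [(7, 1, 1), (43, 0, 1)]), (5, [(11, 0, 1)]), (7, [(43, 0, 1)]), (11, [(11, 1, 3), (23, 0, 1)])]) (by decide +kernel)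

theorem J4_5_29_L7_31_43 : Gen (2 ^ 21 * 3 ^ 3 * 5 * 7 * 11 ^ 3 * 23 * 29 * 31 * 37 * 43) 5 29 [7, 31, 43] :=
  gen_of_check (PS := [2, 3, 5, 7, 11, 23, 29, 31, 37, 43]) (C := [(3, [(3, 0, 1), (37, 1, 0)]), (5, [(11, 0, 1)]), (11, [(11, 1, 3), (23, 0, 1)])]) (by decide +kernel)

theorem J4_5_29_L7_37_43 : Gen (2 ^ 21 * 3 ^ 3 * 5 * 7 * 11 ^ 3 * 23 * 29 * 31 * 37 * 43) 5 29 [7, 37, 43] :=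
  gen_of_check (PS := [2, 3, 5, 7, 11, 23, 29, 31, 37, 43]) (C := [(3, [(3, 0, 1), (31, 1, 0)]), (5, [(11, 1, 0), (31, 0, 1)]), (11, [(11, 1, 3), (23, 0, 1)])]) (by decide +kernel)

theorem J4_5_29_L31_37_43 : Gen (2 ^ 21 * 3 ^ 3 * 5 * 7 * 11 ^ 3 * 23 * 29 * 31 * 37 * 43) 5 29 [31, 37, 43] :=
  gen_of_check (PS := [2, 3, 5, 7, 11, 23, 29, 31, 37, 43]) (C := [(3, [(3, 0, 1), (7, 1, 0)]), (5, [(11, 0, 1)]), (11, [(11, 1, 3), (23, 0, 1)])]) (by decide +kernel)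

theorem J4_5_31_L3_7 : Gen (2 ^ 21 * 3 ^ 3 * 5 * 7 * 11 ^ 3 * 23 * 29 * 31 * 37 * 43) 5 31 [3, 7] :=
  gen_of_check (PS := [2, 3, 5, 7, 11, 23, 29, 31, 37, 43]) (C := [(3, [(37, 1, 2), (43, 0, 1)]), (5, [(11, 0, 1)]), (7, [(29, 1, 4), (43, 0, 1)]), (11, [(11, 1, 9), (23, 0, 1)])]) (by decide +kernel)

theorem J4_5_31_L3_37 : Gen (2 ^ 21 * 3 ^ 3 * 5 * 7 * 11 ^ 3 * 23 * 29 * 31 * 37 * 43) 5 31 [3, 37] :=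
  gen_of_check (PS := [2, 3, 5, 7, 11, 23, 29, 31, 37, 43]) (C := [(3, [(7, 1, 2), (43, 0, 1)]), (5, [(11, 0, 1)]), (7, [(29, 1, 4), (43, 0, 1)]), (11, [(11, 1, 9), (23, 0, 1)])]) (by decide +kernel)

theorem J4_5_31_L3_43 : Gen (2 ^ 21 * 3 ^ 3 * 5 * 7 * 11 ^ 3 * 23 * 29 * 31 * 37 * 43) 5 31 [3, 43] :=
  gen_of_check (PS := [2, 3, 5, 7, 11, 23, 29, 31, 37, 43]) (C := [(3, [(7, 0, 1), (37, 1, 0)]), (5, [(11, 0, 1)]), (7, [(29, 0, 1)]), (11, [(11, 1, 9), (23, 0, 1)])]) (by decide +kernel)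

theorem J4_5_31_L7_43 : Gen (2 ^ 21 * 3 ^ 3 * 5 * 7 * 11 ^ 3 * 23 * 29 * 31 * 37 * 43) 5 31 [7, 43] :=
  gen_of_check (PS := [2, 3, 5, 7, 11, 23, 29, 31, 37, 43]) (C := [(3, [(3, 0, 1), (37, 1, 0)]), (5, [(11, 0, 1)]), (7, [(29, 0, 1)]), (11, [(11, 1, 9), (23, 0, 1)])]) (by decide +kernel)

theorem J4_5_31_L37_43 : Gen (2 ^ 21 * 3 ^ 3 * 5 * 7 * 11 ^ 3 * 23 * 29 * 31 * 37 * 43) 5 31 [37, 43] :=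
  gen_of_check (PS := [2, 3, 5, 7, 11, 23, 29, 31, 37, 43]) (C := [(3, [(3, 1, 1), (7, 0, 1)]), (5, [(11, 0, 1)]), (7, [(29, 0, 1)]), (11, [(11, 1, 9), (23, 0, 1)])]) (by decide +kernel)

theorem J4_5_37_L7_31 : Gen (2 ^ 21 * 3 ^ 3 * 5 * 7 * 11 ^ 3 * 23 * 29 * 31 * 37 * 43) 5 37 [7, 31] :=
  gen_of_check (PS := [2, 3, 5, 7, 11, 23, 29, 31, 37, 43]) (C := [(3, [(3, 1, 2), (43, 0, 1)]), (5, [(11, 0, 1)]), (7, [(29, 0, 1), (43, 1, 0)]), (11, [(11, 1, 1), (23, 0, 1)])]) (by decide +kernel)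

theorem J4_5_37_L31_43 : Gen (2 ^ 21 * 3 ^ 3 * 5 * 7 * 11 ^ 3 * 23 * 29 * 31 * 37 * 43) 5 37 [31, 43] :=
  gen_of_check (PS := [2, 3, 5, 7, 11, 23, 29, 31, 37, 43]) (C := [(3, [(3, 1, 2), (7, 0, 1)]), (5, [(11, 0, 1)]), (7, [(29, 0, 1)]), (11, [(11, 1, 1), (23, 0, 1)])]) (by decide +kernel)

theorem J4_5_43_L3_7 : Gen (2 ^ 21 * 3 ^ 3 * 5 * 7 * 11 ^ 3 * 23 * 29 * 31 * 37 * 43) 5 43 [3, 7] :=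
  gen_of_check (PS := [2, 3, 5, 7, 11, 23, 29, 31, 37, 43]) (C := [(3, [(31, 0, 1), (37, 1, 0)]), (5, [(11, 1, 0), (31, 0, 1)]), (7, [(29, 0, 1)]), (11, [(11, 1, 2), (23, 0, 1)])]) (by decide +kernel)

theorem J4_5_43_L3_37 : Gen (2 ^ 21 * 3 ^ 3 * 5 * 7 * 11 ^ 3 * 23 * 29 * 31 * 37 * 43) 5 43 [3, 37] :=
  gen_of_check (PS := [2, 3, 5, 7, 11, 23, 29, 31, 37, 43]) (C := [(3, [(7, 1, 1), (31, 0, 1)]), (5, [(11, 1, 0), (31, 0, 1)]), (7, [(29, 0, 1)]), (11, [(11, 1, 2), (23, 0, 1)])]) (by decide +kernel)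

theorem J4_5_43_L7_31 : Gen (2 ^ 21 * 3 ^ 3 * 5 * 7 * 11 ^ 3 * 23 * 29 * 31 * 37 * 43) 5 43 [7, 31] :=
  gen_of_check (PS := [2, 3, 5, 7, 11, 23, 29, 31, 37, 43]) (C := [(3, [(3, 0, 1), (37, 1, 0)]), (5, [(11, 1, 0)]), (7, [(29, 0, 1)]), (11, [(11, 1, 2), (23, 0, 1)])]) (by decide +kernel)

theorem J4_5_43_L31_37 : Gen (2 ^ 21 * 3 ^ 3 * 5 * 7 * 11 ^ 3 * 23 * 29 * 31 * 37 * 43) 5 43 [31, 37] :=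
  gen_of_check (PS := [2, 3, 5, 7, 11, 23, 29, 31, 37, 43]) (C := [(3, [(3, 0, 1), (7, 1, 0)]), (5, [(11, 1, 0)]), (7, [(29, 0, 1)]), (11, [(11, 1, 2), (23, 0, 1)])]) (by decide +kernel)

theorem J4_7_23_L3_31 : Gen (2 ^ 21 * 3 ^ 3 * 5 * 7 * 11 ^ 3 * 23 * 29 * 31 * 37 * 43) 7 23 [3, 31] :=
  gen_of_check (PS := [2, 3, 5, 7, 11, 23, 29, 31, 37, 43]) (C := [(3, [(37, 1, 1), (43, 0, 1)]), (5, [(11, 1, 0)]), (7, [(29, 1, 0), (43, 0, 1)]), (11, [(11, 0, 1)])]) (by decide +kernel)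

theorem J4_7_23_L3_37 : Gen (2 ^ 21 * 3 ^ 3 * 5 * 7 * 11 ^ 3 * 23 * 29 * 31 * 37 * 43) 7 23 [3, 37] :=
  gen_of_check (PS := [2, 3, 5, 7, 11, 23, 29, 31, 37, 43]) (C := [(3, [(31, 1, 1), (43, 0, 1)]), (5, [(11, 1, 1), (31, 0, 1)]), (7, [(29, 1, 0), (43, 0, 1)]), (11, [(11, 0, 1)])]) (by decide +kernel)

theorem J4_7_23_L31_43 : Gen (2 ^ 21 * 3 ^ 3 * 5 * 7 * 11 ^ 3 * 23 * 29 * 31 * 37 * 43) 7 23 [31, 43] :=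
  gen_of_check (PS := [2, 3, 5, 7, 11, 23, 29, 31, 37, 43]) (C := [(3, [(3, 0, 1), (37, 1, 0)]), (5, [(11, 1, 0)]), (7, [(29, 0, 1)]), (11, [(11, 0, 1)])]) (by decide +kernel)

theorem J4_7_23_L37_43 : Gen (2 ^ 21 * 3 ^ 3 * 5 * 7 * 11 ^ 3 * 23 * 29 * 31 * 37 * 43) 7 23 [37, 43] :=
  gen_of_check (PS := [2, 3, 5, 7, 11, 23, 29, 31, 37, 43]) (C := [(3, [(3, 0, 1), (31, 1, 0)]), (5, [(11, 1, 1), (31, 0, 1)]), (7, [(29, 0, 1)]), (11, [(11, 0, 1)])]) (by decide +kernel)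

theorem J4_7_29_L3_31 : Gen (2 ^ 21 * 3 ^ 3 * 5 * 7 * 11 ^ 3 * 23 * 29 * 31 * 37 * 43) 7 29 [3, 31] :=
  gen_of_check (PS := [2, 3, 5, 7, 11, 23, 29, 31, 37, 43]) (C := [(3, [(37, 1, 2), (43, 0, 1)]), (5, [(11, 0, 1)]), (7, [(43, 0, 1)]), (11, [(11, 1, 2), (23, 0, 1)])]) (by decide +kernel)

theorem J4_7_29_L3_37 : Gen (2 ^ 21 * 3 ^ 3 * 5 * 7 * 11 ^ 3 * 23 * 29 * 31 * 37 * 43) 7 29 [3, 37] :=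
  gen_of_check (PS := [2, 3, 5, 7, 11, 23, 29, 31, 37, 43]) (C := [(3, [(31, 1, 2), (43, 0, 1)]), (5, [(11, 1, 3), (31, 0, 1)]), (7, [(43, 0, 1)]), (11, [(11, 1, 2), (23, 0, 1)])]) (by decide +kernel)

theorem J4_7_29_L31_43 : Gen (2 ^ 21 * 3 ^ 3 * 5 * 7 * 11 ^ 3 * 23 * 29 * 31 * 37 * 43) 7 29 [31, 43] :=
  gen_of_check (PS := [2, 3, 5, 7, 11, 23, 29, 31, 37, 43]) (C := [(3, [(3, 0, 1), (37, 1, 0)]), (5, [(11, 0, 1)]), (11, [(11, 1, 2), (23, 0, 1)])]) (by decide +kernel)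

theorem J4_7_29_L37_43 : Gen (2 ^ 21 * 3 ^ 3 * 5 * 7 * 11 ^ 3 * 23 * 29 * 31 * 37 * 43) 7 29 [37, 43] :=
  gen_of_check (PS := [2, 3, 5, 7, 11, 23, 29, 31, 37, 43]) (C := [(3, [(3, 0, 1), (31, 1, 0)]), (5, [(11, 1, 3), (31, 0, 1)]), (11, [(11, 1, 2), (23, 0, 1)])]) (by decide +kernel)

theorem J4_7_31_L3 : Gen (2 ^ 21 * 3 ^ 3 * 5 * 7 * 11 ^ 3 * 23 * 29 * 31 * 37 * 43) 7 31 [3] :=
  gen_of_check (PS := [2, 3, 5, 7, 11, 23, 29, 31, 37, 43]) (C := [(3, [(37, 1, 1), (43, 0, 1)]), (5, [(11, 0, 1)]), (7, [(29, 1, 0), (43, 0, 1)]), (11, [(11, 1, 6), (23, 0, 1)])]) (by decide +kernel)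

theorem J4_7_31_L43 : Gen (2 ^ 21 * 3 ^ 3 * 5 * 7 * 11 ^ 3 * 23 * 29 * 31 * 37 * 43) 7 31 [43] :=
  gen_of_check (PS := [2, 3, 5, 7, 11, 23, 29, 31, 37, 43]) (C := [(3, [(3, 0, 1), (37, 1, 0)]), (5, [(11, 0, 1)]), (7, [(29, 0, 1)]), (11, [(11, 1, 6), (23, 0, 1)])]) (by decide +kernel)

theorem J4_7_37_L43 : Gen (2 ^ 21 * 3 ^ 3 * 5 * 7 * 11 ^ 3 * 23 * 29 * 31 * 37 * 43) 7 37 [43] :=
  gen_of_check (PS := [2, 3, 5, 7, 11, 23, 29, 31, 37, 43]) (C := [(3, [(3, 1, 2), (31, 0, 1)]), (5, [(11, 0, 1), (31, 1, 0)]), (7, [(29, 0, 1)]), (11, [(11, 1, 8), (23, 0, 1)])]) (by decide +kernel)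

theorem J4_7_43_L3_11 : Gen (2 ^ 21 * 3 ^ 3 * 5 * 7 * 11 ^ 3 * 23 * 29 * 31 * 37 * 43) 7 43 [3, 11] :=
  gen_of_check (PS := [2, 3, 5, 7, 11, 23, 29, 31, 37, 43]) (C := [(3, [(31, 0, 1), (37, 1, 0)]), (5, [(31, 0, 1)]), (7, [(29, 0, 1)]), (11, [(23, 0, 1)])]) (by decide +kernel)

theorem J4_7_43_L3_23 : Gen (2 ^ 21 * 3 ^ 3 * 5 * 7 * 11 ^ 3 * 23 * 29 * 31 * 37 * 43) 7 43 [3, 23] :=
  gen_of_check (PS := [2, 3, 5, 7, 11, 23, 29, 31, 37, 43]) (C := [(3, [(31, 0, 1), (37, 1, 0)]), (5, [(11, 1, 3), (31, 0, 1)]), (7, [(29, 0, 1)]), (11, [(11, 0, 1)])]) (by decide +kernel)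

theorem J4_7_43_L11_31 : Gen (2 ^ 21 * 3 ^ 3 * 5 * 7 * 11 ^ 3 * 23 * 29 * 31 * 37 * 43) 7 43 [11, 31] :=
  gen_of_check (PS := [2, 3, 5, 7, 11, 23, 29, 31, 37, 43]) (C := [(3, [(3, 0, 1), (37, 1, 0)]), (7, [(29, 0, 1)]), (11, [(23, 0, 1)])]) (by decide +kernel)

theorem J4_7_43_L23_31 : Gen (2 ^ 21 * 3 ^ 3 * 5 * 7 * 11 ^ 3 * 23 * 29 * 31 * 37 * 43) 7 43 [23, 31] :=
  gen_of_check (PS := [2, 3, 5, 7, 11, 23, 29, 31, 37, 43]) (C := [(3, [(3, 0, 1), (37, 1, 0)]), (5, [(11, 1, 0)]), (7, [(29, 0, 1)]), (11, [(11, 0, 1)])]) (by decide +kernel)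

theorem J4_23_29_L3_31_37 : Gen (2 ^ 21 * 3 ^ 3 * 5 * 7 * 11 ^ 3 * 23 * 29 * 31 * 37 * 43) 23 29 [3, 31, 37] :=
  gen_of_check (PS := [2, 3, 5, 7, 11, 23, 29, 31, 37, 43]) (C := [(3, [(7, 1, 1), (43, 0, 1)]), (5, [(11, 0, 1)]), (7, [(43, 0, 1)]), (11, [(11, 0, 1)])]) (by decide +kernel)

theorem J4_23_29_L31_37_43 : Gen (2 ^ 21 * 3 ^ 3 * 5 * 7 * 11 ^ 3 * 23 * 29 * 31 * 37 * 43) 23 29 [31, 37, 43] :=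
  gen_of_check (PS := [2, 3, 5, 7, 11, 23, 29, 31, 37, 43]) (C := [(3, [(3, 0, 1), (7, 1, 0)]), (5, [(11, 0, 1)]), (11, [(11, 0, 1)])]) (by decide +kernel)

theorem J4_23_31_L3_37 : Gen (2 ^ 21 * 3 ^ 3 * 5 * 7 * 11 ^ 3 * 23 * 29 * 31 * 37 * 43) 23 31 [3, 37] :=
  gen_of_check (PS := [2, 3, 5, 7, 11, 23, 29, 31, 37, 43]) (C := [(3, [(7, 1, 2), (43, 0, 1)]), (5, [(11, 0, 1)]), (7, [(29, 1, 2), (43, 0, 1)]), (11, [(11, 0, 1)])]) (by decide +kernel)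

theorem J4_23_31_L37_43 : Gen (2 ^ 21 * 3 ^ 3 * 5 * 7 * 11 ^ 3 * 23 * 29 * 31 * 37 * 43) 23 31 [37, 43] :=
  gen_of_check (PS := [2, 3, 5, 7, 11, 23, 29, 31, 37, 43]) (C := [(3, [(3, 1, 1), (7, 0, 1)]), (5, [(11, 0, 1)]), (7, [(29, 0, 1)]), (11, [(11, 0, 1)])]) (by decide +kernel)

theorem J4_23_37_L3_7 : Gen (2 ^ 21 * 3 ^ 3 * 5 * 7 * 11 ^ 3 * 23 * 29 * 31 * 37 * 43) 23 37 [3, 7] :=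
  gen_of_check (PS := [2, 3, 5, 7, 11, 23, 29, 31, 37, 43]) (C := [(3, [(31, 1, 2), (43, 0, 1)]), (5, [(11, 0, 1), (31, 1, 0)]), (7, [(29, 0, 1), (43, 1, 0)]), (11, [(11, 0, 1)])]) (by decide +kernel)

theorem J4_23_37_L3_43 : Gen (2 ^ 21 * 3 ^ 3 * 5 * 7 * 11 ^ 3 * 23 * 29 * 31 * 37 * 43) 23 37 [3, 43] :=
  gen_of_check (PS := [2, 3, 5, 7, 11, 23, 29, 31, 37, 43]) (C := [(3, [(7, 1, 0), (31, 0, 1)]), (5, [(11, 0, 1), (31, 1, 0)]), (7, [(29, 0, 1)]), (11, [(11, 0, 1)])]) (by decide +kernel)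

theorem J4_23_37_L7_31 : Gen (2 ^ 21 * 3 ^ 3 * 5 * 7 * 11 ^ 3 * 23 * 29 * 31 * 37 * 43) 23 37 [7, 31] :=
  gen_of_check (PS := [2, 3, 5, 7, 11, 23, 29, 31, 37, 43]) (C := [(3, [(3, 1, 2), (43, 0, 1)]), (5, [(11, 0, 1)]), (7, [(29, 0, 1), (43, 1, 0)]), (11, [(11, 0, 1)])]) (by decide +kernel)

theorem J4_23_37_L7_43 : Gen (2 ^ 21 * 3 ^ 3 * 5 * 7 * 11 ^ 3 * 23 * 29 * 31 * 37 * 43) 23 37 [7, 43] :=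
  gen_of_check (PS := [2, 3, 5, 7, 11, 23, 29, 31, 37, 43]) (C := [(3, [(3, 1, 0), (31, 0, 1)]), (5, [(11, 0, 1), (31, 1, 0)]), (7, [(29, 0, 1)]), (11, [(11, 0, 1)])]) (by decide +kernel)

theorem J4_23_37_L31_43 : Gen (2 ^ 21 * 3 ^ 3 * 5 * 7 * 11 ^ 3 * 23 * 29 * 31 * 37 * 43) 23 37 [31, 43] :=
  gen_of_check (PS := [2, 3, 5, 7, 11, 23, 29, 31, 37, 43]) (C := [(3, [(3, 1, 2), (7, 0, 1)]), (5, [(11, 0, 1)]), (7, [(29, 0, 1)]), (11, [(11, 0, 1)])]) (by decide +kernel)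

theorem J4_23_43_L3_11_37 : Gen (2 ^ 21 * 3 ^ 3 * 5 * 7 * 11 ^ 3 * 23 * 29 * 31 * 37 * 43) 23 43 [3, 11, 37] :=
  gen_of_check (PS := [2, 3, 5, 7, 11, 23, 29, 31, 37, 43]) (C := [(3, [(7, 1, 0), (31, 0, 1)]), (5, [(31, 0, 1)]), (7, [(29, 0, 1)])]) (by decide +kernel)

theorem J4_23_43_L7_11_37 : Gen (2 ^ 21 * 3 ^ 3 * 5 * 7 * 11 ^ 3 * 23 * 29 * 31 * 37 * 43) 23 43 [7, 11, 37] :=
  gen_of_check (PS := [2, 3, 5, 7, 11, 23, 29, 31, 37, 43]) (C := [(3, [(3, 1, 0), (31, 0, 1)]), (5, [(31, 0, 1)]), (7, [(29, 0, 1)])]) (by decide +kernel)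

theorem J4_23_43_L11_31_37 : Gen (2 ^ 21 * 3 ^ 3 * 5 * 7 * 11 ^ 3 * 23 * 29 * 31 * 37 * 43) 23 43 [11, 31, 37] :=
  gen_of_check (PS := [2, 3, 5, 7, 11, 23, 29, 31, 37, 43]) (C := [(3, [(3, 0, 1), (7, 1, 0)]), (7, [(29, 0, 1)])]) (by decide +kernel)

theorem J4_29_31_L3_37 : Gen (2 ^ 21 * 3 ^ 3 * 5 * 7 * 11 ^ 3 * 23 * 29 * 31 * 37 * 43) 29 31 [3, 37] :=
  gen_of_check (PS := [2, 3, 5, 7, 11, 23, 29, 31, 37, 43]) (C := [(3, [(7, 1, 1), (43, 0, 1)]), (5, [(11, 0, 1)]), (7, [(43, 0, 1)]), (11, [(11, 1, 8), (23, 0, 1)])]) (by decide +kernel)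

theorem J4_29_31_L37_43 : Gen (2 ^ 21 * 3 ^ 3 * 5 * 7 * 11 ^ 3 * 23 * 29 * 31 * 37 * 43) 29 31 [37, 43] :=
  gen_of_check (PS := [2, 3, 5, 7, 11, 23, 29, 31, 37, 43]) (C := [(3, [(3, 1, 0), (7, 0, 1)]), (5, [(11, 0, 1)]), (11, [(11, 1, 8), (23, 0, 1)])]) (by decide +kernel)

theorem J4_29_37_L3_7 : Gen (2 ^ 21 * 3 ^ 3 * 5 * 7 * 11 ^ 3 * 23 * 29 * 31 * 37 * 43) 29 37 [3, 7] :=
  gen_of_check (PS := [2, 3, 5, 7, 11, 23, 29, 31, 37, 43]) (C := [(3, [(31, 1, 1), (43, 0, 1)]), (5, [(11, 0, 1), (31, 1, 0)]), (7, [(43, 1, 0)]), (11, [(11, 1, 7), (23, 0, 1)])]) (by decide +kernel)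

theorem J4_29_37_L3_31 : Gen (2 ^ 21 * 3 ^ 3 * 5 * 7 * 11 ^ 3 * 23 * 29 * 31 * 37 * 43) 29 37 [3, 31] :=
  gen_of_check (PS := [2, 3, 5, 7, 11, 23, 29, 31, 37, 43]) (C := [(3, [(7, 1, 1), (43, 0, 1)]), (5, [(11, 0, 1)]), (7, [(43, 1, 0)]), (11, [(11, 1, 7), (23, 0, 1)])]) (by decide +kernel)

theorem J4_29_37_L7_31 : Gen (2 ^ 21 * 3 ^ 3 * 5 * 7 * 11 ^ 3 * 23 * 29 * 31 * 37 * 43) 29 37 [7, 31] :=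
  gen_of_check (PS := [2, 3, 5, 7, 11, 23, 29, 31, 37, 43]) (C := [(3, [(3, 1, 1), (43, 0, 1)]), (5, [(11, 0, 1)]), (7, [(43, 1, 0)]), (11, [(11, 1, 7), (23, 0, 1)])]) (by decide +kernel)

theorem J4_29_37_L7_43 : Gen (2 ^ 21 * 3 ^ 3 * 5 * 7 * 11 ^ 3 * 23 * 29 * 31 * 37 * 43) 29 37 [7, 43] :=
  gen_of_check (PS := [2, 3, 5, 7, 11, 23, 29, 31, 37, 43]) (C := [(3, [(3, 1, 0), (31, 0, 1)]), (5, [(11, 0, 1), (31, 1, 0)]), (11, [(11, 1, 7), (23, 0, 1)])]) (by decide +kernel)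

theorem J4_29_37_L31_43 : Gen (2 ^ 21 * 3 ^ 3 * 5 * 7 * 11 ^ 3 * 23 * 29 * 31 * 37 * 43) 29 37 [31, 43] :=
  gen_of_check (PS := [2, 3, 5, 7, 11, 23, 29, 31, 37, 43]) (C := [(3, [(3, 1, 0), (7, 0, 1)]), (5, [(11, 0, 1)]), (11, [(11, 1, 7), (23, 0, 1)])]) (by decide +kernel)

theorem J4_29_43_L7_37 : Gen (2 ^ 21 * 3 ^ 3 * 5 * 7 * 11 ^ 3 * 23 * 29 * 31 * 37 * 43) 29 43 [7, 37] :=
  gen_of_check (PS := [2, 3, 5, 7, 11, 23, 29, 31, 37, 43]) (C := [(3, [(3, 1, 0), (31, 0, 1)]), (5, [(11, 1, 4), (31, 0, 1)]), (11, [(11, 1, 3), (23, 0, 1)])]) (by decide +kernel)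

theorem J4_31_37_L3 : Gen (2 ^ 21 * 3 ^ 3 * 5 * 7 * 11 ^ 3 * 23 * 29 * 31 * 37 * 43) 31 37 [3] :=
  gen_of_check (PS := [2, 3, 5, 7, 11, 23, 29, 31, 37, 43]) (C := [(3, [(7, 1, 2), (43, 0, 1)]), (5, [(11, 0, 1)]), (7, [(29, 0, 1), (43, 1, 0)]), (11, [(11, 1, 6), (23, 0, 1)])]) (by decide +kernel)

theorem J4_31_37_L7 : Gen (2 ^ 21 * 3 ^ 3 * 5 * 7 * 11 ^ 3 * 23 * 29 * 31 * 37 * 43) 31 37 [7] :=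
  gen_of_check (PS := [2, 3, 5, 7, 11, 23, 29, 31, 37, 43]) (C := [(3, [(3, 1, 2), (43, 0, 1)]), (5, [(11, 0, 1)]), (7, [(29, 0, 1), (43, 1, 0)]), (11, [(11, 1, 6), (23, 0, 1)])]) (by decide +kernel)

theorem J4_31_37_L43 : Gen (2 ^ 21 * 3 ^ 3 * 5 * 7 * 11 ^ 3 * 23 * 29 * 31 * 37 * 43) 31 37 [43] :=
  gen_of_check (PS := [2, 3, 5, 7, 11, 23, 29, 31, 37, 43]) (C := [(3, [(3, 1, 1), (7, 0, 1)]), (5, [(11, 0, 1)]), (7, [(29, 0, 1)]), (11, [(11, 1, 6), (23, 0, 1)])]) (by decide +kernel)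

theorem J4_31_43_L37 : Gen (2 ^ 21 * 3 ^ 3 * 5 * 7 * 11 ^ 3 * 23 * 29 * 31 * 37 * 43) 31 43 [37] :=
  gen_of_check (PS := [2, 3, 5, 7, 11, 23, 29, 31, 37, 43]) (C := [(3, [(3, 0, 1), (7, 1, 0)]), (5, [(11, 1, 0)]), (7, [(29, 0, 1)]), (11, [(11, 1, 1), (23, 0, 1)])]) (by decide +kernel)

theorem J4_37_43_L3 : Gen (2 ^ 21 * 3 ^ 3 * 5 * 7 * 11 ^ 3 * 23 * 29 * 31 * 37 * 43) 37 43 [3] :=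
  gen_of_check (PS := [2, 3, 5, 7, 11, 23, 29, 31, 37, 43]) (C := [(3, [(7, 1, 2), (31, 0, 1)]), (5, [(11, 1, 0), (31, 0, 1)]), (7, [(29, 0, 1)]), (11, [(11, 1, 9), (23, 0, 1)])]) (by decide +kernel)

theorem J4_37_43_L7 : Gen (2 ^ 21 * 3 ^ 3 * 5 * 7 * 11 ^ 3 * 23 * 29 * 31 * 37 * 43) 37 43 [7] :=
  gen_of_check (PS := [2, 3, 5, 7, 11, 23, 29, 31, 37, 43]) (C := [(3, [(3, 1, 2), (31, 0, 1)]), (5, [(11, 1, 0), (31, 0, 1)]), (7, [(29, 0, 1)]), (11, [(11, 1, 9), (23, 0, 1)])]) (by decide +kernel)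

theorem J4_37_43_L31 : Gen (2 ^ 21 * 3 ^ 3 * 5 * 7 * 11 ^ 3 * 23 * 29 * 31 * 37 * 43) 37 43 [31] :=
  gen_of_check (PS := [2, 3, 5, 7, 11, 23, 29, 31, 37, 43]) (C := [(3, [(3, 0, 1), (7, 1, 0)]), (5, [(11, 1, 0)]), (7, [(29, 0, 1)]), (11, [(11, 1, 9), (23, 0, 1)])]) (by decide +kernel)

theorem B_11_13_L3_7 : Gen (2 ^ 41 * 3 ^ 13 * 5 ^ 6 * 7 ^ 2 * 11 * 13 * 17 * 19 * 23 * 31 * 47) 11 13 [3, 7] :=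
  gen_of_check (PS := [2, 3, 5, 7, 11, 13, 17, 19, 23, 31, 47]) (C := [(3, [(19, 1, 2), (31, 0, 1)]), (5, [(5, 1, 2), (31, 0, 1)]), (11, [(23, 0, 1)]), (23, [(47, 0, 1)])]) (by decide +kernel)

theorem B_11_13_L3_19 : Gen (2 ^ 41 * 3 ^ 13 * 5 ^ 6 * 7 ^ 2 * 11 * 13 * 17 * 19 * 23 * 31 * 47) 11 13 [3, 19] :=
  gen_of_check (PS := [2, 3, 5, 7, 11, 13, 17, 19, 23, 31, 47]) (C := [(3, [(7, 1, 2), (31, 0, 1)]), (5, [(5, 1, 2), (31, 0, 1)]), (7, [(7, 0, 1)]), (11, [(23, 0, 1)]), (23, [(47, 0, 1)])]) (by decide +kernel)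

theorem B_11_13_L3_31 : Gen (2 ^ 41 * 3 ^ 13 * 5 ^ 6 * 7 ^ 2 * 11 * 13 * 17 * 19 * 23 * 31 * 47) 11 13 [3, 31] :=
  gen_of_check (PS := [2, 3, 5, 7, 11, 13, 17, 19, 23, 31, 47]) (C := [(3, [(7, 1, 0), (19, 0, 1)]), (5, [(5, 0, 1)]), (7, [(7, 0, 1)]), (11, [(23, 0, 1)]), (23, [(47, 0, 1)])]) (by decide +kernel)

theorem B_11_13_L7_19 : Gen (2 ^ 41 * 3 ^ 13 * 5 ^ 6 * 7 ^ 2 * 11 * 13 * 17 * 19 * 23 * 31 * 47) 11 13 [7, 19] :=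
  gen_of_check (PS := [2, 3, 5, 7, 11, 13, 17, 19, 23, 31, 47]) (C := [(3, [(3, 1, 2), (31, 0, 1)]), (5, [(5, 1, 2), (31, 0, 1)]), (11, [(23, 0, 1)]), (23, [(47, 0, 1)])]) (by decide +kernel)

theorem B_11_13_L7_31 : Gen (2 ^ 41 * 3 ^ 13 * 5 ^ 6 * 7 ^ 2 * 11 * 13 * 17 * 19 * 23 * 31 * 47) 11 13 [7, 31] :=
  gen_of_check (PS := [2, 3, 5, 7, 11, 13, 17, 19, 23, 31, 47]) (C := [(3, [(3, 1, 0), (19, 0, 1)]), (5, [(5, 0, 1)]), (11, [(23, 0, 1)]), (23, [(47, 0, 1)])]) (by decide +kernel)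

theorem B_11_13_L19_31 : Gen (2 ^ 41 * 3 ^ 13 * 5 ^ 6 * 7 ^ 2 * 11 * 13 * 17 * 19 * 23 * 31 * 47) 11 13 [19, 31] :=
  gen_of_check (PS := [2, 3, 5, 7, 11, 13, 17, 19, 23, 31, 47]) (C := [(3, [(3, 0, 1), (7, 1, 0)]), (5, [(5, 0, 1)]), (7, [(7, 0, 1)]), (11, [(23, 0, 1)]), (23, [(47, 0, 1)])]) (by decide +kernel)

theorem B_11_17_L3_7_13 : Gen (2 ^ 41 * 3 ^ 13 * 5 ^ 6 * 7 ^ 2 * 11 * 13 * 17 * 19 * 23 * 31 * 47) 11 17 [3, 7, 13] :=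
  gen_of_check (PS := [2, 3, 5, 7, 11, 13, 17, 19, 23, 31, 47]) (C := [(3, [(19, 1, 1), (31, 0, 1)]), (5, [(5, 1, 1), (31, 0, 1)]), (11, [(23, 0, 1)]), (23, [(47, 0, 1)])]) (by decide +kernel)

theorem B_11_17_L3_7_31 : Gen (2 ^ 41 * 3 ^ 13 * 5 ^ 6 * 7 ^ 2 * 11 * 13 * 17 * 19 * 23 * 31 * 47) 11 17 [3, 7, 31] :=
  gen_of_check (PS := [2, 3, 5, 7, 11, 13, 17, 19, 23, 31, 47]) (C := [(3, [(13, 1, 0), (19, 0, 1)]), (5, [(5, 0, 1)]), (11, [(23, 0, 1)]), (23, [(47, 0, 1)])]) (by decide +kernel)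

theorem B_11_17_L3_13_19 : Gen (2 ^ 41 * 3 ^ 13 * 5 ^ 6 * 7 ^ 2 * 11 * 13 * 17 * 19 * 23 * 31 * 47) 11 17 [3, 13, 19] :=
  gen_of_check (PS := [2, 3, 5, 7, 11, 13, 17, 19, 23, 31, 47]) (C := [(3, [(7, 1, 1), (31, 0, 1)]), (5, [(5, 1, 1), (31, 0, 1)]), (7, [(7, 0, 1)]), (11, [(23, 0, 1)]), (23, [(47, 0, 1)])]) (by decide +kernel)

theorem B_11_17_L3_13_31 : Gen (2 ^ 41 * 3 ^ 13 * 5 ^ 6 * 7 ^ 2 * 11 * 13 * 17 * 19 * 23 * 31 * 47) 11 17 [3, 13, 31] :=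
  gen_of_check (PS := [2, 3, 5, 7, 11, 13, 17, 19, 23, 31, 47]) (C := [(3, [(7, 1, 0), (19, 0, 1)]), (5, [(5, 0, 1)]), (7, [(7, 0, 1)]), (11, [(23, 0, 1)]), (23, [(47, 0, 1)])]) (by decide +kernel)

theorem B_11_17_L3_19_31 : Gen (2 ^ 41 * 3 ^ 13 * 5 ^ 6 * 7 ^ 2 * 11 * 13 * 17 * 19 * 23 * 31 * 47) 11 17 [3, 19, 31] :=
  gen_of_check (PS := [2, 3, 5, 7, 11, 13, 17, 19, 23, 31, 47]) (C := [(3, [(7, 1, 1), (13, 0, 1)]), (5, [(5, 0, 1)]), (7, [(7, 0, 1)]), (11, [(23, 0, 1)]), (23, [(47, 0, 1)])]) (by decide +kernel)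

theorem B_11_17_L7_13_19 : Gen (2 ^ 41 * 3 ^ 13 * 5 ^ 6 * 7 ^ 2 * 11 * 13 * 17 * 19 * 23 * 31 * 47) 11 17 [7, 13, 19] :=
  gen_of_check (PS := [2, 3, 5, 7, 11, 13, 17, 19, 23, 31, 47]) (C := [(3, [(3, 1, 1), (31, 0, 1)]), (5, [(5, 1, 1), (31, 0, 1)]), (11, [(23, 0, 1)]), (23, [(47, 0, 1)])]) (by decide +kernel)

theorem B_11_17_L7_13_31 : Gen (2 ^ 41 * 3 ^ 13 * 5 ^ 6 * 7 ^ 2 * 11 * 13 * 17 * 19 * 23 * 31 * 47) 11 17 [7, 13, 31] :=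
  gen_of_check (PS := [2, 3, 5, 7, 11, 13, 17, 19, 23, 31, 47]) (C := [(3, [(3, 1, 0), (19, 0, 1)]), (5, [(5, 0, 1)]), (11, [(23, 0, 1)]), (23, [(47, 0, 1)])]) (by decide +kernel)

theorem B_11_17_L7_19_31 : Gen (2 ^ 41 * 3 ^ 13 * 5 ^ 6 * 7 ^ 2 * 11 * 13 * 17 * 19 * 23 * 31 * 47) 11 17 [7, 19, 31] :=
  gen_of_check (PS := [2, 3, 5, 7, 11, 13, 17, 19, 23, 31, 47]) (C := [(3, [(3, 1, 1), (13, 0, 1)]), (5, [(5, 0, 1)]), (11, [(23, 0, 1)]), (23, [(47, 0, 1)])]) (by decide +kernel)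

theorem B_11_17_L13_19_31 : Gen (2 ^ 41 * 3 ^ 13 * 5 ^ 6 * 7 ^ 2 * 11 * 13 * 17 * 19 * 23 * 31 * 47) 11 17 [13, 19, 31] :=
  gen_of_check (PS := [2, 3, 5, 7, 11, 13, 17, 19, 23, 31, 47]) (C := [(3, [(3, 1, 2), (7, 0, 1)]), (5, [(5, 0, 1)]), (7, [(7, 0, 1)]), (11, [(23, 0, 1)]), (23, [(47, 0, 1)])]) (by decide +kernel)

theorem B_11_19_L7_31 : Gen (2 ^ 41 * 3 ^ 13 * 5 ^ 6 * 7 ^ 2 * 11 * 13 * 17 * 19 * 23 * 31 * 47) 11 19 [7, 31] :=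
  gen_of_check (PS := [2, 3, 5, 7, 11, 13, 17, 19, 23, 31, 47]) (C := [(3, [(3, 1, 1), (13, 0, 1)]), (5, [(5, 0, 1)]), (11, [(23, 0, 1)]), (23, [(47, 0, 1)])]) (by decide +kernel)

theorem B_11_19_L13_31 : Gen (2 ^ 41 * 3 ^ 13 * 5 ^ 6 * 7 ^ 2 * 11 * 13 * 17 * 19 * 23 * 31 * 47) 11 19 [13, 31] :=
  gen_of_check (PS := [2, 3, 5, 7, 11, 13, 17, 19, 23, 31, 47]) (C := [(3, [(3, 1, 1), (7, 0, 1)]), (5, [(5, 0, 1)]), (7, [(7, 1, 0)]), (11, [(23, 0, 1)]), (23, [(47, 0, 1)])]) (by decide +kernel)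

theorem B_11_19_L5_7_13 : Gen (2 ^ 41 * 3 ^ 13 * 5 ^ 6 * 7 ^ 2 * 11 * 13 * 17 * 19 * 23 * 31 * 47) 11 19 [5, 7, 13] :=
  gen_of_check (PS := [2, 3, 5, 7, 11, 13, 17, 19, 23, 31, 47]) (C := [(3, [(3, 1, 1), (31, 0, 1)]), (5, [(31, 0, 1)]), (11, [(23, 0, 1)]), (23, [(47, 0, 1)])]) (by decide +kernel)

theorem B_11_23_L3_7_13 : Gen (2 ^ 41 * 3 ^ 13 * 5 ^ 6 * 7 ^ 2 * 11 * 13 * 17 * 19 * 23 * 31 * 47) 11 23 [3, 7, 13] :=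
  gen_of_check (PS := [2, 3, 5, 7, 11, 13, 17, 19, 23, 31, 47]) (C := [(3, [(19, 0, 1), (31, 1, 0)]), (5, [(5, 1, 1), (31, 0, 1)]), (23, [(47, 0, 1)])]) (by decide +kernel)

theorem B_11_23_L3_7_19 : Gen (2 ^ 41 * 3 ^ 13 * 5 ^ 6 * 7 ^ 2 * 11 * 13 * 17 * 19 * 23 * 31 * 47) 11 23 [3, 7, 19] :=
  gen_of_check (PS := [2, 3, 5, 7, 11, 13, 17, 19, 23, 31, 47]) (C := [(3, [(13, 0, 1), (31, 1, 0)]), (5, [(5, 1, 1), (31, 0, 1)]), (23, [(47, 0, 1)])]) (by decide +kernel)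

theorem B_11_23_L3_7_31 : Gen (2 ^ 41 * 3 ^ 13 * 5 ^ 6 * 7 ^ 2 * 11 * 13 * 17 * 19 * 23 * 31 * 47) 11 23 [3, 7, 31] :=
  gen_of_check (PS := [2, 3, 5, 7, 11, 13, 17, 19, 23, 31, 47]) (C := [(3, [(13, 1, 0), (19, 0, 1)]), (5, [(5, 0, 1)]), (23, [(47, 0, 1)])]) (by decide +kernel)

theorem B_11_23_L3_13_19 : Gen (2 ^ 41 * 3 ^ 13 * 5 ^ 6 * 7 ^ 2 * 11 * 13 * 17 * 19 * 23 * 31 * 47) 11 23 [3, 13, 19] :=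
  gen_of_check (PS := [2, 3, 5, 7, 11, 13, 17, 19, 23, 31, 47]) (C := [(3, [(7, 0, 1), (31, 1, 0)]), (5, [(5, 1, 1), (31, 0, 1)]), (7, [(7, 0, 1)]), (23, [(47, 0, 1)])]) (by decide +kernel)

theorem B_11_23_L3_13_31 : Gen (2 ^ 41 * 3 ^ 13 * 5 ^ 6 * 7 ^ 2 * 11 * 13 * 17 * 19 * 23 * 31 * 47) 11 23 [3, 13, 31] :=
  gen_of_check (PS := [2, 3, 5, 7, 11, 13, 17, 19, 23, 31, 47]) (C := [(3, [(7, 1, 0), (19, 0, 1)]), (5, [(5, 0, 1)]), (7, [(7, 0, 1)]), (23, [(47, 0, 1)])]) (by decide +kernel)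

theorem B_11_23_L3_19_31 : Gen (2 ^ 41 * 3 ^ 13 * 5 ^ 6 * 7 ^ 2 * 11 * 13 * 17 * 19 * 23 * 31 * 47) 11 23 [3, 19, 31] :=
  gen_of_check (PS := [2, 3, 5, 7, 11, 13, 17, 19, 23, 31, 47]) (C := [(3, [(7, 1, 2), (13, 0, 1)]), (5, [(5, 0, 1)]), (7, [(7, 0, 1)]), (23, [(47, 0, 1)])]) (by decide +kernel)

theorem B_11_23_L7_13_19 : Gen (2 ^ 41 * 3 ^ 13 * 5 ^ 6 * 7 ^ 2 * 11 * 13 * 17 * 19 * 23 * 31 * 47) 11 23 [7, 13, 19] :=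
  gen_of_check (PS := [2, 3, 5, 7, 11, 13, 17, 19, 23, 31, 47]) (C := [(3, [(3, 0, 1), (31, 1, 0)]), (5, [(5, 1, 1), (31, 0, 1)]), (23, [(47, 0, 1)])]) (by decide +kernel)

theorem B_11_23_L7_13_31 : Gen (2 ^ 41 * 3 ^ 13 * 5 ^ 6 * 7 ^ 2 * 11 * 13 * 17 * 19 * 23 * 31 * 47) 11 23 [7, 13, 31] :=
  gen_of_check (PS := [2, 3, 5, 7, 11, 13, 17, 19, 23, 31, 47]) (C := [(3, [(3, 1, 0), (19, 0, 1)]), (5, [(5, 0, 1)]), (23, [(47, 0, 1)])]) (by decide +kernel)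

theorem B_11_23_L7_19_31 : Gen (2 ^ 41 * 3 ^ 13 * 5 ^ 6 * 7 ^ 2 * 11 * 13 * 17 * 19 * 23 * 31 * 47) 11 23 [7, 19, 31] :=
  gen_of_check (PS := [2, 3, 5, 7, 11, 13, 17, 19, 23, 31, 47]) (C := [(3, [(3, 1, 2), (13, 0, 1)]), (5, [(5, 0, 1)]), (23, [(47, 0, 1)])]) (by decide +kernel)

theorem B_11_31_L3_19 : Gen (2 ^ 41 * 3 ^ 13 * 5 ^ 6 * 7 ^ 2 * 11 * 13 * 17 * 19 * 23 * 31 * 47) 11 31 [3, 19] :=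
  gen_of_check (PS := [2, 3, 5, 7, 11, 13, 17, 19, 23, 31, 47]) (C := [(3, [(7, 0, 1), (13, 1, 0)]), (5, [(5, 0, 1)]), (7, [(7, 1, 0)]), (11, [(23, 0, 1)]), (23, [(47, 0, 1)])]) (by decide +kernel)

theorem B_11_31_L7_19 : Gen (2 ^ 41 * 3 ^ 13 * 5 ^ 6 * 7 ^ 2 * 11 * 13 * 17 * 19 * 23 * 31 * 47) 11 31 [7, 19] :=
  gen_of_check (PS := [2, 3, 5, 7, 11, 13, 17, 19, 23, 31, 47]) (C := [(3, [(3, 0, 1), (13, 1, 0)]), (5, [(5, 0, 1)]), (11, [(23, 0, 1)]), (23, [(47, 0, 1)])]) (by decide +kernel)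

theorem B_11_31_L13_19 : Gen (2 ^ 41 * 3 ^ 13 * 5 ^ 6 * 7 ^ 2 * 11 * 13 * 17 * 19 * 23 * 31 * 47) 11 31 [13, 19] :=
  gen_of_check (PS := [2, 3, 5, 7, 11, 13, 17, 19, 23, 31, 47]) (C := [(3, [(3, 1, 2), (7, 0, 1)]), (5, [(5, 0, 1)]), (7, [(7, 1, 0)]), (11, [(23, 0, 1)]), (23, [(47, 0, 1)])]) (by decide +kernel)

theorem B_11_47_L3_7_31 : Gen (2 ^ 41 * 3 ^ 13 * 5 ^ 6 * 7 ^ 2 * 11 * 13 * 17 * 19 * 23 * 31 * 47) 11 47 [3, 7, 31] :=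
  gen_of_check (PS := [2, 3, 5, 7, 11, 13, 17, 19, 23, 31, 47]) (C := [(3, [(13, 1, 0), (19, 0, 1)]), (5, [(5, 0, 1)]), (11, [(23, 1, 0)])]) (by decide +kernel)

theorem B_11_47_L3_13_31 : Gen (2 ^ 41 * 3 ^ 13 * 5 ^ 6 * 7 ^ 2 * 11 * 13 * 17 * 19 * 23 * 31 * 47) 11 47 [3, 13, 31] :=
  gen_of_check (PS := [2, 3, 5, 7, 11, 13, 17, 19, 23, 31, 47]) (C := [(3, [(7, 1, 0), (19, 0, 1)]), (5, [(5, 0, 1)]), (7, [(7, 0, 1)]), (11, [(23, 1, 0)])]) (by decide +kernel)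

theorem B_11_47_L3_19_31 : Gen (2 ^ 41 * 3 ^ 13 * 5 ^ 6 * 7 ^ 2 * 11 * 13 * 17 * 19 * 23 * 31 * 47) 11 47 [3, 19, 31] :=
  gen_of_check (PS := [2, 3, 5, 7, 11, 13, 17, 19, 23, 31, 47]) (C := [(3, [(7, 0, 1), (13, 1, 0)]), (5, [(5, 0, 1)]), (7, [(7, 0, 1)]), (11, [(23, 1, 0)])]) (by decide +kernel)

theorem B_11_47_L7_13_31 : Gen (2 ^ 41 * 3 ^ 13 * 5 ^ 6 * 7 ^ 2 * 11 * 13 * 17 * 19 * 23 * 31 * 47) 11 47 [7, 13, 31] :=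
  gen_of_check (PS := [2, 3, 5, 7, 11, 13, 17, 19, 23, 31, 47]) (C := [(3, [(3, 1, 0), (19, 0, 1)]), (5, [(5, 0, 1)]), (11, [(23, 1, 0)])]) (by decide +kernel)

theorem B_11_47_L7_19_31 : Gen (2 ^ 41 * 3 ^ 13 * 5 ^ 6 * 7 ^ 2 * 11 * 13 * 17 * 19 * 23 * 31 * 47) 11 47 [7, 19, 31] :=
  gen_of_check (PS := [2, 3, 5, 7, 11, 13, 17, 19, 23, 31, 47]) (C := [(3, [(3, 0, 1), (13, 1, 0)]), (5, [(5, 0, 1)]), (11, [(23, 1, 0)])]) (by decide +kernel)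

theorem B_11_47_L13_19_31 : Gen (2 ^ 41 * 3 ^ 13 * 5 ^ 6 * 7 ^ 2 * 11 * 13 * 17 * 19 * 23 * 31 * 47) 11 47 [13, 19, 31] :=
  gen_of_check (PS := [2, 3, 5, 7, 11, 13, 17, 19, 23, 31, 47]) (C := [(3, [(3, 1, 1), (7, 0, 1)]), (5, [(5, 0, 1)]), (7, [(7, 0, 1)]), (11, [(23, 1, 0)])]) (by decide +kernel)

theorem B_11_47_L3_5_7_13 : Gen (2 ^ 41 * 3 ^ 13 * 5 ^ 6 * 7 ^ 2 * 11 * 13 * 17 * 19 * 23 * 31 * 47) 11 47 [3, 5, 7, 13] :=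
  gen_of_check (PS := [2, 3, 5, 7, 11, 13, 17, 19, 23, 31, 47]) (C := [(3, [(19, 0, 1), (31, 1, 0)]), (5, [(31, 0, 1)]), (11, [(23, 1, 0)])]) (by decide +kernel)

theorem B_11_47_L3_5_13_19 : Gen (2 ^ 41 * 3 ^ 13 * 5 ^ 6 * 7 ^ 2 * 11 * 13 * 17 * 19 * 23 * 31 * 47) 11 47 [3, 5, 13, 19] :=
  gen_of_check (PS := [2, 3, 5, 7, 11, 13, 17, 19, 23, 31, 47]) (C := [(3, [(7, 0, 1), (31, 1, 0)]), (5, [(31, 0, 1)]), (7, [(7, 0, 1)]), (11, [(23, 1, 0)])]) (by decide +kernel)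

theorem B_11_47_L5_7_13_19 : Gen (2 ^ 41 * 3 ^ 13 * 5 ^ 6 * 7 ^ 2 * 11 * 13 * 17 * 19 * 23 * 31 * 47) 11 47 [5, 7, 13, 19] :=
  gen_of_check (PS := [2, 3, 5, 7, 11, 13, 17, 19, 23, 31, 47]) (C := [(3, [(3, 0, 1), (31, 1, 0)]), (5, [(31, 0, 1)]), (11, [(23, 1, 0)])]) (by decide +kernel)

theorem B_13_17_L3_31 : Gen (2 ^ 41 * 3 ^ 13 * 5 ^ 6 * 7 ^ 2 * 11 * 13 * 17 * 19 * 23 * 31 * 47) 13 17 [3, 31] :=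
  gen_of_check (PS := [2, 3, 5, 7, 11, 13, 17, 19, 23, 31, 47]) (C := [(3, [(7, 1, 1), (19, 0, 1)]), (5, [(5, 1, 1), (11, 0, 1)]), (7, [(7, 0, 1)]), (11, [(23, 0, 1)]), (23, [(47, 0, 1)])]) (by decide +kernel)

theorem B_13_17_L7_31 : Gen (2 ^ 41 * 3 ^ 13 * 5 ^ 6 * 7 ^ 2 * 11 * 13 * 17 * 19 * 23 * 31 * 47) 13 17 [7, 31] :=
  gen_of_check (PS := [2, 3, 5, 7, 11, 13, 17, 19, 23, 31, 47]) (C := [(3, [(3, 1, 1), (19, 0, 1)]), (5, [(5, 1, 1), (11, 0, 1)]), (11, [(23, 0, 1)]), (23, [(47, 0, 1)])]) (by decide +kernel)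

theorem B_13_17_L19_31 : Gen (2 ^ 41 * 3 ^ 13 * 5 ^ 6 * 7 ^ 2 * 11 * 13 * 17 * 19 * 23 * 31 * 47) 13 17 [19, 31] :=
  gen_of_check (PS := [2, 3, 5, 7, 11, 13, 17, 19, 23, 31, 47]) (C := [(3, [(3, 1, 0), (7, 0, 1)]), (5, [(5, 1, 1), (11, 0, 1)]), (7, [(7, 0, 1)]), (11, [(23, 0, 1)]), (23, [(47, 0, 1)])]) (by decide +kernel)

theorem B_13_17_L3_5_19 : Gen (2 ^ 41 * 3 ^ 13 * 5 ^ 6 * 7 ^ 2 * 11 * 13 * 17 * 19 * 23 * 31 * 47) 13 17 [3, 5, 19] :=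
  gen_of_check (PS := [2, 3, 5, 7, 11, 13, 17, 19, 23, 31, 47]) (C := [(3, [(7, 1, 1), (31, 0, 1)]), (5, [(11, 1, 2), (31, 0, 1)]), (7, [(7, 0, 1)]), (11, [(23, 0, 1)]), (23, [(47, 0, 1)])]) (by decide +kernel)

theorem B_13_17_L5_7_19 : Gen (2 ^ 41 * 3 ^ 13 * 5 ^ 6 * 7 ^ 2 * 11 * 13 * 17 * 19 * 23 * 31 * 47) 13 17 [5, 7, 19] :=
  gen_of_check (PS := [2, 3, 5, 7, 11, 13, 17, 19, 23, 31, 47]) (C := [(3, [(3, 1, 1), (31, 0, 1)]), (5, [(11, 1, 2), (31, 0, 1)]), (11, [(23, 0, 1)]), (23, [(47, 0, 1)])]) (by decide +kernel)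

theorem B_13_19_L31 : Gen (2 ^ 41 * 3 ^ 13 * 5 ^ 6 * 7 ^ 2 * 11 * 13 * 17 * 19 * 23 * 31 * 47) 13 19 [31] :=
  gen_of_check (PS := [2, 3, 5, 7, 11, 13, 17, 19, 23, 31, 47]) (C := [(3, [(3, 1, 0), (7, 0, 1)]), (5, [(5, 1, 3), (11, 0, 1)]), (7, [(7, 1, 0)]), (11, [(23, 0, 1)]), (23, [(47, 0, 1)])]) (by decide +kernel)

theorem B_13_19_L3_5 : Gen (2 ^ 41 * 3 ^ 13 * 5 ^ 6 * 7 ^ 2 * 11 * 13 * 17 * 19 * 23 * 31 * 47) 13 19 [3, 5] :=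
  gen_of_check (PS := [2, 3, 5, 7, 11, 13, 17, 19, 23, 31, 47]) (C := [(3, [(7, 1, 1), (31, 0, 1)]), (5, [(11, 1, 1), (31, 0, 1)]), (7, [(7, 1, 0)]), (11, [(23, 0, 1)]), (23, [(47, 0, 1)])]) (by decide +kernel)

theorem B_13_19_L3_11 : Gen (2 ^ 41 * 3 ^ 13 * 5 ^ 6 * 7 ^ 2 * 11 * 13 * 17 * 19 * 23 * 31 * 47) 13 19 [3, 11] :=
  gen_of_check (PS := [2, 3, 5, 7, 11, 13, 17, 19, 23, 31, 47]) (C := [(3, [(7, 1, 1), (31, 0, 1)]), (5, [(5, 1, 1), (31, 0, 1)]), (7, [(7, 1, 0)]), (11, [(23, 0, 1)]), (23, [(47, 0, 1)])]) (by decide +kernel)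

theorem B_13_19_L5_7 : Gen (2 ^ 41 * 3 ^ 13 * 5 ^ 6 * 7 ^ 2 * 11 * 13 * 17 * 19 * 23 * 31 * 47) 13 19 [5, 7] :=
  gen_of_check (PS := [2, 3, 5, 7, 11, 13, 17, 19, 23, 31, 47]) (C := [(3, [(3, 1, 1), (31, 0, 1)]), (5, [(11, 1, 1), (31, 0, 1)]), (11, [(23, 0, 1)]), (23, [(47, 0, 1)])]) (by decide +kernel)

theorem B_13_19_L7_11 : Gen (2 ^ 41 * 3 ^ 13 * 5 ^ 6 * 7 ^ 2 * 11 * 13 * 17 * 19 * 23 * 31 * 47) 13 19 [7, 11] :=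
  gen_of_check (PS := [2, 3, 5, 7, 11, 13, 17, 19, 23, 31, 47]) (C := [(3, [(3, 1, 1), (31, 0, 1)]), (5, [(5, 1, 1), (31, 0, 1)]), (11, [(23, 0, 1)]), (23, [(47, 0, 1)])]) (by decide +kernel)

theorem B_13_23_L3_31 : Gen (2 ^ 41 * 3 ^ 13 * 5 ^ 6 * 7 ^ 2 * 11 * 13 * 17 * 19 * 23 * 31 * 47) 13 23 [3, 31] :=
  gen_of_check (PS := [2, 3, 5, 7, 11, 13, 17, 19, 23, 31, 47]) (C := [(3, [(7, 1, 2), (19, 0, 1)]), (5, [(5, 0, 1), (11, 1, 0)]), (7, [(7, 0, 1)]), (23, [(47, 0, 1)])]) (by decide +kernel)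

theorem B_13_23_L19_31 : Gen (2 ^ 41 * 3 ^ 13 * 5 ^ 6 * 7 ^ 2 * 11 * 13 * 17 * 19 * 23 * 31 * 47) 13 23 [19, 31] :=
  gen_of_check (PS := [2, 3, 5, 7, 11, 13, 17, 19, 23, 31, 47]) (C := [(3, [(3, 1, 0), (7, 0, 1)]), (5, [(5, 0, 1), (11, 1, 0)]), (7, [(7, 0, 1)]), (23, [(47, 0, 1)])]) (by decide +kernel)

theorem B_13_23_L3_5_7 : Gen (2 ^ 41 * 3 ^ 13 * 5 ^ 6 * 7 ^ 2 * 11 * 13 * 17 * 19 * 23 * 31 * 47) 13 23 [3, 5, 7] :=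
  gen_of_check (PS := [2, 3, 5, 7, 11, 13, 17, 19, 23, 31, 47]) (C := [(3, [(19, 0, 1), (31, 1, 0)]), (5, [(11, 1, 2), (31, 0, 1)]), (23, [(47, 0, 1)])]) (by decide +kernel)

theorem B_13_23_L3_5_19 : Gen (2 ^ 41 * 3 ^ 13 * 5 ^ 6 * 7 ^ 2 * 11 * 13 * 17 * 19 * 23 * 31 * 47) 13 23 [3, 5, 19] :=
  gen_of_check (PS := [2, 3, 5, 7, 11, 13, 17, 19, 23, 31, 47]) (C := [(3, [(7, 0, 1), (31, 1, 0)]), (5, [(11, 1, 2), (31, 0, 1)]), (7, [(7, 0, 1)]), (23, [(47, 0, 1)])]) (by decide +kernel)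

theorem B_13_23_L3_7_11 : Gen (2 ^ 41 * 3 ^ 13 * 5 ^ 6 * 7 ^ 2 * 11 * 13 * 17 * 19 * 23 * 31 * 47) 13 23 [3, 7, 11] :=
  gen_of_check (PS := [2, 3, 5, 7, 11, 13, 17, 19, 23, 31, 47]) (C := [(3, [(19, 0, 1), (31, 1, 0)]), (5, [(5, 1, 2), (31, 0, 1)]), (23, [(47, 0, 1)])]) (by decide +kernel)

theorem B_13_23_L3_11_19 : Gen (2 ^ 41 * 3 ^ 13 * 5 ^ 6 * 7 ^ 2 * 11 * 13 * 17 * 19 * 23 * 31 * 47) 13 23 [3, 11, 19] :=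
  gen_of_check (PS := [2, 3, 5, 7, 11, 13, 17, 19, 23, 31, 47]) (C := [(3, [(7, 0, 1), (31, 1, 0)]), (5, [(5, 1, 2), (31, 0, 1)]), (7, [(7, 0, 1)]), (23, [(47, 0, 1)])]) (by decide +kernel)

theorem B_13_23_L5_7_19 : Gen (2 ^ 41 * 3 ^ 13 * 5 ^ 6 * 7 ^ 2 * 11 * 13 * 17 * 19 * 23 * 31 * 47) 13 23 [5, 7, 19] :=
  gen_of_check (PS := [2, 3, 5, 7, 11, 13, 17, 19, 23, 31, 47]) (C := [(3, [(3, 0, 1), (31, 1, 0)]), (5, [(11, 1, 2), (31, 0, 1)]), (23, [(47, 0, 1)])]) (by decide +kernel)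

theorem B_13_23_L7_11_19 : Gen (2 ^ 41 * 3 ^ 13 * 5 ^ 6 * 7 ^ 2 * 11 * 13 * 17 * 19 * 23 * 31 * 47) 13 23 [7, 11, 19] :=
  gen_of_check (PS := [2, 3, 5, 7, 11, 13, 17, 19, 23, 31, 47]) (C := [(3, [(3, 0, 1), (31, 1, 0)]), (5, [(5, 1, 2), (31, 0, 1)]), (23, [(47, 0, 1)])]) (by decide +kernel)

theorem B_13_31_L3 : Gen (2 ^ 41 * 3 ^ 13 * 5 ^ 6 * 7 ^ 2 * 11 * 13 * 17 * 19 * 23 * 31 * 47) 13 31 [3] :=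
  gen_of_check (PS := [2, 3, 5, 7, 11, 13, 17, 19, 23, 31, 47]) (C := [(3, [(7, 0, 1), (19, 1, 0)]), (5, [(5, 1, 4), (11, 0, 1)]), (7, [(7, 1, 0)]), (11, [(23, 0, 1)]), (23, [(47, 0, 1)])]) (by decide +kernel)

theorem B_13_31_L7 : Gen (2 ^ 41 * 3 ^ 13 * 5 ^ 6 * 7 ^ 2 * 11 * 13 * 17 * 19 * 23 * 31 * 47) 13 31 [7] :=
  gen_of_check (PS := [2, 3, 5, 7, 11, 13, 17, 19, 23, 31, 47]) (C := [(3, [(3, 0, 1), (19, 1, 0)]), (5, [(5, 1, 4), (11, 0, 1)]), (11, [(23, 0, 1)]), (23, [(47, 0, 1)])]) (by decide +kernel)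

theorem B_13_31_L19 : Gen (2 ^ 41 * 3 ^ 13 * 5 ^ 6 * 7 ^ 2 * 11 * 13 * 17 * 19 * 23 * 31 * 47) 13 31 [19] :=
  gen_of_check (PS := [2, 3, 5, 7, 11, 13, 17, 19, 23, 31, 47]) (C := [(3, [(3, 1, 0), (7, 0, 1)]), (5, [(5, 1, 4), (11, 0, 1)]), (7, [(7, 1, 0)]), (11, [(23, 0, 1)]), (23, [(47, 0, 1)])]) (by decide +kernel)

theorem B_13_47_L3_5_7 : Gen (2 ^ 41 * 3 ^ 13 * 5 ^ 6 * 7 ^ 2 * 11 * 13 * 17 * 19 * 23 * 31 * 47) 13 47 [3, 5, 7] :=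
  gen_of_check (PS := [2, 3, 5, 7, 11, 13, 17, 19, 23, 31, 47]) (C := [(3, [(19, 0, 1), (31, 1, 0)]), (5, [(11, 1, 4), (31, 0, 1)]), (11, [(23, 1, 0)])]) (by decide +kernel)

theorem B_13_47_L3_5_19 : Gen (2 ^ 41 * 3 ^ 13 * 5 ^ 6 * 7 ^ 2 * 11 * 13 * 17 * 19 * 23 * 31 * 47) 13 47 [3, 5, 19] :=
  gen_of_check (PS := [2, 3, 5, 7, 11, 13, 17, 19, 23, 31, 47]) (C := [(3, [(7, 0, 1), (31, 1, 0)]), (5, [(11, 1, 4), (31, 0, 1)]), (7, [(7, 0, 1)]), (11, [(23, 1, 0)])]) (by decide +kernel)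

theorem B_13_47_L3_5_31 : Gen (2 ^ 41 * 3 ^ 13 * 5 ^ 6 * 7 ^ 2 * 11 * 13 * 17 * 19 * 23 * 31 * 47) 13 47 [3, 5, 31] :=
  gen_of_check (PS := [2, 3, 5, 7, 11, 13, 17, 19, 23, 31, 47]) (C := [(3, [(7, 1, 2), (19, 0, 1)]), (5, [(11, 0, 1)]), (7, [(7, 0, 1)]), (11, [(23, 1, 0)])]) (by decide +kernel)

theorem B_13_47_L3_7_11 : Gen (2 ^ 41 * 3 ^ 13 * 5 ^ 6 * 7 ^ 2 * 11 * 13 * 17 * 19 * 23 * 31 * 47) 13 47 [3, 7, 11] :=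
  gen_of_check (PS := [2, 3, 5, 7, 11, 13, 17, 19, 23, 31, 47]) (C := [(3, [(19, 0, 1), (31, 1, 0)]), (5, [(5, 1, 4), (31, 0, 1)]), (11, [(23, 1, 0)])]) (by decide +kernel)

theorem B_13_47_L3_11_19 : Gen (2 ^ 41 * 3 ^ 13 * 5 ^ 6 * 7 ^ 2 * 11 * 13 * 17 * 19 * 23 * 31 * 47) 13 47 [3, 11, 19] :=
  gen_of_check (PS := [2, 3, 5, 7, 11, 13, 17, 19, 23, 31, 47]) (C := [(3, [(7, 0, 1), (31, 1, 0)]), (5, [(5, 1, 4), (31, 0, 1)]), (7, [(7, 0, 1)]), (11, [(23, 1, 0)])]) (by decide +kernel)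

theorem B_13_47_L3_11_31 : Gen (2 ^ 41 * 3 ^ 13 * 5 ^ 6 * 7 ^ 2 * 11 * 13 * 17 * 19 * 23 * 31 * 47) 13 47 [3, 11, 31] :=
  gen_of_check (PS := [2, 3, 5, 7, 11, 13, 17, 19, 23, 31, 47]) (C := [(3, [(7, 1, 2), (19, 0, 1)]), (5, [(5, 0, 1)]), (7, [(7, 0, 1)]), (11, [(23, 1, 0)])]) (by decide +kernel)

theorem B_13_47_L5_7_19 : Gen (2 ^ 41 * 3 ^ 13 * 5 ^ 6 * 7 ^ 2 * 11 * 13 * 17 * 19 * 23 * 31 * 47) 13 47 [5, 7, 19] :=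
  gen_of_check (PS := [2, 3, 5, 7, 11, 13, 17, 19, 23, 31, 47]) (C := [(3, [(3, 0, 1), (31, 1, 0)]), (5, [(11, 1, 4), (31, 0, 1)]), (11, [(23, 1, 0)])]) (by decide +kernel)

theorem B_13_47_L5_7_31 : Gen (2 ^ 41 * 3 ^ 13 * 5 ^ 6 * 7 ^ 2 * 11 * 13 * 17 * 19 * 23 * 31 * 47) 13 47 [5, 7, 31] :=
  gen_of_check (PS := [2, 3, 5, 7, 11, 13, 17, 19, 23, 31, 47]) (C := [(3, [(3, 1, 2), (19, 0, 1)]), (5, [(11, 0, 1)]), (11, [(23, 1, 0)])]) (by decide +kernel)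

theorem B_13_47_L5_19_31 : Gen (2 ^ 41 * 3 ^ 13 * 5 ^ 6 * 7 ^ 2 * 11 * 13 * 17 * 19 * 23 * 31 * 47) 13 47 [5, 19, 31] :=
  gen_of_check (PS := [2, 3, 5, 7, 11, 13, 17, 19, 23, 31, 47]) (C := [(3, [(3, 1, 0), (7, 0, 1)]), (5, [(11, 0, 1)]), (7, [(7, 0, 1)]), (11, [(23, 1, 0)])]) (by decide +kernel)

theorem B_13_47_L7_11_19 : Gen (2 ^ 41 * 3 ^ 13 * 5 ^ 6 * 7 ^ 2 * 11 * 13 * 17 * 19 * 23 * 31 * 47) 13 47 [7, 11, 19] :=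
  gen_of_check (PS := [2, 3, 5, 7, 11, 13, 17, 19, 23, 31, 47]) (C := [(3, [(3, 0, 1), (31, 1, 0)]), (5, [(5, 1, 4), (31, 0, 1)]), (11, [(23, 1, 0)])]) (by decide +kernel)

theorem B_13_47_L7_11_31 : Gen (2 ^ 41 * 3 ^ 13 * 5 ^ 6 * 7 ^ 2 * 11 * 13 * 17 * 19 * 23 * 31 * 47) 13 47 [7, 11, 31] :=
  gen_of_check (PS := [2, 3, 5, 7, 11, 13, 17, 19, 23, 31, 47]) (C := [(3, [(3, 1, 2), (19, 0, 1)]), (5, [(5, 0, 1)]), (11, [(23, 1, 0)])]) (by decide +kernel)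

theorem B_13_47_L11_19_31 : Gen (2 ^ 41 * 3 ^ 13 * 5 ^ 6 * 7 ^ 2 * 11 * 13 * 17 * 19 * 23 * 31 * 47) 13 47 [11, 19, 31] :=
  gen_of_check (PS := [2, 3, 5, 7, 11, 13, 17, 19, 23, 31, 47]) (C := [(3, [(3, 1, 0), (7, 0, 1)]), (5, [(5, 0, 1)]), (7, [(7, 0, 1)]), (11, [(23, 1, 0)])]) (by decide +kernel)

theorem B_17_19_L3_31 : Gen (2 ^ 41 * 3 ^ 13 * 5 ^ 6 * 7 ^ 2 * 11 * 13 * 17 * 19 * 23 * 31 * 47) 17 19 [3, 31] :=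
  gen_of_check (PS := [2, 3, 5, 7, 11, 13, 17, 19, 23, 31, 47]) (C := [(3, [(7, 1, 2), (13, 0, 1)]), (5, [(5, 1, 2), (11, 0, 1)]), (7, [(7, 1, 0)]), (11, [(23, 0, 1)]), (23, [(47, 0, 1)])]) (by decide +kernel)

theorem B_17_19_L3_11_13 : Gen (2 ^ 41 * 3 ^ 13 * 5 ^ 6 * 7 ^ 2 * 11 * 13 * 17 * 19 * 23 * 31 * 47) 17 19 [3, 11, 13] :=
  gen_of_check (PS := [2, 3, 5, 7, 11, 13, 17, 19, 23, 31, 47]) (C := [(3, [(7, 1, 2), (31, 0, 1)]), (5, [(5, 1, 2), (31, 0, 1)]), (7, [(7, 1, 0)]), (11, [(23, 0, 1)]), (23, [(47, 0, 1)])]) (by decide +kernel)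

theorem B_17_23_L7_13_31 : Gen (2 ^ 41 * 3 ^ 13 * 5 ^ 6 * 7 ^ 2 * 11 * 13 * 17 * 19 * 23 * 31 * 47) 17 23 [7, 13, 31] :=
  gen_of_check (PS := [2, 3, 5, 7, 11, 13, 17, 19, 23, 31, 47]) (C := [(3, [(3, 1, 1), (19, 0, 1)]), (5, [(5, 0, 1), (11, 1, 0)]), (23, [(47, 0, 1)])]) (by decide +kernel)

theorem B_17_23_L7_19_31 : Gen (2 ^ 41 * 3 ^ 13 * 5 ^ 6 * 7 ^ 2 * 11 * 13 * 17 * 19 * 23 * 31 * 47) 17 23 [7, 19, 31] :=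
  gen_of_check (PS := [2, 3, 5, 7, 11, 13, 17, 19, 23, 31, 47]) (C := [(3, [(3, 1, 1), (13, 0, 1)]), (5, [(5, 0, 1), (11, 1, 0)]), (23, [(47, 0, 1)])]) (by decide +kernel)

theorem B_17_23_L13_19_31 : Gen (2 ^ 41 * 3 ^ 13 * 5 ^ 6 * 7 ^ 2 * 11 * 13 * 17 * 19 * 23 * 31 * 47) 17 23 [13, 19, 31] :=
  gen_of_check (PS := [2, 3, 5, 7, 11, 13, 17, 19, 23, 31, 47]) (C := [(3, [(3, 1, 1), (7, 0, 1)]), (5, [(5, 0, 1), (11, 1, 0)]), (7, [(7, 0, 1)]), (23, [(47, 0, 1)])]) (by decide +kernel)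

theorem B_17_23_L3_5_7_13 : Gen (2 ^ 41 * 3 ^ 13 * 5 ^ 6 * 7 ^ 2 * 11 * 13 * 17 * 19 * 23 * 31 * 47) 17 23 [3, 5, 7, 13] :=
  gen_of_check (PS := [2, 3, 5, 7, 11, 13, 17, 19, 23, 31, 47]) (C := [(3, [(19, 0, 1), (31, 1, 0)]), (5, [(11, 1, 4), (31, 0, 1)]), (23, [(47, 0, 1)])]) (by decide +kernel)

theorem B_17_23_L3_5_7_19 : Gen (2 ^ 41 * 3 ^ 13 * 5 ^ 6 * 7 ^ 2 * 11 * 13 * 17 * 19 * 23 * 31 * 47) 17 23 [3, 5, 7, 19] :=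
  gen_of_check (PS := [2, 3, 5, 7, 11, 13, 17, 19, 23, 31, 47]) (C := [(3, [(13, 0, 1), (31, 1, 0)]), (5, [(11, 1, 4), (31, 0, 1)]), (23, [(47, 0, 1)])]) (by decide +kernel)

theorem B_17_23_L3_5_13_19 : Gen (2 ^ 41 * 3 ^ 13 * 5 ^ 6 * 7 ^ 2 * 11 * 13 * 17 * 19 * 23 * 31 * 47) 17 23 [3, 5, 13, 19] :=
  gen_of_check (PS := [2, 3, 5, 7, 11, 13, 17, 19, 23, 31, 47]) (C := [(3, [(7, 0, 1), (31, 1, 0)]), (5, [(11, 1, 4), (31, 0, 1)]), (7, [(7, 0, 1)]), (23, [(47, 0, 1)])]) (by decide +kernel)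

theorem B_17_23_L3_7_11_13 : Gen (2 ^ 41 * 3 ^ 13 * 5 ^ 6 * 7 ^ 2 * 11 * 13 * 17 * 19 * 23 * 31 * 47) 17 23 [3, 7, 11, 13] :=
  gen_of_check (PS := [2, 3, 5, 7, 11, 13, 17, 19, 23, 31, 47]) (C := [(3, [(19, 0, 1), (31, 1, 0)]), (5, [(5, 1, 4), (31, 0, 1)]), (23, [(47, 0, 1)])]) (by decide +kernel)

theorem B_17_23_L3_7_11_19 : Gen (2 ^ 41 * 3 ^ 13 * 5 ^ 6 * 7 ^ 2 * 11 * 13 * 17 * 19 * 23 * 31 * 47) 17 23 [3, 7, 11, 19] :=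
  gen_of_check (PS := [2, 3, 5, 7, 11, 13, 17, 19, 23, 31, 47]) (C := [(3, [(13, 0, 1), (31, 1, 0)]), (5, [(5, 1, 4), (31, 0, 1)]), (23, [(47, 0, 1)])]) (by decide +kernel)

theorem B_17_23_L3_11_13_19 : Gen (2 ^ 41 * 3 ^ 13 * 5 ^ 6 * 7 ^ 2 * 11 * 13 * 17 * 19 * 23 * 31 * 47) 17 23 [3, 11, 13, 19] :=
  gen_of_check (PS := [2, 3, 5, 7, 11, 13, 17, 19, 23, 31, 47]) (C := [(3, [(7, 0, 1), (31, 1, 0)]), (5, [(5, 1, 4), (31, 0, 1)]), (7, [(7, 0, 1)]), (23, [(47, 0, 1)])]) (by decide +kernel)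

theorem B_17_23_L5_7_13_19 : Gen (2 ^ 41 * 3 ^ 13 * 5 ^ 6 * 7 ^ 2 * 11 * 13 * 17 * 19 * 23 * 31 * 47) 17 23 [5, 7, 13, 19] :=
  gen_of_check (PS := [2, 3, 5, 7, 11, 13, 17, 19, 23, 31, 47]) (C := [(3, [(3, 0, 1), (31, 1, 0)]), (5, [(11, 1, 4), (31, 0, 1)]), (23, [(47, 0, 1)])]) (by decide +kernel)

theorem B_17_23_L7_11_13_19 : Gen (2 ^ 41 * 3 ^ 13 * 5 ^ 6 * 7 ^ 2 * 11 * 13 * 17 * 19 * 23 * 31 * 47) 17 23 [7, 11, 13, 19] :=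
  gen_of_check (PS := [2, 3, 5, 7, 11, 13, 17, 19, 23, 31, 47]) (C := [(3, [(3, 0, 1), (31, 1, 0)]), (5, [(5, 1, 4), (31, 0, 1)]), (23, [(47, 0, 1)])]) (by decide +kernel)

theorem B_17_31_L3_13 : Gen (2 ^ 41 * 3 ^ 13 * 5 ^ 6 * 7 ^ 2 * 11 * 13 * 17 * 19 * 23 * 31 * 47) 17 31 [3, 13] :=
  gen_of_check (PS := [2, 3, 5, 7, 11, 13, 17, 19, 23, 31, 47]) (C := [(3, [(7, 0, 1), (19, 1, 0)]), (5, [(5, 1, 1), (11, 0, 1)]), (7, [(7, 1, 0)]), (11, [(23, 0, 1)]), (23, [(47, 0, 1)])]) (by decide +kernel)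

theorem B_17_31_L3_19 : Gen (2 ^ 41 * 3 ^ 13 * 5 ^ 6 * 7 ^ 2 * 11 * 13 * 17 * 19 * 23 * 31 * 47) 17 31 [3, 19] :=
  gen_of_check (PS := [2, 3, 5, 7, 11, 13, 17, 19, 23, 31, 47]) (C := [(3, [(7, 0, 1), (13, 1, 0)]), (5, [(5, 1, 1), (11, 0, 1)]), (7, [(7, 1, 0)]), (11, [(23, 0, 1)]), (23, [(47, 0, 1)])]) (by decide +kernel)

theorem B_17_31_L7_13 : Gen (2 ^ 41 * 3 ^ 13 * 5 ^ 6 * 7 ^ 2 * 11 * 13 * 17 * 19 * 23 * 31 * 47) 17 31 [7, 13] :=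
  gen_of_check (PS := [2, 3, 5, 7, 11, 13, 17, 19, 23, 31, 47]) (C := [(3, [(3, 0, 1), (19, 1, 0)]), (5, [(5, 1, 1), (11, 0, 1)]), (11, [(23, 0, 1)]), (23, [(47, 0, 1)])]) (by decide +kernel)

theorem B_17_31_L7_19 : Gen (2 ^ 41 * 3 ^ 13 * 5 ^ 6 * 7 ^ 2 * 11 * 13 * 17 * 19 * 23 * 31 * 47) 17 31 [7, 19] :=
  gen_of_check (PS := [2, 3, 5, 7, 11, 13, 17, 19, 23, 31, 47]) (C := [(3, [(3, 0, 1), (13, 1, 0)]), (5, [(5, 1, 1), (11, 0, 1)]), (11, [(23, 0, 1)]), (23, [(47, 0, 1)])]) (by decide +kernel)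

theorem B_17_31_L13_19 : Gen (2 ^ 41 * 3 ^ 13 * 5 ^ 6 * 7 ^ 2 * 11 * 13 * 17 * 19 * 23 * 31 * 47) 17 31 [13, 19] :=
  gen_of_check (PS := [2, 3, 5, 7, 11, 13, 17, 19, 23, 31, 47]) (C := [(3, [(3, 1, 2), (7, 0, 1)]), (5, [(5, 1, 1), (11, 0, 1)]), (7, [(7, 1, 0)]), (11, [(23, 0, 1)]), (23, [(47, 0, 1)])]) (by decide +kernel)

theorem B_17_47_L3_7_31 : Gen (2 ^ 41 * 3 ^ 13 * 5 ^ 6 * 7 ^ 2 * 11 * 13 * 17 * 19 * 23 * 31 * 47) 17 47 [3, 7, 31] :=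
  gen_of_check (PS := [2, 3, 5, 7, 11, 13, 17, 19, 23, 31, 47]) (C := [(3, [(13, 1, 1), (19, 0, 1)]), (5, [(5, 1, 2), (11, 0, 1)]), (11, [(23, 1, 0)])]) (by decide +kernel)

theorem B_17_47_L3_19_31 : Gen (2 ^ 41 * 3 ^ 13 * 5 ^ 6 * 7 ^ 2 * 11 * 13 * 17 * 19 * 23 * 31 * 47) 17 47 [3, 19, 31] :=
  gen_of_check (PS := [2, 3, 5, 7, 11, 13, 17, 19, 23, 31, 47]) (C := [(3, [(7, 0, 1), (13, 1, 0)]), (5, [(5, 1, 2), (11, 0, 1)]), (7, [(7, 0, 1)]), (11, [(23, 1, 0)])]) (by decide +kernel)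

theorem B_17_47_L7_13_31 : Gen (2 ^ 41 * 3 ^ 13 * 5 ^ 6 * 7 ^ 2 * 11 * 13 * 17 * 19 * 23 * 31 * 47) 17 47 [7, 13, 31] :=
  gen_of_check (PS := [2, 3, 5, 7, 11, 13, 17, 19, 23, 31, 47]) (C := [(3, [(3, 1, 1), (19, 0, 1)]), (5, [(5, 1, 2), (11, 0, 1)]), (11, [(23, 1, 0)])]) (by decide +kernel)

theorem B_17_47_L7_19_31 : Gen (2 ^ 41 * 3 ^ 13 * 5 ^ 6 * 7 ^ 2 * 11 * 13 * 17 * 19 * 23 * 31 * 47) 17 47 [7, 19, 31] :=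
  gen_of_check (PS := [2, 3, 5, 7, 11, 13, 17, 19, 23, 31, 47]) (C := [(3, [(3, 0, 1), (13, 1, 0)]), (5, [(5, 1, 2), (11, 0, 1)]), (11, [(23, 1, 0)])]) (by decide +kernel)

theorem B_17_47_L13_19_31 : Gen (2 ^ 41 * 3 ^ 13 * 5 ^ 6 * 7 ^ 2 * 11 * 13 * 17 * 19 * 23 * 31 * 47) 17 47 [13, 19, 31] :=
  gen_of_check (PS := [2, 3, 5, 7, 11, 13, 17, 19, 23, 31, 47]) (C := [(3, [(3, 1, 1), (7, 0, 1)]), (5, [(5, 1, 2), (11, 0, 1)]), (7, [(7, 0, 1)]), (11, [(23, 1, 0)])]) (by decide +kernel)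

theorem B_17_47_L3_5_7_13 : Gen (2 ^ 41 * 3 ^ 13 * 5 ^ 6 * 7 ^ 2 * 11 * 13 * 17 * 19 * 23 * 31 * 47) 17 47 [3, 5, 7, 13] :=
  gen_of_check (PS := [2, 3, 5, 7, 11, 13, 17, 19, 23, 31, 47]) (C := [(3, [(19, 0, 1), (31, 1, 0)]), (5, [(11, 1, 3), (31, 0, 1)]), (11, [(23, 1, 0)])]) (by decide +kernel)

theorem B_17_47_L3_5_13_19 : Gen (2 ^ 41 * 3 ^ 13 * 5 ^ 6 * 7 ^ 2 * 11 * 13 * 17 * 19 * 23 * 31 * 47) 17 47 [3, 5, 13, 19] :=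
  gen_of_check (PS := [2, 3, 5, 7, 11, 13, 17, 19, 23, 31, 47]) (C := [(3, [(7, 0, 1), (31, 1, 0)]), (5, [(11, 1, 3), (31, 0, 1)]), (7, [(7, 0, 1)]), (11, [(23, 1, 0)])]) (by decide +kernel)

theorem B_17_47_L3_7_11_13 : Gen (2 ^ 41 * 3 ^ 13 * 5 ^ 6 * 7 ^ 2 * 11 * 13 * 17 * 19 * 23 * 31 * 47) 17 47 [3, 7, 11, 13] :=
  gen_of_check (PS := [2, 3, 5, 7, 11, 13, 17, 19, 23, 31, 47]) (C := [(3, [(19, 0, 1), (31, 1, 0)]), (5, [(5, 1, 3), (31, 0, 1)]), (11, [(23, 1, 0)])]) (by decide +kernel)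

theorem B_17_47_L3_11_13_19 : Gen (2 ^ 41 * 3 ^ 13 * 5 ^ 6 * 7 ^ 2 * 11 * 13 * 17 * 19 * 23 * 31 * 47) 17 47 [3, 11, 13, 19] :=
  gen_of_check (PS := [2, 3, 5, 7, 11, 13, 17, 19, 23, 31, 47]) (C := [(3, [(7, 0, 1), (31, 1, 0)]), (5, [(5, 1, 3), (31, 0, 1)]), (7, [(7, 0, 1)]), (11, [(23, 1, 0)])]) (by decide +kernel)

theorem B_17_47_L5_7_13_19 : Gen (2 ^ 41 * 3 ^ 13 * 5 ^ 6 * 7 ^ 2 * 11 * 13 * 17 * 19 * 23 * 31 * 47) 17 47 [5, 7, 13, 19] :=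
  gen_of_check (PS := [2, 3, 5, 7, 11, 13, 17, 19, 23, 31, 47]) (C := [(3, [(3, 0, 1), (31, 1, 0)]), (5, [(11, 1, 3), (31, 0, 1)]), (11, [(23, 1, 0)])]) (by decide +kernel)

theorem B_17_47_L7_11_13_19 : Gen (2 ^ 41 * 3 ^ 13 * 5 ^ 6 * 7 ^ 2 * 11 * 13 * 17 * 19 * 23 * 31 * 47) 17 47 [7, 11, 13, 19] :=
  gen_of_check (PS := [2, 3, 5, 7, 11, 13, 17, 19, 23, 31, 47]) (C := [(3, [(3, 0, 1), (31, 1, 0)]), (5, [(5, 1, 3), (31, 0, 1)]), (11, [(23, 1, 0)])]) (by decide +kernel)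

theorem B_19_23_L3_31 : Gen (2 ^ 41 * 3 ^ 13 * 5 ^ 6 * 7 ^ 2 * 11 * 13 * 17 * 19 * 23 * 31 * 47) 19 23 [3, 31] :=
  gen_of_check (PS := [2, 3, 5, 7, 11, 13, 17, 19, 23, 31, 47]) (C := [(3, [(7, 1, 1), (13, 0, 1)]), (5, [(5, 0, 1), (11, 1, 0)]), (7, [(7, 0, 1)]), (23, [(47, 0, 1)])]) (by decide +kernel)

theorem B_19_23_L7_31 : Gen (2 ^ 41 * 3 ^ 13 * 5 ^ 6 * 7 ^ 2 * 11 * 13 * 17 * 19 * 23 * 31 * 47) 19 23 [7, 31] :=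
  gen_of_check (PS := [2, 3, 5, 7, 11, 13, 17, 19, 23, 31, 47]) (C := [(3, [(3, 1, 1), (13, 0, 1)]), (5, [(5, 0, 1), (11, 1, 0)]), (23, [(47, 0, 1)])]) (by decide +kernel)

theorem B_19_23_L13_31 : Gen (2 ^ 41 * 3 ^ 13 * 5 ^ 6 * 7 ^ 2 * 11 * 13 * 17 * 19 * 23 * 31 * 47) 19 23 [13, 31] :=
  gen_of_check (PS := [2, 3, 5, 7, 11, 13, 17, 19, 23, 31, 47]) (C := [(3, [(3, 1, 2), (7, 0, 1)]), (5, [(5, 0, 1), (11, 1, 0)]), (7, [(7, 0, 1)]), (23, [(47, 0, 1)])]) (by decide +kernel)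

theorem B_19_23_L3_5_7 : Gen (2 ^ 41 * 3 ^ 13 * 5 ^ 6 * 7 ^ 2 * 11 * 13 * 17 * 19 * 23 * 31 * 47) 19 23 [3, 5, 7] :=
  gen_of_check (PS := [2, 3, 5, 7, 11, 13, 17, 19, 23, 31, 47]) (C := [(3, [(13, 0, 1), (31, 1, 0)]), (5, [(11, 1, 3), (31, 0, 1)]), (23, [(47, 0, 1)])]) (by decide +kernel)

theorem B_19_23_L3_5_13 : Gen (2 ^ 41 * 3 ^ 13 * 5 ^ 6 * 7 ^ 2 * 11 * 13 * 17 * 19 * 23 * 31 * 47) 19 23 [3, 5, 13] :=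
  gen_of_check (PS := [2, 3, 5, 7, 11, 13, 17, 19, 23, 31, 47]) (C := [(3, [(7, 0, 1), (31, 1, 0)]), (5, [(11, 1, 3), (31, 0, 1)]), (7, [(7, 0, 1)]), (23, [(47, 0, 1)])]) (by decide +kernel)

theorem B_19_23_L3_7_11 : Gen (2 ^ 41 * 3 ^ 13 * 5 ^ 6 * 7 ^ 2 * 11 * 13 * 17 * 19 * 23 * 31 * 47) 19 23 [3, 7, 11] :=
  gen_of_check (PS := [2, 3, 5, 7, 11, 13, 17, 19, 23, 31, 47]) (C := [(3, [(13, 0, 1), (31, 1, 0)]), (5, [(5, 1, 3), (31, 0, 1)]), (23, [(47, 0, 1)])]) (by decide +kernel)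

theorem B_19_23_L3_11_13 : Gen (2 ^ 41 * 3 ^ 13 * 5 ^ 6 * 7 ^ 2 * 11 * 13 * 17 * 19 * 23 * 31 * 47) 19 23 [3, 11, 13] :=
  gen_of_check (PS := [2, 3, 5, 7, 11, 13, 17, 19, 23, 31, 47]) (C := [(3, [(7, 0, 1), (31, 1, 0)]), (5, [(5, 1, 3), (31, 0, 1)]), (7, [(7, 0, 1)]), (23, [(47, 0, 1)])]) (by decide +kernel)

theorem B_19_23_L5_7_13 : Gen (2 ^ 41 * 3 ^ 13 * 5 ^ 6 * 7 ^ 2 * 11 * 13 * 17 * 19 * 23 * 31 * 47) 19 23 [5, 7, 13] :=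
  gen_of_check (PS := [2, 3, 5, 7, 11, 13, 17, 19, 23, 31, 47]) (C := [(3, [(3, 0, 1), (31, 1, 0)]), (5, [(11, 1, 3), (31, 0, 1)]), (23, [(47, 0, 1)])]) (by decide +kernel)

theorem B_19_23_L7_11_13 : Gen (2 ^ 41 * 3 ^ 13 * 5 ^ 6 * 7 ^ 2 * 11 * 13 * 17 * 19 * 23 * 31 * 47) 19 23 [7, 11, 13] :=
  gen_of_check (PS := [2, 3, 5, 7, 11, 13, 17, 19, 23, 31, 47]) (C := [(3, [(3, 0, 1), (31, 1, 0)]), (5, [(5, 1, 3), (31, 0, 1)]), (23, [(47, 0, 1)])]) (by decide +kernel)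

theorem B_19_31_L7 : Gen (2 ^ 41 * 3 ^ 13 * 5 ^ 6 * 7 ^ 2 * 11 * 13 * 17 * 19 * 23 * 31 * 47) 19 31 [7] :=
  gen_of_check (PS := [2, 3, 5, 7, 11, 13, 17, 19, 23, 31, 47]) (C := [(3, [(3, 0, 1), (13, 1, 0)]), (5, [(5, 1, 2), (11, 0, 1)]), (11, [(23, 0, 1)]), (23, [(47, 0, 1)])]) (by decide +kernel)

theorem B_19_47_L3_31 : Gen (2 ^ 41 * 3 ^ 13 * 5 ^ 6 * 7 ^ 2 * 11 * 13 * 17 * 19 * 23 * 31 * 47) 19 47 [3, 31] :=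
  gen_of_check (PS := [2, 3, 5, 7, 11, 13, 17, 19, 23, 31, 47]) (C := [(3, [(7, 0, 1), (13, 1, 0)]), (5, [(5, 1, 4), (11, 0, 1)]), (7, [(7, 0, 1)]), (11, [(23, 1, 0)])]) (by decide +kernel)

theorem B_19_47_L7_31 : Gen (2 ^ 41 * 3 ^ 13 * 5 ^ 6 * 7 ^ 2 * 11 * 13 * 17 * 19 * 23 * 31 * 47) 19 47 [7, 31] :=
  gen_of_check (PS := [2, 3, 5, 7, 11, 13, 17, 19, 23, 31, 47]) (C := [(3, [(3, 0, 1), (13, 1, 0)]), (5, [(5, 1, 4), (11, 0, 1)]), (11, [(23, 1, 0)])]) (by decide +kernel)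

theorem B_19_47_L13_31 : Gen (2 ^ 41 * 3 ^ 13 * 5 ^ 6 * 7 ^ 2 * 11 * 13 * 17 * 19 * 23 * 31 * 47) 19 47 [13, 31] :=
  gen_of_check (PS := [2, 3, 5, 7, 11, 13, 17, 19, 23, 31, 47]) (C := [(3, [(3, 1, 2), (7, 0, 1)]), (5, [(5, 1, 4), (11, 0, 1)]), (7, [(7, 0, 1)]), (11, [(23, 1, 0)])]) (by decide +kernel)

theorem B_19_47_L3_5_13 : Gen (2 ^ 41 * 3 ^ 13 * 5 ^ 6 * 7 ^ 2 * 11 * 13 * 17 * 19 * 23 * 31 * 47) 19 47 [3, 5, 13] :=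
  gen_of_check (PS := [2, 3, 5, 7, 11, 13, 17, 19, 23, 31, 47]) (C := [(3, [(7, 0, 1), (31, 1, 0)]), (5, [(11, 1, 1), (31, 0, 1)]), (7, [(7, 0, 1)]), (11, [(23, 1, 0)])]) (by decide +kernel)

theorem B_19_47_L5_7_13 : Gen (2 ^ 41 * 3 ^ 13 * 5 ^ 6 * 7 ^ 2 * 11 * 13 * 17 * 19 * 23 * 31 * 47) 19 47 [5, 7, 13] :=
  gen_of_check (PS := [2, 3, 5, 7, 11, 13, 17, 19, 23, 31, 47]) (C := [(3, [(3, 0, 1), (31, 1, 0)]), (5, [(11, 1, 1), (31, 0, 1)]), (11, [(23, 1, 0)])]) (by decide +kernel)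

theorem B_23_31_L3_13 : Gen (2 ^ 41 * 3 ^ 13 * 5 ^ 6 * 7 ^ 2 * 11 * 13 * 17 * 19 * 23 * 31 * 47) 23 31 [3, 13] :=
  gen_of_check (PS := [2, 3, 5, 7, 11, 13, 17, 19, 23, 31, 47]) (C := [(3, [(7, 0, 1), (19, 1, 0)]), (5, [(5, 1, 0), (11, 0, 1)]), (7, [(7, 1, 0)]), (23, [(47, 0, 1)])]) (by decide +kernel)

theorem B_23_31_L3_19 : Gen (2 ^ 41 * 3 ^ 13 * 5 ^ 6 * 7 ^ 2 * 11 * 13 * 17 * 19 * 23 * 31 * 47) 23 31 [3, 19] :=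
  gen_of_check (PS := [2, 3, 5, 7, 11, 13, 17, 19, 23, 31, 47]) (C := [(3, [(7, 0, 1), (13, 1, 0)]), (5, [(5, 1, 0), (11, 0, 1)]), (7, [(7, 1, 0)]), (23, [(47, 0, 1)])]) (by decide +kernel)

theorem B_23_31_L7_13 : Gen (2 ^ 41 * 3 ^ 13 * 5 ^ 6 * 7 ^ 2 * 11 * 13 * 17 * 19 * 23 * 31 * 47) 23 31 [7, 13] :=
  gen_of_check (PS := [2, 3, 5, 7, 11, 13, 17, 19, 23, 31, 47]) (C := [(3, [(3, 0, 1), (19, 1, 0)]), (5, [(5, 1, 0), (11, 0, 1)]), (23, [(47, 0, 1)])]) (by decide +kernel)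

theorem B_23_31_L7_19 : Gen (2 ^ 41 * 3 ^ 13 * 5 ^ 6 * 7 ^ 2 * 11 * 13 * 17 * 19 * 23 * 31 * 47) 23 31 [7, 19] :=
  gen_of_check (PS := [2, 3, 5, 7, 11, 13, 17, 19, 23, 31, 47]) (C := [(3, [(3, 0, 1), (13, 1, 0)]), (5, [(5, 1, 0), (11, 0, 1)]), (23, [(47, 0, 1)])]) (by decide +kernel)

theorem B_23_31_L13_19 : Gen (2 ^ 41 * 3 ^ 13 * 5 ^ 6 * 7 ^ 2 * 11 * 13 * 17 * 19 * 23 * 31 * 47) 23 31 [13, 19] :=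
  gen_of_check (PS := [2, 3, 5, 7, 11, 13, 17, 19, 23, 31, 47]) (C := [(3, [(3, 1, 1), (7, 0, 1)]), (5, [(5, 1, 0), (11, 0, 1)]), (7, [(7, 1, 0)]), (23, [(47, 0, 1)])]) (by decide +kernel)

theorem B_23_47_L3_7_31 : Gen (2 ^ 41 * 3 ^ 13 * 5 ^ 6 * 7 ^ 2 * 11 * 13 * 17 * 19 * 23 * 31 * 47) 23 47 [3, 7, 31] :=
  gen_of_check (PS := [2, 3, 5, 7, 11, 13, 17, 19, 23, 31, 47]) (C := [(3, [(13, 1, 2), (19, 0, 1)]), (5, [(5, 1, 0), (11, 0, 1)])]) (by decide +kernel)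

theorem B_23_47_L3_19_31 : Gen (2 ^ 41 * 3 ^ 13 * 5 ^ 6 * 7 ^ 2 * 11 * 13 * 17 * 19 * 23 * 31 * 47) 23 47 [3, 19, 31] :=
  gen_of_check (PS := [2, 3, 5, 7, 11, 13, 17, 19, 23, 31, 47]) (C := [(3, [(7, 0, 1), (13, 1, 0)]), (5, [(5, 1, 0), (11, 0, 1)]), (7, [(7, 0, 1)])]) (by decide +kernel)

theorem B_23_47_L7_13_31 : Gen (2 ^ 41 * 3 ^ 13 * 5 ^ 6 * 7 ^ 2 * 11 * 13 * 17 * 19 * 23 * 31 * 47) 23 47 [7, 13, 31] :=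
  gen_of_check (PS := [2, 3, 5, 7, 11, 13, 17, 19, 23, 31, 47]) (C := [(3, [(3, 1, 2), (19, 0, 1)]), (5, [(5, 1, 0), (11, 0, 1)])]) (by decide +kernel)

theorem B_23_47_L7_19_31 : Gen (2 ^ 41 * 3 ^ 13 * 5 ^ 6 * 7 ^ 2 * 11 * 13 * 17 * 19 * 23 * 31 * 47) 23 47 [7, 19, 31] :=
  gen_of_check (PS := [2, 3, 5, 7, 11, 13, 17, 19, 23, 31, 47]) (C := [(3, [(3, 0, 1), (13, 1, 0)]), (5, [(5, 1, 0), (11, 0, 1)])]) (by decide +kernel)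

theorem B_23_47_L13_19_31 : Gen (2 ^ 41 * 3 ^ 13 * 5 ^ 6 * 7 ^ 2 * 11 * 13 * 17 * 19 * 23 * 31 * 47) 23 47 [13, 19, 31] :=
  gen_of_check (PS := [2, 3, 5, 7, 11, 13, 17, 19, 23, 31, 47]) (C := [(3, [(3, 1, 2), (7, 0, 1)]), (5, [(5, 1, 0), (11, 0, 1)]), (7, [(7, 0, 1)])]) (by decide +kernel)

theorem B_31_47_L3_13 : Gen (2 ^ 41 * 3 ^ 13 * 5 ^ 6 * 7 ^ 2 * 11 * 13 * 17 * 19 * 23 * 31 * 47) 31 47 [3, 13] :=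
  gen_of_check (PS := [2, 3, 5, 7, 11, 13, 17, 19, 23, 31, 47]) (C := [(3, [(7, 1, 0), (19, 0, 1)]), (5, [(5, 1, 3), (11, 0, 1)]), (7, [(7, 0, 1)]), (11, [(23, 1, 0)])]) (by decide +kernel)

theorem B_31_47_L7_13 : Gen (2 ^ 41 * 3 ^ 13 * 5 ^ 6 * 7 ^ 2 * 11 * 13 * 17 * 19 * 23 * 31 * 47) 31 47 [7, 13] :=
  gen_of_check (PS := [2, 3, 5, 7, 11, 13, 17, 19, 23, 31, 47]) (C := [(3, [(3, 1, 0), (19, 0, 1)]), (5, [(5, 1, 3), (11, 0, 1)]), (11, [(23, 1, 0)])]) (by decide +kernel)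

theorem M_17_19_L3_11_31_71 : Gen (2 ^ 46 * 3 ^ 20 * 5 ^ 9 * 7 ^ 6 * 11 ^ 2 * 13 ^ 3 * 17 * 19 * 23 * 29 * 31 * 41 * 47 * 59 * 71) 17 19 [3, 11, 31, 71] :=
  gen_of_check (PS := [2, 3, 5, 7, 11, 13, 17, 19, 23, 29, 31, 41, 47, 59, 71]) (C := [(3, [(7, 1, 2), (13, 0, 1)]), (5, [(5, 1, 3), (41, 0, 1)]), (7, [(7, 1, 0), (29, 0, 1)]), (11, [(23, 0, 1)]), (13, [(13, 1, 0)]), (23, [(47, 0, 1)]), (29, [(59, 0, 1)])]) (by decide +kernel)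

theorem M_17_71_L3_11_13_31 : Gen (2 ^ 46 * 3 ^ 20 * 5 ^ 9 * 7 ^ 6 * 11 ^ 2 * 13 ^ 3 * 17 * 19 * 23 * 29 * 31 * 41 * 47 * 59 * 71) 17 71 [3, 11, 13, 31] :=
  gen_of_check (PS := [2, 3, 5, 7, 11, 13, 17, 19, 23, 29, 31, 41, 47, 59, 71]) (C := [(3, [(7, 1, 2), (19, 0, 1)]), (5, [(5, 1, 4), (41, 0, 1)]), (7, [(7, 1, 0), (29, 0, 1)]), (11, [(23, 0, 1)]), (23, [(47, 0, 1)]), (29, [(59, 0, 1)])]) (by decide +kernel)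

theorem M_17_71_L3_11_19_31 : Gen (2 ^ 46 * 3 ^ 20 * 5 ^ 9 * 7 ^ 6 * 11 ^ 2 * 13 ^ 3 * 17 * 19 * 23 * 29 * 31 * 41 * 47 * 59 * 71) 17 71 [3, 11, 19, 31] :=
  gen_of_check (PS := [2, 3, 5, 7, 11, 13, 17, 19, 23, 29, 31, 41, 47, 59, 71]) (C := [(3, [(7, 1, 2), (13, 0, 1)]), (5, [(5, 1, 4), (41, 0, 1)]), (7, [(7, 1, 0), (29, 0, 1)]), (11, [(23, 0, 1)]), (13, [(13, 0, 1)]), (23, [(47, 0, 1)]), (29, [(59, 0, 1)])]) (by decide +kernel)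

theorem M_17_71_L3_13_31_41 : Gen (2 ^ 46 * 3 ^ 20 * 5 ^ 9 * 7 ^ 6 * 11 ^ 2 * 13 ^ 3 * 17 * 19 * 23 * 29 * 31 * 41 * 47 * 59 * 71) 17 71 [3, 13, 31, 41] :=
  gen_of_check (PS := [2, 3, 5, 7, 11, 13, 17, 19, 23, 29, 31, 41, 47, 59, 71]) (C := [(3, [(7, 1, 2), (19, 0, 1)]), (5, [(5, 1, 4), (11, 0, 1)]), (7, [(7, 1, 0), (29, 0, 1)]), (11, [(11, 1, 2), (23, 0, 1)]), (23, [(47, 0, 1)]), (29, [(59, 0, 1)])]) (by decide +kernel)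

theorem M_17_71_L3_19_31_41 : Gen (2 ^ 46 * 3 ^ 20 * 5 ^ 9 * 7 ^ 6 * 11 ^ 2 * 13 ^ 3 * 17 * 19 * 23 * 29 * 31 * 41 * 47 * 59 * 71) 17 71 [3, 19, 31, 41] :=
  gen_of_check (PS := [2, 3, 5, 7, 11, 13, 17, 19, 23, 29, 31, 41, 47, 59, 71]) (C := [(3, [(7, 1, 2), (13, 0, 1)]), (5, [(5, 1, 4), (11, 0, 1)]), (7, [(7, 1, 0), (29, 0, 1)]), (11, [(11, 1, 2), (23, 0, 1)]), (13, [(13, 0, 1)]), (23, [(47, 0, 1)]), (29, [(59, 0, 1)])]) (by decide +kernel)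

theorem M_19_23_L5_13_31_71 : Gen (2 ^ 46 * 3 ^ 20 * 5 ^ 9 * 7 ^ 6 * 11 ^ 2 * 13 ^ 3 * 17 * 19 * 23 * 29 * 31 * 41 * 47 * 59 * 71) 19 23 [5, 13, 31, 71] :=
  gen_of_check (PS := [2, 3, 5, 7, 11, 13, 17, 19, 23, 29, 31, 41, 47, 59, 71]) (C := [(3, [(3, 1, 2), (7, 0, 1)]), (5, [(11, 1, 1), (41, 0, 1)]), (7, [(7, 1, 2), (29, 0, 1)]), (11, [(11, 0, 1)]), (23, [(47, 0, 1)]), (29, [(59, 0, 1)])]) (by decide +kernel)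

theorem M_19_23_L11_13_31_71 : Gen (2 ^ 46 * 3 ^ 20 * 5 ^ 9 * 7 ^ 6 * 11 ^ 2 * 13 ^ 3 * 17 * 19 * 23 * 29 * 31 * 41 * 47 * 59 * 71) 19 23 [11, 13, 31, 71] :=
  gen_of_check (PS := [2, 3, 5, 7, 11, 13, 17, 19, 23, 29, 31, 41, 47, 59, 71]) (C := [(3, [(3, 1, 2), (7, 0, 1)]), (5, [(5, 1, 1), (41, 0, 1)]), (7, [(7, 1, 2), (29, 0, 1)]), (23, [(47, 0, 1)]), (29, [(59, 0, 1)])]) (by decide +kernel)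

theorem M_19_23_L13_31_41_71 : Gen (2 ^ 46 * 3 ^ 20 * 5 ^ 9 * 7 ^ 6 * 11 ^ 2 * 13 ^ 3 * 17 * 19 * 23 * 29 * 31 * 41 * 47 * 59 * 71) 19 23 [13, 31, 41, 71] :=
  gen_of_check (PS := [2, 3, 5, 7, 11, 13, 17, 19, 23, 29, 31, 41, 47, 59, 71]) (C := [(3, [(3, 1, 2), (7, 0, 1)]), (5, [(5, 0, 1), (11, 1, 0)]), (7, [(7, 1, 2), (29, 0, 1)]), (11, [(11, 0, 1)]), (23, [(47, 0, 1)]), (29, [(59, 0, 1)])]) (by decide +kernel)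

theorem M_19_29_L3_5_31_41 : Gen (2 ^ 46 * 3 ^ 20 * 5 ^ 9 * 7 ^ 6 * 11 ^ 2 * 13 ^ 3 * 17 * 19 * 23 * 29 * 31 * 41 * 47 * 59 * 71) 19 29 [3, 5, 31, 41] :=
  gen_of_check (PS := [2, 3, 5, 7, 11, 13, 17, 19, 23, 29, 31, 41, 47, 59, 71]) (C := [(3, [(7, 1, 1), (13, 0, 1)]), (5, [(11, 1, 3), (71, 0, 1)]), (7, [(7, 1, 1), (71, 0, 1)]), (11, [(11, 1, 1), (23, 0, 1)]), (13, [(13, 0, 1)]), (23, [(47, 0, 1)]), (29, [(59, 0, 1)])]) (by decide +kernel)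

theorem M_19_29_L3_5_31_71 : Gen (2 ^ 46 * 3 ^ 20 * 5 ^ 9 * 7 ^ 6 * 11 ^ 2 * 13 ^ 3 * 17 * 19 * 23 * 29 * 31 * 41 * 47 * 59 * 71) 19 29 [3, 5, 31, 71] :=
  gen_of_check (PS := [2, 3, 5, 7, 11, 13, 17, 19, 23, 29, 31, 41, 47, 59, 71]) (C := [(3, [(7, 1, 1), (13, 0, 1)]), (5, [(11, 1, 3), (41, 0, 1)]), (7, [(7, 0, 1)]), (11, [(11, 1, 1), (23, 0, 1)]), (13, [(13, 0, 1)]), (23, [(47, 0, 1)]), (29, [(59, 0, 1)])]) (by decide +kernel)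

theorem M_19_29_L3_11_31_41 : Gen (2 ^ 46 * 3 ^ 20 * 5 ^ 9 * 7 ^ 6 * 11 ^ 2 * 13 ^ 3 * 17 * 19 * 23 * 29 * 31 * 41 * 47 * 59 * 71) 19 29 [3, 11, 31, 41] :=
  gen_of_check (PS := [2, 3, 5, 7, 11, 13, 17, 19, 23, 29, 31, 41, 47, 59, 71]) (C := [(3, [(7, 1, 1), (13, 0, 1)]), (5, [(5, 1, 3), (71, 0, 1)]), (7, [(7, 1, 1), (71, 0, 1)]), (11, [(23, 0, 1)]), (13, [(13, 0, 1)]), (23, [(47, 0, 1)]), (29, [(59, 0, 1)])]) (by decide +kernel)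

theorem M_19_29_L3_11_31_71 : Gen (2 ^ 46 * 3 ^ 20 * 5 ^ 9 * 7 ^ 6 * 11 ^ 2 * 13 ^ 3 * 17 * 19 * 23 * 29 * 31 * 41 * 47 * 59 * 71) 19 29 [3, 11, 31, 71] :=
  gen_of_check (PS := [2, 3, 5, 7, 11, 13, 17, 19, 23, 29, 31, 41, 47, 59, 71]) (C := [(3, [(7, 1, 1), (13, 0, 1)]), (5, [(5, 1, 3), (41, 0, 1)]), (7, [(7, 0, 1)]), (11, [(23, 0, 1)]), (13, [(13, 0, 1)]), (23, [(47, 0, 1)]), (29, [(59, 0, 1)])]) (by decide +kernel)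

theorem M_19_29_L5_7_31_41 : Gen (2 ^ 46 * 3 ^ 20 * 5 ^ 9 * 7 ^ 6 * 11 ^ 2 * 13 ^ 3 * 17 * 19 * 23 * 29 * 31 * 41 * 47 * 59 * 71) 19 29 [5, 7, 31, 41] :=
  gen_of_check (PS := [2, 3, 5, 7, 11, 13, 17, 19, 23, 29, 31, 41, 47, 59, 71]) (C := [(3, [(3, 1, 1), (13, 0, 1)]), (5, [(11, 1, 3), (71, 0, 1)]), (7, [(71, 0, 1)]), (11, [(11, 1, 1), (23, 0, 1)]), (13, [(13, 0, 1)]), (23, [(47, 0, 1)]), (29, [(59, 0, 1)])]) (by decide +kernel)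

theorem M_19_29_L5_7_31_71 : Gen (2 ^ 46 * 3 ^ 20 * 5 ^ 9 * 7 ^ 6 * 11 ^ 2 * 13 ^ 3 * 17 * 19 * 23 * 29 * 31 * 41 * 47 * 59 * 71) 19 29 [5, 7, 31, 71] :=
  gen_of_check (PS := [2, 3, 5, 7, 11, 13, 17, 19, 23, 29, 31, 41, 47, 59, 71]) (C := [(3, [(3, 1, 1), (13, 0, 1)]), (5, [(11, 1, 3), (41, 0, 1)]), (11, [(11, 1, 1), (23, 0, 1)]), (13, [(13, 0, 1)]), (23, [(47, 0, 1)]), (29, [(59, 0, 1)])]) (by decide +kernel)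

theorem M_19_29_L5_13_31_41 : Gen (2 ^ 46 * 3 ^ 20 * 5 ^ 9 * 7 ^ 6 * 11 ^ 2 * 13 ^ 3 * 17 * 19 * 23 * 29 * 31 * 41 * 47 * 59 * 71) 19 29 [5, 13, 31, 41] :=
  gen_of_check (PS := [2, 3, 5, 7, 11, 13, 17, 19, 23, 29, 31, 41, 47, 59, 71]) (C := [(3, [(3, 0, 1), (7, 1, 0)]), (5, [(11, 1, 3), (71, 0, 1)]), (7, [(7, 1, 1), (71, 0, 1)]), (11, [(11, 1, 1), (23, 0, 1)]), (23, [(47, 0, 1)]), (29, [(59, 0, 1)])]) (by decide +kernel)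

theorem M_19_29_L5_13_31_71 : Gen (2 ^ 46 * 3 ^ 20 * 5 ^ 9 * 7 ^ 6 * 11 ^ 2 * 13 ^ 3 * 17 * 19 * 23 * 29 * 31 * 41 * 47 * 59 * 71) 19 29 [5, 13, 31, 71] :=
  gen_of_check (PS := [2, 3, 5, 7, 11, 13, 17, 19, 23, 29, 31, 41, 47, 59, 71]) (C := [(3, [(3, 0, 1), (7, 1, 0)]), (5, [(11, 1, 3), (41, 0, 1)]), (7, [(7, 0, 1)]), (11, [(11, 1, 1), (23, 0, 1)]), (23, [(47, 0, 1)]), (29, [(59, 0, 1)])]) (by decide +kernel)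

theorem M_19_29_L7_11_31_41 : Gen (2 ^ 46 * 3 ^ 20 * 5 ^ 9 * 7 ^ 6 * 11 ^ 2 * 13 ^ 3 * 17 * 19 * 23 * 29 * 31 * 41 * 47 * 59 * 71) 19 29 [7, 11, 31, 41] :=
  gen_of_check (PS := [2, 3, 5, 7, 11, 13, 17, 19, 23, 29, 31, 41, 47, 59, 71]) (C := [(3, [(3, 1, 1), (13, 0, 1)]), (5, [(5, 1, 3), (71, 0, 1)]), (7, [(71, 0, 1)]), (11, [(23, 0, 1)]), (13, [(13, 0, 1)]), (23, [(47, 0, 1)]), (29, [(59, 0, 1)])]) (by decide +kernel)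

theorem M_19_29_L7_11_31_71 : Gen (2 ^ 46 * 3 ^ 20 * 5 ^ 9 * 7 ^ 6 * 11 ^ 2 * 13 ^ 3 * 17 * 19 * 23 * 29 * 31 * 41 * 47 * 59 * 71) 19 29 [7, 11, 31, 71] :=
  gen_of_check (PS := [2, 3, 5, 7, 11, 13, 17, 19, 23, 29, 31, 41, 47, 59, 71]) (C := [(3, [(3, 1, 1), (13, 0, 1)]), (5, [(5, 1, 3), (41, 0, 1)]), (11, [(23, 0, 1)]), (13, [(13, 0, 1)]), (23, [(47, 0, 1)]), (29, [(59, 0, 1)])]) (by decide +kernel)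

theorem M_19_29_L11_13_31_41 : Gen (2 ^ 46 * 3 ^ 20 * 5 ^ 9 * 7 ^ 6 * 11 ^ 2 * 13 ^ 3 * 17 * 19 * 23 * 29 * 31 * 41 * 47 * 59 * 71) 19 29 [11, 13, 31, 41] :=
  gen_of_check (PS := [2, 3, 5, 7, 11, 13, 17, 19, 23, 29, 31, 41, 47, 59, 71]) (C := [(3, [(3, 0, 1), (7, 1, 0)]), (5, [(5, 1, 3), (71, 0, 1)]), (7, [(7, 1, 1), (71, 0, 1)]), (11, [(23, 0, 1)]), (23, [(47, 0, 1)]), (29, [(59, 0, 1)])]) (by decide +kernel)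

theorem M_19_29_L11_13_31_71 : Gen (2 ^ 46 * 3 ^ 20 * 5 ^ 9 * 7 ^ 6 * 11 ^ 2 * 13 ^ 3 * 17 * 19 * 23 * 29 * 31 * 41 * 47 * 59 * 71) 19 29 [11, 13, 31, 71] :=
  gen_of_check (PS := [2, 3, 5, 7, 11, 13, 17, 19, 23, 29, 31, 41, 47, 59, 71]) (C := [(3, [(3, 0, 1), (7, 1, 0)]), (5, [(5, 1, 3), (41, 0, 1)]), (7, [(7, 0, 1)]), (11, [(23, 0, 1)]), (23, [(47, 0, 1)]), (29, [(59, 0, 1)])]) (by decide +kernel)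

theorem M_19_31_L5_7_11 : Gen (2 ^ 46 * 3 ^ 20 * 5 ^ 9 * 7 ^ 6 * 11 ^ 2 * 13 ^ 3 * 17 * 19 * 23 * 29 * 31 * 41 * 47 * 59 * 71) 19 31 [5, 7, 11] :=
  gen_of_check (PS := [2, 3, 5, 7, 11, 13, 17, 19, 23, 29, 31, 41, 47, 59, 71]) (C := [(3, [(3, 0, 1), (13, 1, 0)]), (5, [(41, 1, 4), (71, 0, 1)]), (7, [(29, 1, 3), (71, 0, 1)]), (11, [(23, 0, 1)]), (13, [(13, 0, 1)]), (23, [(47, 0, 1)]), (29, [(59, 0, 1)])]) (by decide +kernel)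

theorem M_19_31_L7_11_71 : Gen (2 ^ 46 * 3 ^ 20 * 5 ^ 9 * 7 ^ 6 * 11 ^ 2 * 13 ^ 3 * 17 * 19 * 23 * 29 * 31 * 41 * 47 * 59 * 71) 19 31 [7, 11, 71] :=
  gen_of_check (PS := [2, 3, 5, 7, 11, 13, 17, 19, 23, 29, 31, 41, 47, 59, 71]) (C := [(3, [(3, 0, 1), (13, 1, 0)]), (5, [(5, 1, 2), (41, 0, 1)]), (7, [(29, 0, 1)]), (11, [(23, 0, 1)]), (13, [(13, 0, 1)]), (23, [(47, 0, 1)]), (29, [(59, 0, 1)])]) (by decide +kernel)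

theorem M_19_31_L5_7_23_41 : Gen (2 ^ 46 * 3 ^ 20 * 5 ^ 9 * 7 ^ 6 * 11 ^ 2 * 13 ^ 3 * 17 * 19 * 23 * 29 * 31 * 41 * 47 * 59 * 71) 19 31 [5, 7, 23, 41] :=
  gen_of_check (PS := [2, 3, 5, 7, 11, 13, 17, 19, 23, 29, 31, 41, 47, 59, 71]) (C := [(3, [(3, 0, 1), (13, 1, 0)]), (5, [(11, 1, 4), (71, 0, 1)]), (7, [(29, 1, 3), (71, 0, 1)]), (11, [(11, 0, 1)]), (13, [(13, 0, 1)]), (23, [(47, 0, 1)]), (29, [(59, 0, 1)])]) (by decide +kernel)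

theorem M_19_31_L7_23_41_71 : Gen (2 ^ 46 * 3 ^ 20 * 5 ^ 9 * 7 ^ 6 * 11 ^ 2 * 13 ^ 3 * 17 * 19 * 23 * 29 * 31 * 41 * 47 * 59 * 71) 19 31 [7, 23, 41, 71] :=
  gen_of_check (PS := [2, 3, 5, 7, 11, 13, 17, 19, 23, 29, 31, 41, 47, 59, 71]) (C := [(3, [(3, 0, 1), (13, 1, 0)]), (5, [(5, 1, 2), (11, 0, 1)]), (7, [(29, 0, 1)]), (11, [(11, 0, 1)]), (13, [(13, 0, 1)]), (23, [(47, 0, 1)]), (29, [(59, 0, 1)])]) (by decide +kernel)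

theorem M_19_41_L3_31_71 : Gen (2 ^ 46 * 3 ^ 20 * 5 ^ 9 * 7 ^ 6 * 11 ^ 2 * 13 ^ 3 * 17 * 19 * 23 * 29 * 31 * 41 * 47 * 59 * 71) 19 41 [3, 31, 71] :=
  gen_of_check (PS := [2, 3, 5, 7, 11, 13, 17, 19, 23, 29, 31, 41, 47, 59, 71]) (C := [(3, [(7, 1, 1), (13, 0, 1)]), (5, [(5, 1, 4), (11, 0, 1)]), (7, [(7, 0, 1), (29, 1, 0)]), (11, [(11, 1, 7), (23, 0, 1)]), (13, [(13, 0, 1)]), (23, [(47, 0, 1)]), (29, [(59, 0, 1)])]) (by decide +kernel)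

theorem M_19_41_L5_7_31 : Gen (2 ^ 46 * 3 ^ 20 * 5 ^ 9 * 7 ^ 6 * 11 ^ 2 * 13 ^ 3 * 17 * 19 * 23 * 29 * 31 * 41 * 47 * 59 * 71) 19 41 [5, 7, 31] :=
  gen_of_check (PS := [2, 3, 5, 7, 11, 13, 17, 19, 23, 29, 31, 41, 47, 59, 71]) (C := [(3, [(3, 1, 1), (13, 0, 1)]), (5, [(11, 0, 1), (71, 1, 0)]), (7, [(29, 1, 3), (71, 0, 1)]), (11, [(11, 1, 7), (23, 0, 1)]), (13, [(13, 0, 1)]), (23, [(47, 0, 1)]), (29, [(59, 0, 1)])]) (by decide +kernel)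

theorem M_19_41_L7_11_31 : Gen (2 ^ 46 * 3 ^ 20 * 5 ^ 9 * 7 ^ 6 * 11 ^ 2 * 13 ^ 3 * 17 * 19 * 23 * 29 * 31 * 41 * 47 * 59 * 71) 19 41 [7, 11, 31] :=
  gen_of_check (PS := [2, 3, 5, 7, 11, 13, 17, 19, 23, 29, 31, 41, 47, 59, 71]) (C := [(3, [(3, 1, 1), (13, 0, 1)]), (5, [(5, 0, 1), (71, 1, 0)]), (7, [(29, 1, 3), (71, 0, 1)]), (11, [(23, 0, 1)]), (13, [(13, 0, 1)]), (23, [(47, 0, 1)]), (29, [(59, 0, 1)])]) (by decide +kernel)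

theorem M_19_41_L7_31_71 : Gen (2 ^ 46 * 3 ^ 20 * 5 ^ 9 * 7 ^ 6 * 11 ^ 2 * 13 ^ 3 * 17 * 19 * 23 * 29 * 31 * 41 * 47 * 59 * 71) 19 41 [7, 31, 71] :=
  gen_of_check (PS := [2, 3, 5, 7, 11, 13, 17, 19, 23, 29, 31, 41, 47, 59, 71]) (C := [(3, [(3, 1, 1), (13, 0, 1)]), (5, [(5, 1, 4), (11, 0, 1)]), (7, [(29, 1, 0)]), (11, [(11, 1, 7), (23, 0, 1)]), (13, [(13, 0, 1)]), (23, [(47, 0, 1)]), (29, [(59, 0, 1)])]) (by decide +kernel)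

theorem M_19_41_L13_31_71 : Gen (2 ^ 46 * 3 ^ 20 * 5 ^ 9 * 7 ^ 6 * 11 ^ 2 * 13 ^ 3 * 17 * 19 * 23 * 29 * 31 * 41 * 47 * 59 * 71) 19 41 [13, 31, 71] :=
  gen_of_check (PS := [2, 3, 5, 7, 11, 13, 17, 19, 23, 29, 31, 41, 47, 59, 71]) (C := [(3, [(3, 0, 1), (7, 1, 0)]), (5, [(5, 1, 4), (11, 0, 1)]), (7, [(7, 0, 1), (29, 1, 0)]), (11, [(11, 1, 7), (23, 0, 1)]), (23, [(47, 0, 1)]), (29, [(59, 0, 1)])]) (by decide +kernel)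

theorem M_19_41_L3_5_29_31 : Gen (2 ^ 46 * 3 ^ 20 * 5 ^ 9 * 7 ^ 6 * 11 ^ 2 * 13 ^ 3 * 17 * 19 * 23 * 29 * 31 * 41 * 47 * 59 * 71) 19 41 [3, 5, 29, 31] :=
  gen_of_check (PS := [2, 3, 5, 7, 11, 13, 17, 19, 23, 29, 31, 41, 47, 59, 71]) (C := [(3, [(7, 1, 1), (13, 0, 1)]), (5, [(11, 0, 1), (71, 1, 0)]), (7, [(7, 1, 3), (71, 0, 1)]), (11, [(11, 1, 7), (23, 0, 1)]), (13, [(13, 0, 1)]), (23, [(47, 0, 1)]), (29, [(59, 0, 1)])]) (by decide +kernel)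

theorem M_19_41_L3_11_13_71 : Gen (2 ^ 46 * 3 ^ 20 * 5 ^ 9 * 7 ^ 6 * 11 ^ 2 * 13 ^ 3 * 17 * 19 * 23 * 29 * 31 * 41 * 47 * 59 * 71) 19 41 [3, 11, 13, 71] :=
  gen_of_check (PS := [2, 3, 5, 7, 11, 13, 17, 19, 23, 29, 31, 41, 47, 59, 71]) (C := [(3, [(7, 1, 1), (31, 0, 1)]), (5, [(5, 1, 4), (31, 0, 1)]), (7, [(7, 0, 1), (29, 1, 0)]), (11, [(23, 0, 1)]), (23, [(47, 0, 1)]), (29, [(59, 0, 1)])]) (by decide +kernel)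

theorem M_19_41_L3_11_29_31 : Gen (2 ^ 46 * 3 ^ 20 * 5 ^ 9 * 7 ^ 6 * 11 ^ 2 * 13 ^ 3 * 17 * 19 * 23 * 29 * 31 * 41 * 47 * 59 * 71) 19 41 [3, 11, 29, 31] :=
  gen_of_check (PS := [2, 3, 5, 7, 11, 13, 17, 19, 23, 29, 31, 41, 47, 59, 71]) (C := [(3, [(7, 1, 1), (13, 0, 1)]), (5, [(5, 0, 1), (71, 1, 0)]), (7, [(7, 1, 3), (71, 0, 1)]), (11, [(23, 0, 1)]), (13, [(13, 0, 1)]), (23, [(47, 0, 1)]), (29, [(59, 0, 1)])]) (by decide +kernel)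

theorem M_19_41_L5_7_11_13 : Gen (2 ^ 46 * 3 ^ 20 * 5 ^ 9 * 7 ^ 6 * 11 ^ 2 * 13 ^ 3 * 17 * 19 * 23 * 29 * 31 * 41 * 47 * 59 * 71) 19 41 [5, 7, 11, 13] :=
  gen_of_check (PS := [2, 3, 5, 7, 11, 13, 17, 19, 23, 29, 31, 41, 47, 59, 71]) (C := [(3, [(3, 1, 1), (31, 0, 1)]), (5, [(31, 0, 1), (71, 1, 0)]), (7, [(29, 1, 3), (71, 0, 1)]), (11, [(23, 0, 1)]), (23, [(47, 0, 1)]), (29, [(59, 0, 1)])]) (by decide +kernel)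

theorem M_19_41_L5_13_29_31 : Gen (2 ^ 46 * 3 ^ 20 * 5 ^ 9 * 7 ^ 6 * 11 ^ 2 * 13 ^ 3 * 17 * 19 * 23 * 29 * 31 * 41 * 47 * 59 * 71) 19 41 [5, 13, 29, 31] :=
  gen_of_check (PS := [2, 3, 5, 7, 11, 13, 17, 19, 23, 29, 31, 41, 47, 59, 71]) (C := [(3, [(3, 0, 1), (7, 1, 0)]), (5, [(11, 0, 1), (71, 1, 0)]), (7, [(7, 1, 3), (71, 0, 1)]), (11, [(11, 1, 7), (23, 0, 1)]), (23, [(47, 0, 1)]), (29, [(59, 0, 1)])]) (by decide +kernel)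

theorem M_19_41_L7_11_13_71 : Gen (2 ^ 46 * 3 ^ 20 * 5 ^ 9 * 7 ^ 6 * 11 ^ 2 * 13 ^ 3 * 17 * 19 * 23 * 29 * 31 * 41 * 47 * 59 * 71) 19 41 [7, 11, 13, 71] :=
  gen_of_check (PS := [2, 3, 5, 7, 11, 13, 17, 19, 23, 29, 31, 41, 47, 59, 71]) (C := [(3, [(3, 1, 1), (31, 0, 1)]), (5, [(5, 1, 4), (31, 0, 1)]), (7, [(29, 1, 0)]), (11, [(23, 0, 1)]), (23, [(47, 0, 1)]), (29, [(59, 0, 1)])]) (by decide +kernel)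

theorem M_19_41_L11_13_29_31 : Gen (2 ^ 46 * 3 ^ 20 * 5 ^ 9 * 7 ^ 6 * 11 ^ 2 * 13 ^ 3 * 17 * 19 * 23 * 29 * 31 * 41 * 47 * 59 * 71) 19 41 [11, 13, 29, 31] :=
  gen_of_check (PS := [2, 3, 5, 7, 11, 13, 17, 19, 23, 29, 31, 41, 47, 59, 71]) (C := [(3, [(3, 0, 1), (7, 1, 0)]), (5, [(5, 0, 1), (71, 1, 0)]), (7, [(7, 1, 3), (71, 0, 1)]), (11, [(23, 0, 1)]), (23, [(47, 0, 1)]), (29, [(59, 0, 1)])]) (by decide +kernel)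

theorem M_19_47_L3_5_31_71 : Gen (2 ^ 46 * 3 ^ 20 * 5 ^ 9 * 7 ^ 6 * 11 ^ 2 * 13 ^ 3 * 17 * 19 * 23 * 29 * 31 * 41 * 47 * 59 * 71) 19 47 [3, 5, 31, 71] :=
  gen_of_check (PS := [2, 3, 5, 7, 11, 13, 17, 19, 23, 29, 31, 41, 47, 59, 71]) (C := [(3, [(7, 0, 1), (13, 1, 0)]), (5, [(11, 1, 1), (41, 0, 1)]), (7, [(7, 1, 3), (29, 0, 1)]), (11, [(11, 0, 1), (23, 1, 0)]), (13, [(13, 0, 1)]), (29, [(59, 0, 1)])]) (by decide +kernel)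

theorem M_19_47_L3_31_41_71 : Gen (2 ^ 46 * 3 ^ 20 * 5 ^ 9 * 7 ^ 6 * 11 ^ 2 * 13 ^ 3 * 17 * 19 * 23 * 29 * 31 * 41 * 47 * 59 * 71) 19 47 [3, 31, 41, 71] :=
  gen_of_check (PS := [2, 3, 5, 7, 11, 13, 17, 19, 23, 29, 31, 41, 47, 59, 71]) (C := [(3, [(7, 0, 1), (13, 1, 0)]), (5, [(5, 1, 4), (11, 0, 1)]), (7, [(7, 1, 3), (29, 0, 1)]), (11, [(11, 0, 1), (23, 1, 0)]), (13, [(13, 0, 1)]), (29, [(59, 0, 1)])]) (by decide +kernel)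

theorem M_19_47_L5_7_31_41 : Gen (2 ^ 46 * 3 ^ 20 * 5 ^ 9 * 7 ^ 6 * 11 ^ 2 * 13 ^ 3 * 17 * 19 * 23 * 29 * 31 * 41 * 47 * 59 * 71) 19 47 [5, 7, 31, 41] :=
  gen_of_check (PS := [2, 3, 5, 7, 11, 13, 17, 19, 23, 29, 31, 41, 47, 59, 71]) (C := [(3, [(3, 0, 1), (13, 1, 0)]), (5, [(11, 1, 1), (71, 0, 1)]), (7, [(29, 1, 6), (71, 0, 1)]), (11, [(11, 0, 1), (23, 1, 0)]), (13, [(13, 0, 1)]), (29, [(59, 0, 1)])]) (by decide +kernel)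

theorem M_19_47_L5_7_31_71 : Gen (2 ^ 46 * 3 ^ 20 * 5 ^ 9 * 7 ^ 6 * 11 ^ 2 * 13 ^ 3 * 17 * 19 * 23 * 29 * 31 * 41 * 47 * 59 * 71) 19 47 [5, 7, 31, 71] :=
  gen_of_check (PS := [2, 3, 5, 7, 11, 13, 17, 19, 23, 29, 31, 41, 47, 59, 71]) (C := [(3, [(3, 0, 1), (13, 1, 0)]), (5, [(11, 1, 1), (41, 0, 1)]), (7, [(29, 0, 1)]), (11, [(11, 0, 1), (23, 1, 0)]), (13, [(13, 0, 1)]), (29, [(59, 0, 1)])]) (by decide +kernel)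

theorem M_19_47_L5_13_31_71 : Gen (2 ^ 46 * 3 ^ 20 * 5 ^ 9 * 7 ^ 6 * 11 ^ 2 * 13 ^ 3 * 17 * 19 * 23 * 29 * 31 * 41 * 47 * 59 * 71) 19 47 [5, 13, 31, 71] :=
  gen_of_check (PS := [2, 3, 5, 7, 11, 13, 17, 19, 23, 29, 31, 41, 47, 59, 71]) (C := [(3, [(3, 1, 2), (7, 0, 1)]), (5, [(11, 1, 1), (41, 0, 1)]), (7, [(7, 1, 3), (29, 0, 1)]), (11, [(11, 0, 1), (23, 1, 0)]), (29, [(59, 0, 1)])]) (by decide +kernel)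

theorem M_19_47_L7_31_41_71 : Gen (2 ^ 46 * 3 ^ 20 * 5 ^ 9 * 7 ^ 6 * 11 ^ 2 * 13 ^ 3 * 17 * 19 * 23 * 29 * 31 * 41 * 47 * 59 * 71) 19 47 [7, 31, 41, 71] :=
  gen_of_check (PS := [2, 3, 5, 7, 11, 13, 17, 19, 23, 29, 31, 41, 47, 59, 71]) (C := [(3, [(3, 0, 1), (13, 1, 0)]), (5, [(5, 1, 4), (11, 0, 1)]), (7, [(29, 0, 1)]), (11, [(11, 0, 1), (23, 1, 0)]), (13, [(13, 0, 1)]), (29, [(59, 0, 1)])]) (by decide +kernel)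

theorem M_19_47_L13_31_41_71 : Gen (2 ^ 46 * 3 ^ 20 * 5 ^ 9 * 7 ^ 6 * 11 ^ 2 * 13 ^ 3 * 17 * 19 * 23 * 29 * 31 * 41 * 47 * 59 * 71) 19 47 [13, 31, 41, 71] :=
  gen_of_check (PS := [2, 3, 5, 7, 11, 13, 17, 19, 23, 29, 31, 41, 47, 59, 71]) (C := [(3, [(3, 1, 2), (7, 0, 1)]), (5, [(5, 1, 4), (11, 0, 1)]), (7, [(7, 1, 3), (29, 0, 1)]), (11, [(11, 0, 1), (23, 1, 0)]), (29, [(59, 0, 1)])]) (by decide +kernel)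

theorem M_19_59_L3_11_31_71 : Gen (2 ^ 46 * 3 ^ 20 * 5 ^ 9 * 7 ^ 6 * 11 ^ 2 * 13 ^ 3 * 17 * 19 * 23 * 29 * 31 * 41 * 47 * 59 * 71) 19 59 [3, 11, 31, 71] :=
  gen_of_check (PS := [2, 3, 5, 7, 11, 13, 17, 19, 23, 29, 31, 41, 47, 59, 71]) (C := [(3, [(7, 1, 2), (13, 0, 1)]), (5, [(5, 1, 1), (41, 0, 1)]), (7, [(7, 0, 1), (29, 1, 0)]), (11, [(23, 0, 1)]), (13, [(13, 0, 1)]), (23, [(47, 0, 1)])]) (by decide +kernel)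

theorem M_19_59_L5_7_11_31 : Gen (2 ^ 46 * 3 ^ 20 * 5 ^ 9 * 7 ^ 6 * 11 ^ 2 * 13 ^ 3 * 17 * 19 * 23 * 29 * 31 * 41 * 47 * 59 * 71) 19 59 [5, 7, 11, 31] :=
  gen_of_check (PS := [2, 3, 5, 7, 11, 13, 17, 19, 23, 29, 31, 41, 47, 59, 71]) (C := [(3, [(3, 1, 2), (13, 0, 1)]), (5, [(41, 1, 3), (71, 0, 1)]), (7, [(29, 1, 4), (71, 0, 1)]), (11, [(23, 0, 1)]), (13, [(13, 0, 1)]), (23, [(47, 0, 1)])]) (by decide +kernel)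

theorem M_19_59_L7_11_31_71 : Gen (2 ^ 46 * 3 ^ 20 * 5 ^ 9 * 7 ^ 6 * 11 ^ 2 * 13 ^ 3 * 17 * 19 * 23 * 29 * 31 * 41 * 47 * 59 * 71) 19 59 [7, 11, 31, 71] :=
  gen_of_check (PS := [2, 3, 5, 7, 11, 13, 17, 19, 23, 29, 31, 41, 47, 59, 71]) (C := [(3, [(3, 1, 2), (13, 0, 1)]), (5, [(5, 1, 1), (41, 0, 1)]), (7, [(29, 1, 0)]), (11, [(23, 0, 1)]), (13, [(13, 0, 1)]), (23, [(47, 0, 1)])]) (by decide +kernel)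

theorem M_19_59_L11_13_31_71 : Gen (2 ^ 46 * 3 ^ 20 * 5 ^ 9 * 7 ^ 6 * 11 ^ 2 * 13 ^ 3 * 17 * 19 * 23 * 29 * 31 * 41 * 47 * 59 * 71) 19 59 [11, 13, 31, 71] :=
  gen_of_check (PS := [2, 3, 5, 7, 11, 13, 17, 19, 23, 29, 31, 41, 47, 59, 71]) (C := [(3, [(3, 1, 1), (7, 0, 1)]), (5, [(5, 1, 1), (41, 0, 1)]), (7, [(7, 0, 1), (29, 1, 0)]), (11, [(23, 0, 1)]), (23, [(47, 0, 1)])]) (by decide +kernel)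

theorem M_19_71_L3_5_31 : Gen (2 ^ 46 * 3 ^ 20 * 5 ^ 9 * 7 ^ 6 * 11 ^ 2 * 13 ^ 3 * 17 * 19 * 23 * 29 * 31 * 41 * 47 * 59 * 71) 19 71 [3, 5, 31] :=
  gen_of_check (PS := [2, 3, 5, 7, 11, 13, 17, 19, 23, 29, 31, 41, 47, 59, 71]) (C := [(3, [(7, 1, 2), (13, 0, 1)]), (5, [(11, 1, 2), (41, 0, 1)]), (7, [(7, 1, 3), (29, 0, 1)]), (11, [(11, 1, 9), (23, 0, 1)]), (13, [(13, 0, 1)]), (23, [(47, 0, 1)]), (29, [(59, 0, 1)])]) (by decide +kernel)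

theorem M_19_71_L3_11_31 : Gen (2 ^ 46 * 3 ^ 20 * 5 ^ 9 * 7 ^ 6 * 11 ^ 2 * 13 ^ 3 * 17 * 19 * 23 * 29 * 31 * 41 * 47 * 59 * 71) 19 71 [3, 11, 31] :=
  gen_of_check (PS := [2, 3, 5, 7, 11, 13, 17, 19, 23, 29, 31, 41, 47, 59, 71]) (C := [(3, [(7, 1, 2), (13, 0, 1)]), (5, [(5, 1, 2), (41, 0, 1)]), (7, [(7, 1, 3), (29, 0, 1)]), (11, [(23, 0, 1)]), (13, [(13, 0, 1)]), (23, [(47, 0, 1)]), (29, [(59, 0, 1)])]) (by decide +kernel)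

theorem M_19_71_L3_31_41 : Gen (2 ^ 46 * 3 ^ 20 * 5 ^ 9 * 7 ^ 6 * 11 ^ 2 * 13 ^ 3 * 17 * 19 * 23 * 29 * 31 * 41 * 47 * 59 * 71) 19 71 [3, 31, 41] :=
  gen_of_check (PS := [2, 3, 5, 7, 11, 13, 17, 19, 23, 29, 31, 41, 47, 59, 71]) (C := [(3, [(7, 1, 2), (13, 0, 1)]), (5, [(5, 1, 3), (11, 0, 1)]), (7, [(7, 1, 3), (29, 0, 1)]), (11, [(11, 1, 9), (23, 0, 1)]), (13, [(13, 0, 1)]), (23, [(47, 0, 1)]), (29, [(59, 0, 1)])]) (by decide +kernel)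

theorem M_19_71_L3_5_7_11 : Gen (2 ^ 46 * 3 ^ 20 * 5 ^ 9 * 7 ^ 6 * 11 ^ 2 * 13 ^ 3 * 17 * 19 * 23 * 29 * 31 * 41 * 47 * 59 * 71) 19 71 [3, 5, 7, 11] :=
  gen_of_check (PS := [2, 3, 5, 7, 11, 13, 17, 19, 23, 29, 31, 41, 47, 59, 71]) (C := [(3, [(13, 1, 1), (31, 0, 1)]), (5, [(31, 1, 2), (41, 0, 1)]), (7, [(29, 0, 1)]), (11, [(23, 0, 1)]), (13, [(13, 0, 1)]), (23, [(47, 0, 1)]), (29, [(59, 0, 1)])]) (by decide +kernel)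

theorem M_19_71_L3_5_11_13 : Gen (2 ^ 46 * 3 ^ 20 * 5 ^ 9 * 7 ^ 6 * 11 ^ 2 * 13 ^ 3 * 17 * 19 * 23 * 29 * 31 * 41 * 47 * 59 * 71) 19 71 [3, 5, 11, 13] :=
  gen_of_check (PS := [2, 3, 5, 7, 11, 13, 17, 19, 23, 29, 31, 41, 47, 59, 71]) (C := [(3, [(7, 1, 1), (31, 0, 1)]), (5, [(31, 1, 2), (41, 0, 1)]), (7, [(7, 1, 3), (29, 0, 1)]), (11, [(23, 0, 1)]), (23, [(47, 0, 1)]), (29, [(59, 0, 1)])]) (by decide +kernel)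

theorem M_19_71_L3_7_11_41 : Gen (2 ^ 46 * 3 ^ 20 * 5 ^ 9 * 7 ^ 6 * 11 ^ 2 * 13 ^ 3 * 17 * 19 * 23 * 29 * 31 * 41 * 47 * 59 * 71) 19 71 [3, 7, 11, 41] :=
  gen_of_check (PS := [2, 3, 5, 7, 11, 13, 17, 19, 23, 29, 31, 41, 47, 59, 71]) (C := [(3, [(13, 1, 1), (31, 0, 1)]), (5, [(5, 1, 3), (31, 0, 1)]), (7, [(29, 0, 1)]), (11, [(23, 0, 1)]), (13, [(13, 0, 1)]), (23, [(47, 0, 1)]), (29, [(59, 0, 1)])]) (by decide +kernel)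

theorem M_19_71_L3_11_13_41 : Gen (2 ^ 46 * 3 ^ 20 * 5 ^ 9 * 7 ^ 6 * 11 ^ 2 * 13 ^ 3 * 17 * 19 * 23 * 29 * 31 * 41 * 47 * 59 * 71) 19 71 [3, 11, 13, 41] :=
  gen_of_check (PS := [2, 3, 5, 7, 11, 13, 17, 19, 23, 29, 31, 41, 47, 59, 71]) (C := [(3, [(7, 1, 1), (31, 0, 1)]), (5, [(5, 1, 3), (31, 0, 1)]), (7, [(7, 1, 3), (29, 0, 1)]), (11, [(23, 0, 1)]), (23, [(47, 0, 1)]), (29, [(59, 0, 1)])]) (by decide +kernel)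

theorem M_23_31_L3_5_13_71 : Gen (2 ^ 46 * 3 ^ 20 * 5 ^ 9 * 7 ^ 6 * 11 ^ 2 * 13 ^ 3 * 17 * 19 * 23 * 29 * 31 * 41 * 47 * 59 * 71) 23 31 [3, 5, 13, 71] :=
  gen_of_check (PS := [2, 3, 5, 7, 11, 13, 17, 19, 23, 29, 31, 41, 47, 59, 71]) (C := [(3, [(7, 0, 1), (19, 1, 0)]), (5, [(11, 1, 3), (41, 0, 1)]), (7, [(7, 1, 1), (29, 0, 1)]), (11, [(11, 0, 1)]), (23, [(47, 0, 1)]), (29, [(59, 0, 1)])]) (by decide +kernel)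

theorem M_23_31_L3_5_19_71 : Gen (2 ^ 46 * 3 ^ 20 * 5 ^ 9 * 7 ^ 6 * 11 ^ 2 * 13 ^ 3 * 17 * 19 * 23 * 29 * 31 * 41 * 47 * 59 * 71) 23 31 [3, 5, 19, 71] :=
  gen_of_check (PS := [2, 3, 5, 7, 11, 13, 17, 19, 23, 29, 31, 41, 47, 59, 71]) (C := [(3, [(7, 0, 1), (13, 1, 0)]), (5, [(11, 1, 3), (41, 0, 1)]), (7, [(7, 1, 1), (29, 0, 1)]), (11, [(11, 0, 1)]), (13, [(13, 0, 1)]), (23, [(47, 0, 1)]), (29, [(59, 0, 1)])]) (by decide +kernel)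

theorem M_23_31_L3_13_41_71 : Gen (2 ^ 46 * 3 ^ 20 * 5 ^ 9 * 7 ^ 6 * 11 ^ 2 * 13 ^ 3 * 17 * 19 * 23 * 29 * 31 * 41 * 47 * 59 * 71) 23 31 [3, 13, 41, 71] :=
  gen_of_check (PS := [2, 3, 5, 7, 11, 13, 17, 19, 23, 29, 31, 41, 47, 59, 71]) (C := [(3, [(7, 0, 1), (19, 1, 0)]), (5, [(5, 1, 0), (11, 0, 1)]), (7, [(7, 1, 1), (29, 0, 1)]), (11, [(11, 0, 1)]), (23, [(47, 0, 1)]), (29, [(59, 0, 1)])]) (by decide +kernel)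

theorem M_23_31_L3_19_41_71 : Gen (2 ^ 46 * 3 ^ 20 * 5 ^ 9 * 7 ^ 6 * 11 ^ 2 * 13 ^ 3 * 17 * 19 * 23 * 29 * 31 * 41 * 47 * 59 * 71) 23 31 [3, 19, 41, 71] :=
  gen_of_check (PS := [2, 3, 5, 7, 11, 13, 17, 19, 23, 29, 31, 41, 47, 59, 71]) (C := [(3, [(7, 0, 1), (13, 1, 0)]), (5, [(5, 1, 0), (11, 0, 1)]), (7, [(7, 1, 1), (29, 0, 1)]), (11, [(11, 0, 1)]), (13, [(13, 0, 1)]), (23, [(47, 0, 1)]), (29, [(59, 0, 1)])]) (by decide +kernel)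

theorem M_23_31_L5_7_11_13 : Gen (2 ^ 46 * 3 ^ 20 * 5 ^ 9 * 7 ^ 6 * 11 ^ 2 * 13 ^ 3 * 17 * 19 * 23 * 29 * 31 * 41 * 47 * 59 * 71) 23 31 [5, 7, 11, 13] :=
  gen_of_check (PS := [2, 3, 5, 7, 11, 13, 17, 19, 23, 29, 31, 41, 47, 59, 71]) (C := [(3, [(3, 0, 1), (19, 1, 0)]), (5, [(41, 1, 0), (71, 0, 1)]), (7, [(29, 1, 5), (71, 0, 1)]), (23, [(47, 0, 1)]), (29, [(59, 0, 1)])]) (by decide +kernel)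

theorem M_23_31_L5_7_11_19 : Gen (2 ^ 46 * 3 ^ 20 * 5 ^ 9 * 7 ^ 6 * 11 ^ 2 * 13 ^ 3 * 17 * 19 * 23 * 29 * 31 * 41 * 47 * 59 * 71) 23 31 [5, 7, 11, 19] :=
  gen_of_check (PS := [2, 3, 5, 7, 11, 13, 17, 19, 23, 29, 31, 41, 47, 59, 71]) (C := [(3, [(3, 0, 1), (13, 1, 0)]), (5, [(41, 1, 0), (71, 0, 1)]), (7, [(29, 1, 5), (71, 0, 1)]), (13, [(13, 0, 1)]), (23, [(47, 0, 1)]), (29, [(59, 0, 1)])]) (by decide +kernel)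

theorem M_23_31_L5_7_13_71 : Gen (2 ^ 46 * 3 ^ 20 * 5 ^ 9 * 7 ^ 6 * 11 ^ 2 * 13 ^ 3 * 17 * 19 * 23 * 29 * 31 * 41 * 47 * 59 * 71) 23 31 [5, 7, 13, 71] :=
  gen_of_check (PS := [2, 3, 5, 7, 11, 13, 17, 19, 23, 29, 31, 41, 47, 59, 71]) (C := [(3, [(3, 0, 1), (19, 1, 0)]), (5, [(11, 1, 3), (41, 0, 1)]), (7, [(29, 0, 1)]), (11, [(11, 0, 1)]), (23, [(47, 0, 1)]), (29, [(59, 0, 1)])]) (by decide +kernel)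

theorem M_23_31_L5_7_19_71 : Gen (2 ^ 46 * 3 ^ 20 * 5 ^ 9 * 7 ^ 6 * 11 ^ 2 * 13 ^ 3 * 17 * 19 * 23 * 29 * 31 * 41 * 47 * 59 * 71) 23 31 [5, 7, 19, 71] :=
  gen_of_check (PS := [2, 3, 5, 7, 11, 13, 17, 19, 23, 29, 31, 41, 47, 59, 71]) (C := [(3, [(3, 0, 1), (13, 1, 0)]), (5, [(11, 1, 3), (41, 0, 1)]), (7, [(29, 0, 1)]), (11, [(11, 0, 1)]), (13, [(13, 0, 1)]), (23, [(47, 0, 1)]), (29, [(59, 0, 1)])]) (by decide +kernel)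

theorem M_23_31_L5_13_19_71 : Gen (2 ^ 46 * 3 ^ 20 * 5 ^ 9 * 7 ^ 6 * 11 ^ 2 * 13 ^ 3 * 17 * 19 * 23 * 29 * 31 * 41 * 47 * 59 * 71) 23 31 [5, 13, 19, 71] :=
  gen_of_check (PS := [2, 3, 5, 7, 11, 13, 17, 19, 23, 29, 31, 41, 47, 59, 71]) (C := [(3, [(3, 1, 1), (7, 0, 1)]), (5, [(11, 1, 3), (41, 0, 1)]), (7, [(7, 1, 1), (29, 0, 1)]), (11, [(11, 0, 1)]), (23, [(47, 0, 1)]), (29, [(59, 0, 1)])]) (by decide +kernel)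

theorem M_23_31_L7_11_13_41 : Gen (2 ^ 46 * 3 ^ 20 * 5 ^ 9 * 7 ^ 6 * 11 ^ 2 * 13 ^ 3 * 17 * 19 * 23 * 29 * 31 * 41 * 47 * 59 * 71) 23 31 [7, 11, 13, 41] :=
  gen_of_check (PS := [2, 3, 5, 7, 11, 13, 17, 19, 23, 29, 31, 41, 47, 59, 71]) (C := [(3, [(3, 0, 1), (19, 1, 0)]), (5, [(5, 1, 0), (71, 0, 1)]), (7, [(29, 1, 5), (71, 0, 1)]), (23, [(47, 0, 1)]), (29, [(59, 0, 1)])]) (by decide +kernel)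

theorem M_23_31_L7_11_19_41 : Gen (2 ^ 46 * 3 ^ 20 * 5 ^ 9 * 7 ^ 6 * 11 ^ 2 * 13 ^ 3 * 17 * 19 * 23 * 29 * 31 * 41 * 47 * 59 * 71) 23 31 [7, 11, 19, 41] :=
  gen_of_check (PS := [2, 3, 5, 7, 11, 13, 17, 19, 23, 29, 31, 41, 47, 59, 71]) (C := [(3, [(3, 0, 1), (13, 1, 0)]), (5, [(5, 1, 0), (71, 0, 1)]), (7, [(29, 1, 5), (71, 0, 1)]), (13, [(13, 0, 1)]), (23, [(47, 0, 1)]), (29, [(59, 0, 1)])]) (by decide +kernel)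

theorem M_23_31_L7_13_41_71 : Gen (2 ^ 46 * 3 ^ 20 * 5 ^ 9 * 7 ^ 6 * 11 ^ 2 * 13 ^ 3 * 17 * 19 * 23 * 29 * 31 * 41 * 47 * 59 * 71) 23 31 [7, 13, 41, 71] :=
  gen_of_check (PS := [2, 3, 5, 7, 11, 13, 17, 19, 23, 29, 31, 41, 47, 59, 71]) (C := [(3, [(3, 0, 1), (19, 1, 0)]), (5, [(5, 1, 0), (11, 0, 1)]), (7, [(29, 0, 1)]), (11, [(11, 0, 1)]), (23, [(47, 0, 1)]), (29, [(59, 0, 1)])]) (by decide +kernel)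

theorem M_23_31_L7_19_41_71 : Gen (2 ^ 46 * 3 ^ 20 * 5 ^ 9 * 7 ^ 6 * 11 ^ 2 * 13 ^ 3 * 17 * 19 * 23 * 29 * 31 * 41 * 47 * 59 * 71) 23 31 [7, 19, 41, 71] :=
  gen_of_check (PS := [2, 3, 5, 7, 11, 13, 17, 19, 23, 29, 31, 41, 47, 59, 71]) (C := [(3, [(3, 0, 1), (13, 1, 0)]), (5, [(5, 1, 0), (11, 0, 1)]), (7, [(29, 0, 1)]), (11, [(11, 0, 1)]), (13, [(13, 0, 1)]), (23, [(47, 0, 1)]), (29, [(59, 0, 1)])]) (by decide +kernel)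

theorem M_23_31_L13_19_41_71 : Gen (2 ^ 46 * 3 ^ 20 * 5 ^ 9 * 7 ^ 6 * 11 ^ 2 * 13 ^ 3 * 17 * 19 * 23 * 29 * 31 * 41 * 47 * 59 * 71) 23 31 [13, 19, 41, 71] :=
  gen_of_check (PS := [2, 3, 5, 7, 11, 13, 17, 19, 23, 29, 31, 41, 47, 59, 71]) (C := [(3, [(3, 1, 1), (7, 0, 1)]), (5, [(5, 1, 0), (11, 0, 1)]), (7, [(7, 1, 1), (29, 0, 1)]), (11, [(11, 0, 1)]), (23, [(47, 0, 1)]), (29, [(59, 0, 1)])]) (by decide +kernel)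

theorem M_23_41_L3_7_31_71 : Gen (2 ^ 46 * 3 ^ 20 * 5 ^ 9 * 7 ^ 6 * 11 ^ 2 * 13 ^ 3 * 17 * 19 * 23 * 29 * 31 * 41 * 47 * 59 * 71) 23 41 [3, 7, 31, 71] :=
  gen_of_check (PS := [2, 3, 5, 7, 11, 13, 17, 19, 23, 29, 31, 41, 47, 59, 71]) (C := [(3, [(13, 1, 1), (19, 0, 1)]), (5, [(5, 1, 0), (11, 0, 1)]), (7, [(29, 1, 0)]), (11, [(11, 0, 1)]), (13, [(13, 0, 1)]), (23, [(47, 0, 1)]), (29, [(59, 0, 1)])]) (by decide +kernel)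

theorem M_23_41_L3_13_31_71 : Gen (2 ^ 46 * 3 ^ 20 * 5 ^ 9 * 7 ^ 6 * 11 ^ 2 * 13 ^ 3 * 17 * 19 * 23 * 29 * 31 * 41 * 47 * 59 * 71) 23 41 [3, 13, 31, 71] :=
  gen_of_check (PS := [2, 3, 5, 7, 11, 13, 17, 19, 23, 29, 31, 41, 47, 59, 71]) (C := [(3, [(7, 1, 1), (19, 0, 1)]), (5, [(5, 1, 0), (11, 0, 1)]), (7, [(7, 0, 1), (29, 1, 0)]), (11, [(11, 0, 1)]), (23, [(47, 0, 1)]), (29, [(59, 0, 1)])]) (by decide +kernel)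

theorem M_23_41_L3_19_31_71 : Gen (2 ^ 46 * 3 ^ 20 * 5 ^ 9 * 7 ^ 6 * 11 ^ 2 * 13 ^ 3 * 17 * 19 * 23 * 29 * 31 * 41 * 47 * 59 * 71) 23 41 [3, 19, 31, 71] :=
  gen_of_check (PS := [2, 3, 5, 7, 11, 13, 17, 19, 23, 29, 31, 41, 47, 59, 71]) (C := [(3, [(7, 1, 2), (13, 0, 1)]), (5, [(5, 1, 0), (11, 0, 1)]), (7, [(7, 0, 1), (29, 1, 0)]), (11, [(11, 0, 1)]), (13, [(13, 0, 1)]), (23, [(47, 0, 1)]), (29, [(59, 0, 1)])]) (by decide +kernel)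

theorem M_23_41_L7_13_31_71 : Gen (2 ^ 46 * 3 ^ 20 * 5 ^ 9 * 7 ^ 6 * 11 ^ 2 * 13 ^ 3 * 17 * 19 * 23 * 29 * 31 * 41 * 47 * 59 * 71) 23 41 [7, 13, 31, 71] :=
  gen_of_check (PS := [2, 3, 5, 7, 11, 13, 17, 19, 23, 29, 31, 41, 47, 59, 71]) (C := [(3, [(3, 1, 1), (19, 0, 1)]), (5, [(5, 1, 0), (11, 0, 1)]), (7, [(29, 1, 0)]), (11, [(11, 0, 1)]), (23, [(47, 0, 1)]), (29, [(59, 0, 1)])]) (by decide +kernel)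

theorem M_23_41_L13_19_31_71 : Gen (2 ^ 46 * 3 ^ 20 * 5 ^ 9 * 7 ^ 6 * 11 ^ 2 * 13 ^ 3 * 17 * 19 * 23 * 29 * 31 * 41 * 47 * 59 * 71) 23 41 [13, 19, 31, 71] :=
  gen_of_check (PS := [2, 3, 5, 7, 11, 13, 17, 19, 23, 29, 31, 41, 47, 59, 71]) (C := [(3, [(3, 0, 1), (7, 1, 0)]), (5, [(5, 1, 0), (11, 0, 1)]), (7, [(7, 0, 1), (29, 1, 0)]), (11, [(11, 0, 1)]), (23, [(47, 0, 1)]), (29, [(59, 0, 1)])]) (by decide +kernel)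

theorem M_23_71_L3_5_13_31 : Gen (2 ^ 46 * 3 ^ 20 * 5 ^ 9 * 7 ^ 6 * 11 ^ 2 * 13 ^ 3 * 17 * 19 * 23 * 29 * 31 * 41 * 47 * 59 * 71) 23 71 [3, 5, 13, 31] :=
  gen_of_check (PS := [2, 3, 5, 7, 11, 13, 17, 19, 23, 29, 31, 41, 47, 59, 71]) (C := [(3, [(7, 1, 1), (19, 0, 1)]), (5, [(11, 1, 3), (41, 0, 1)]), (7, [(7, 1, 2), (29, 0, 1)]), (11, [(11, 0, 1)]), (23, [(47, 0, 1)]), (29, [(59, 0, 1)])]) (by decide +kernel)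

theorem M_23_71_L3_5_19_31 : Gen (2 ^ 46 * 3 ^ 20 * 5 ^ 9 * 7 ^ 6 * 11 ^ 2 * 13 ^ 3 * 17 * 19 * 23 * 29 * 31 * 41 * 47 * 59 * 71) 23 71 [3, 5, 19, 31] :=
  gen_of_check (PS := [2, 3, 5, 7, 11, 13, 17, 19, 23, 29, 31, 41, 47, 59, 71]) (C := [(3, [(7, 1, 1), (13, 0, 1)]), (5, [(11, 1, 3), (41, 0, 1)]), (7, [(7, 1, 2), (29, 0, 1)]), (11, [(11, 0, 1)]), (13, [(13, 0, 1)]), (23, [(47, 0, 1)]), (29, [(59, 0, 1)])]) (by decide +kernel)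

theorem M_23_71_L3_11_13_31 : Gen (2 ^ 46 * 3 ^ 20 * 5 ^ 9 * 7 ^ 6 * 11 ^ 2 * 13 ^ 3 * 17 * 19 * 23 * 29 * 31 * 41 * 47 * 59 * 71) 23 71 [3, 11, 13, 31] :=
  gen_of_check (PS := [2, 3, 5, 7, 11, 13, 17, 19, 23, 29, 31, 41, 47, 59, 71]) (C := [(3, [(7, 1, 1), (19, 0, 1)]), (5, [(5, 1, 3), (41, 0, 1)]), (7, [(7, 1, 2), (29, 0, 1)]), (23, [(47, 0, 1)]), (29, [(59, 0, 1)])]) (by decide +kernel)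

theorem M_23_71_L3_11_19_31 : Gen (2 ^ 46 * 3 ^ 20 * 5 ^ 9 * 7 ^ 6 * 11 ^ 2 * 13 ^ 3 * 17 * 19 * 23 * 29 * 31 * 41 * 47 * 59 * 71) 23 71 [3, 11, 19, 31] :=
  gen_of_check (PS := [2, 3, 5, 7, 11, 13, 17, 19, 23, 29, 31, 41, 47, 59, 71]) (C := [(3, [(7, 1, 1), (13, 0, 1)]), (5, [(5, 1, 3), (41, 0, 1)]), (7, [(7, 1, 2), (29, 0, 1)]), (13, [(13, 0, 1)]), (23, [(47, 0, 1)]), (29, [(59, 0, 1)])]) (by decide +kernel)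

theorem M_23_71_L3_13_31_41 : Gen (2 ^ 46 * 3 ^ 20 * 5 ^ 9 * 7 ^ 6 * 11 ^ 2 * 13 ^ 3 * 17 * 19 * 23 * 29 * 31 * 41 * 47 * 59 * 71) 23 71 [3, 13, 31, 41] :=
  gen_of_check (PS := [2, 3, 5, 7, 11, 13, 17, 19, 23, 29, 31, 41, 47, 59, 71]) (C := [(3, [(7, 1, 1), (19, 0, 1)]), (5, [(5, 1, 0), (11, 0, 1)]), (7, [(7, 1, 2), (29, 0, 1)]), (11, [(11, 0, 1)]), (23, [(47, 0, 1)]), (29, [(59, 0, 1)])]) (by decide +kernel)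

theorem M_23_71_L3_19_31_41 : Gen (2 ^ 46 * 3 ^ 20 * 5 ^ 9 * 7 ^ 6 * 11 ^ 2 * 13 ^ 3 * 17 * 19 * 23 * 29 * 31 * 41 * 47 * 59 * 71) 23 71 [3, 19, 31, 41] :=
  gen_of_check (PS := [2, 3, 5, 7, 11, 13, 17, 19, 23, 29, 31, 41, 47, 59, 71]) (C := [(3, [(7, 1, 1), (13, 0, 1)]), (5, [(5, 1, 0), (11, 0, 1)]), (7, [(7, 1, 2), (29, 0, 1)]), (11, [(11, 0, 1)]), (13, [(13, 0, 1)]), (23, [(47, 0, 1)]), (29, [(59, 0, 1)])]) (by decide +kernel)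

theorem M_23_71_L5_7_13_31 : Gen (2 ^ 46 * 3 ^ 20 * 5 ^ 9 * 7 ^ 6 * 11 ^ 2 * 13 ^ 3 * 17 * 19 * 23 * 29 * 31 * 41 * 47 * 59 * 71) 23 71 [5, 7, 13, 31] :=
  gen_of_check (PS := [2, 3, 5, 7, 11, 13, 17, 19, 23, 29, 31, 41, 47, 59, 71]) (C := [(3, [(3, 1, 1), (19, 0, 1)]), (5, [(11, 1, 3), (41, 0, 1)]), (7, [(29, 0, 1)]), (11, [(11, 0, 1)]), (23, [(47, 0, 1)]), (29, [(59, 0, 1)])]) (by decide +kernel)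

theorem M_23_71_L5_7_19_31 : Gen (2 ^ 46 * 3 ^ 20 * 5 ^ 9 * 7 ^ 6 * 11 ^ 2 * 13 ^ 3 * 17 * 19 * 23 * 29 * 31 * 41 * 47 * 59 * 71) 23 71 [5, 7, 19, 31] :=
  gen_of_check (PS := [2, 3, 5, 7, 11, 13, 17, 19, 23, 29, 31, 41, 47, 59, 71]) (C := [(3, [(3, 1, 1), (13, 0, 1)]), (5, [(11, 1, 3), (41, 0, 1)]), (7, [(29, 0, 1)]), (11, [(11, 0, 1)]), (13, [(13, 0, 1)]), (23, [(47, 0, 1)]), (29, [(59, 0, 1)])]) (by decide +kernel)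

theorem M_23_71_L7_11_13_31 : Gen (2 ^ 46 * 3 ^ 20 * 5 ^ 9 * 7 ^ 6 * 11 ^ 2 * 13 ^ 3 * 17 * 19 * 23 * 29 * 31 * 41 * 47 * 59 * 71) 23 71 [7, 11, 13, 31] :=
  gen_of_check (PS := [2, 3, 5, 7, 11, 13, 17, 19, 23, 29, 31, 41, 47, 59, 71]) (C := [(3, [(3, 1, 1), (19, 0, 1)]), (5, [(5, 1, 3), (41, 0, 1)]), (7, [(29, 0, 1)]), (23, [(47, 0, 1)]), (29, [(59, 0, 1)])]) (by decide +kernel)

theorem M_23_71_L7_11_19_31 : Gen (2 ^ 46 * 3 ^ 20 * 5 ^ 9 * 7 ^ 6 * 11 ^ 2 * 13 ^ 3 * 17 * 19 * 23 * 29 * 31 * 41 * 47 * 59 * 71) 23 71 [7, 11, 19, 31] :=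
  gen_of_check (PS := [2, 3, 5, 7, 11, 13, 17, 19, 23, 29, 31, 41, 47, 59, 71]) (C := [(3, [(3, 1, 1), (13, 0, 1)]), (5, [(5, 1, 3), (41, 0, 1)]), (7, [(29, 0, 1)]), (13, [(13, 0, 1)]), (23, [(47, 0, 1)]), (29, [(59, 0, 1)])]) (by decide +kernel)

theorem M_23_71_L7_13_31_41 : Gen (2 ^ 46 * 3 ^ 20 * 5 ^ 9 * 7 ^ 6 * 11 ^ 2 * 13 ^ 3 * 17 * 19 * 23 * 29 * 31 * 41 * 47 * 59 * 71) 23 71 [7, 13, 31, 41] :=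
  gen_of_check (PS := [2, 3, 5, 7, 11, 13, 17, 19, 23, 29, 31, 41, 47, 59, 71]) (C := [(3, [(3, 1, 1), (19, 0, 1)]), (5, [(5, 1, 0), (11, 0, 1)]), (7, [(29, 0, 1)]), (11, [(11, 0, 1)]), (23, [(47, 0, 1)]), (29, [(59, 0, 1)])]) (by decide +kernel)

theorem M_23_71_L7_19_31_41 : Gen (2 ^ 46 * 3 ^ 20 * 5 ^ 9 * 7 ^ 6 * 11 ^ 2 * 13 ^ 3 * 17 * 19 * 23 * 29 * 31 * 41 * 47 * 59 * 71) 23 71 [7, 19, 31, 41] :=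
  gen_of_check (PS := [2, 3, 5, 7, 11, 13, 17, 19, 23, 29, 31, 41, 47, 59, 71]) (C := [(3, [(3, 1, 1), (13, 0, 1)]), (5, [(5, 1, 0), (11, 0, 1)]), (7, [(29, 0, 1)]), (11, [(11, 0, 1)]), (13, [(13, 0, 1)]), (23, [(47, 0, 1)]), (29, [(59, 0, 1)])]) (by decide +kernel)

theorem M_29_31_L3_5_11_13 : Gen (2 ^ 46 * 3 ^ 20 * 5 ^ 9 * 7 ^ 6 * 11 ^ 2 * 13 ^ 3 * 17 * 19 * 23 * 29 * 31 * 41 * 47 * 59 * 71) 29 31 [3, 5, 11, 13] :=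
  gen_of_check (PS := [2, 3, 5, 7, 11, 13, 17, 19, 23, 29, 31, 41, 47, 59, 71]) (C := [(3, [(7, 0, 1), (19, 1, 0)]), (5, [(41, 1, 2), (71, 0, 1)]), (7, [(7, 1, 4), (71, 0, 1)]), (11, [(23, 0, 1)]), (23, [(47, 0, 1)]), (29, [(59, 0, 1)])]) (by decide +kernel)

theorem M_29_31_L3_5_11_19 : Gen (2 ^ 46 * 3 ^ 20 * 5 ^ 9 * 7 ^ 6 * 11 ^ 2 * 13 ^ 3 * 17 * 19 * 23 * 29 * 31 * 41 * 47 * 59 * 71) 29 31 [3, 5, 11, 19] :=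
  gen_of_check (PS := [2, 3, 5, 7, 11, 13, 17, 19, 23, 29, 31, 41, 47, 59, 71]) (C := [(3, [(7, 0, 1), (13, 1, 0)]), (5, [(41, 1, 2), (71, 0, 1)]), (7, [(7, 1, 4), (71, 0, 1)]), (11, [(23, 0, 1)]), (13, [(13, 0, 1)]), (23, [(47, 0, 1)]), (29, [(59, 0, 1)])]) (by decide +kernel)

theorem M_29_31_L3_5_13_41 : Gen (2 ^ 46 * 3 ^ 20 * 5 ^ 9 * 7 ^ 6 * 11 ^ 2 * 13 ^ 3 * 17 * 19 * 23 * 29 * 31 * 41 * 47 * 59 * 71) 29 31 [3, 5, 13, 41] :=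
  gen_of_check (PS := [2, 3, 5, 7, 11, 13, 17, 19, 23, 29, 31, 41, 47, 59, 71]) (C := [(3, [(7, 0, 1), (19, 1, 0)]), (5, [(11, 1, 2), (71, 0, 1)]), (7, [(7, 1, 4), (71, 0, 1)]), (11, [(11, 1, 8), (23, 0, 1)]), (23, [(47, 0, 1)]), (29, [(59, 0, 1)])]) (by decide +kernel)

theorem M_29_31_L3_5_13_71 : Gen (2 ^ 46 * 3 ^ 20 * 5 ^ 9 * 7 ^ 6 * 11 ^ 2 * 13 ^ 3 * 17 * 19 * 23 * 29 * 31 * 41 * 47 * 59 * 71) 29 31 [3, 5, 13, 71] :=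
  gen_of_check (PS := [2, 3, 5, 7, 11, 13, 17, 19, 23, 29, 31, 41, 47, 59, 71]) (C := [(3, [(7, 0, 1), (19, 1, 0)]), (5, [(11, 1, 1), (41, 0, 1)]), (7, [(7, 1, 0)]), (11, [(11, 1, 8), (23, 0, 1)]), (23, [(47, 0, 1)]), (29, [(59, 0, 1)])]) (by decide +kernel)

theorem M_29_31_L3_5_19_41 : Gen (2 ^ 46 * 3 ^ 20 * 5 ^ 9 * 7 ^ 6 * 11 ^ 2 * 13 ^ 3 * 17 * 19 * 23 * 29 * 31 * 41 * 47 * 59 * 71) 29 31 [3, 5, 19, 41] :=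
  gen_of_check (PS := [2, 3, 5, 7, 11, 13, 17, 19, 23, 29, 31, 41, 47, 59, 71]) (C := [(3, [(7, 0, 1), (13, 1, 0)]), (5, [(11, 1, 2), (71, 0, 1)]), (7, [(7, 1, 4), (71, 0, 1)]), (11, [(11, 1, 8), (23, 0, 1)]), (13, [(13, 0, 1)]), (23, [(47, 0, 1)]), (29, [(59, 0, 1)])]) (by decide +kernel)

theorem M_29_31_L3_5_19_71 : Gen (2 ^ 46 * 3 ^ 20 * 5 ^ 9 * 7 ^ 6 * 11 ^ 2 * 13 ^ 3 * 17 * 19 * 23 * 29 * 31 * 41 * 47 * 59 * 71) 29 31 [3, 5, 19, 71] :=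
  gen_of_check (PS := [2, 3, 5, 7, 11, 13, 17, 19, 23, 29, 31, 41, 47, 59, 71]) (C := [(3, [(7, 0, 1), (13, 1, 0)]), (5, [(11, 1, 1), (41, 0, 1)]), (7, [(7, 1, 0)]), (11, [(11, 1, 8), (23, 0, 1)]), (13, [(13, 0, 1)]), (23, [(47, 0, 1)]), (29, [(59, 0, 1)])]) (by decide +kernel)

theorem M_29_31_L3_11_13_41 : Gen (2 ^ 46 * 3 ^ 20 * 5 ^ 9 * 7 ^ 6 * 11 ^ 2 * 13 ^ 3 * 17 * 19 * 23 * 29 * 31 * 41 * 47 * 59 * 71) 29 31 [3, 11, 13, 41] :=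
  gen_of_check (PS := [2, 3, 5, 7, 11, 13, 17, 19, 23, 29, 31, 41, 47, 59, 71]) (C := [(3, [(7, 0, 1), (19, 1, 0)]), (5, [(5, 1, 2), (71, 0, 1)]), (7, [(7, 1, 4), (71, 0, 1)]), (11, [(23, 0, 1)]), (23, [(47, 0, 1)]), (29, [(59, 0, 1)])]) (by decide +kernel)

theorem M_29_31_L3_11_19_41 : Gen (2 ^ 46 * 3 ^ 20 * 5 ^ 9 * 7 ^ 6 * 11 ^ 2 * 13 ^ 3 * 17 * 19 * 23 * 29 * 31 * 41 * 47 * 59 * 71) 29 31 [3, 11, 19, 41] :=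
  gen_of_check (PS := [2, 3, 5, 7, 11, 13, 17, 19, 23, 29, 31, 41, 47, 59, 71]) (C := [(3, [(7, 0, 1), (13, 1, 0)]), (5, [(5, 1, 2), (71, 0, 1)]), (7, [(7, 1, 4), (71, 0, 1)]), (11, [(23, 0, 1)]), (13, [(13, 0, 1)]), (23, [(47, 0, 1)]), (29, [(59, 0, 1)])]) (by decide +kernel)

theorem M_29_31_L3_13_41_71 : Gen (2 ^ 46 * 3 ^ 20 * 5 ^ 9 * 7 ^ 6 * 11 ^ 2 * 13 ^ 3 * 17 * 19 * 23 * 29 * 31 * 41 * 47 * 59 * 71) 29 31 [3, 13, 41, 71] :=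
  gen_of_check (PS := [2, 3, 5, 7, 11, 13, 17, 19, 23, 29, 31, 41, 47, 59, 71]) (C := [(3, [(7, 0, 1), (19, 1, 0)]), (5, [(5, 1, 3), (11, 0, 1)]), (7, [(7, 1, 0)]), (11, [(11, 1, 8), (23, 0, 1)]), (23, [(47, 0, 1)]), (29, [(59, 0, 1)])]) (by decide +kernel)

theorem M_29_31_L3_19_41_71 : Gen (2 ^ 46 * 3 ^ 20 * 5 ^ 9 * 7 ^ 6 * 11 ^ 2 * 13 ^ 3 * 17 * 19 * 23 * 29 * 31 * 41 * 47 * 59 * 71) 29 31 [3, 19, 41, 71] :=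
  gen_of_check (PS := [2, 3, 5, 7, 11, 13, 17, 19, 23, 29, 31, 41, 47, 59, 71]) (C := [(3, [(7, 0, 1), (13, 1, 0)]), (5, [(5, 1, 3), (11, 0, 1)]), (7, [(7, 1, 0)]), (11, [(11, 1, 8), (23, 0, 1)]), (13, [(13, 0, 1)]), (23, [(47, 0, 1)]), (29, [(59, 0, 1)])]) (by decide +kernel)

theorem M_29_31_L5_7_11_13 : Gen (2 ^ 46 * 3 ^ 20 * 5 ^ 9 * 7 ^ 6 * 11 ^ 2 * 13 ^ 3 * 17 * 19 * 23 * 29 * 31 * 41 * 47 * 59 * 71) 29 31 [5, 7, 11, 13] :=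
  gen_of_check (PS := [2, 3, 5, 7, 11, 13, 17, 19, 23, 29, 31, 41, 47, 59, 71]) (C := [(3, [(3, 0, 1), (19, 1, 0)]), (5, [(41, 1, 2), (71, 0, 1)]), (7, [(71, 0, 1)]), (11, [(23, 0, 1)]), (23, [(47, 0, 1)]), (29, [(59, 0, 1)])]) (by decide +kernel)

theorem M_29_31_L5_7_11_19 : Gen (2 ^ 46 * 3 ^ 20 * 5 ^ 9 * 7 ^ 6 * 11 ^ 2 * 13 ^ 3 * 17 * 19 * 23 * 29 * 31 * 41 * 47 * 59 * 71) 29 31 [5, 7, 11, 19] :=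
  gen_of_check (PS := [2, 3, 5, 7, 11, 13, 17, 19, 23, 29, 31, 41, 47, 59, 71]) (C := [(3, [(3, 0, 1), (13, 1, 0)]), (5, [(41, 1, 2), (71, 0, 1)]), (7, [(71, 0, 1)]), (11, [(23, 0, 1)]), (13, [(13, 0, 1)]), (23, [(47, 0, 1)]), (29, [(59, 0, 1)])]) (by decide +kernel)

theorem M_29_31_L5_7_13_41 : Gen (2 ^ 46 * 3 ^ 20 * 5 ^ 9 * 7 ^ 6 * 11 ^ 2 * 13 ^ 3 * 17 * 19 * 23 * 29 * 31 * 41 * 47 * 59 * 71) 29 31 [5, 7, 13, 41] :=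
  gen_of_check (PS := [2, 3, 5, 7, 11, 13, 17, 19, 23, 29, 31, 41, 47, 59, 71]) (C := [(3, [(3, 0, 1), (19, 1, 0)]), (5, [(11, 1, 2), (71, 0, 1)]), (7, [(71, 0, 1)]), (11, [(11, 1, 8), (23, 0, 1)]), (23, [(47, 0, 1)]), (29, [(59, 0, 1)])]) (by decide +kernel)

theorem M_29_31_L5_7_13_71 : Gen (2 ^ 46 * 3 ^ 20 * 5 ^ 9 * 7 ^ 6 * 11 ^ 2 * 13 ^ 3 * 17 * 19 * 23 * 29 * 31 * 41 * 47 * 59 * 71) 29 31 [5, 7, 13, 71] :=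
  gen_of_check (PS := [2, 3, 5, 7, 11, 13, 17, 19, 23, 29, 31, 41, 47, 59, 71]) (C := [(3, [(3, 0, 1), (19, 1, 0)]), (5, [(11, 1, 1), (41, 0, 1)]), (11, [(11, 1, 8), (23, 0, 1)]), (23, [(47, 0, 1)]), (29, [(59, 0, 1)])]) (by decide +kernel)

theorem M_29_31_L5_7_19_41 : Gen (2 ^ 46 * 3 ^ 20 * 5 ^ 9 * 7 ^ 6 * 11 ^ 2 * 13 ^ 3 * 17 * 19 * 23 * 29 * 31 * 41 * 47 * 59 * 71) 29 31 [5, 7, 19, 41] :=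
  gen_of_check (PS := [2, 3, 5, 7, 11, 13, 17, 19, 23, 29, 31, 41, 47, 59, 71]) (C := [(3, [(3, 0, 1), (13, 1, 0)]), (5, [(11, 1, 2), (71, 0, 1)]), (7, [(71, 0, 1)]), (11, [(11, 1, 8), (23, 0, 1)]), (13, [(13, 0, 1)]), (23, [(47, 0, 1)]), (29, [(59, 0, 1)])]) (by decide +kernel)

theorem M_29_31_L5_7_19_71 : Gen (2 ^ 46 * 3 ^ 20 * 5 ^ 9 * 7 ^ 6 * 11 ^ 2 * 13 ^ 3 * 17 * 19 * 23 * 29 * 31 * 41 * 47 * 59 * 71) 29 31 [5, 7, 19, 71] :=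
  gen_of_check (PS := [2, 3, 5, 7, 11, 13, 17, 19, 23, 29, 31, 41, 47, 59, 71]) (C := [(3, [(3, 0, 1), (13, 1, 0)]), (5, [(11, 1, 1), (41, 0, 1)]), (11, [(11, 1, 8), (23, 0, 1)]), (13, [(13, 0, 1)]), (23, [(47, 0, 1)]), (29, [(59, 0, 1)])]) (by decide +kernel)

theorem M_29_31_L5_11_13_19 : Gen (2 ^ 46 * 3 ^ 20 * 5 ^ 9 * 7 ^ 6 * 11 ^ 2 * 13 ^ 3 * 17 * 19 * 23 * 29 * 31 * 41 * 47 * 59 * 71) 29 31 [5, 11, 13, 19] :=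
  gen_of_check (PS := [2, 3, 5, 7, 11, 13, 17, 19, 23, 29, 31, 41, 47, 59, 71]) (C := [(3, [(3, 1, 0), (7, 0, 1)]), (5, [(41, 1, 2), (71, 0, 1)]), (7, [(7, 1, 4), (71, 0, 1)]), (11, [(23, 0, 1)]), (23, [(47, 0, 1)]), (29, [(59, 0, 1)])]) (by decide +kernel)

theorem M_29_31_L5_13_19_41 : Gen (2 ^ 46 * 3 ^ 20 * 5 ^ 9 * 7 ^ 6 * 11 ^ 2 * 13 ^ 3 * 17 * 19 * 23 * 29 * 31 * 41 * 47 * 59 * 71) 29 31 [5, 13, 19, 41] :=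
  gen_of_check (PS := [2, 3, 5, 7, 11, 13, 17, 19, 23, 29, 31, 41, 47, 59, 71]) (C := [(3, [(3, 1, 0), (7, 0, 1)]), (5, [(11, 1, 2), (71, 0, 1)]), (7, [(7, 1, 4), (71, 0, 1)]), (11, [(11, 1, 8), (23, 0, 1)]), (23, [(47, 0, 1)]), (29, [(59, 0, 1)])]) (by decide +kernel)

theorem M_29_31_L5_13_19_71 : Gen (2 ^ 46 * 3 ^ 20 * 5 ^ 9 * 7 ^ 6 * 11 ^ 2 * 13 ^ 3 * 17 * 19 * 23 * 29 * 31 * 41 * 47 * 59 * 71) 29 31 [5, 13, 19, 71] :=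
  gen_of_check (PS := [2, 3, 5, 7, 11, 13, 17, 19, 23, 29, 31, 41, 47, 59, 71]) (C := [(3, [(3, 1, 0), (7, 0, 1)]), (5, [(11, 1, 1), (41, 0, 1)]), (7, [(7, 1, 0)]), (11, [(11, 1, 8), (23, 0, 1)]), (23, [(47, 0, 1)]), (29, [(59, 0, 1)])]) (by decide +kernel)

theorem M_29_31_L7_11_13_41 : Gen (2 ^ 46 * 3 ^ 20 * 5 ^ 9 * 7 ^ 6 * 11 ^ 2 * 13 ^ 3 * 17 * 19 * 23 * 29 * 31 * 41 * 47 * 59 * 71) 29 31 [7, 11, 13, 41] :=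
  gen_of_check (PS := [2, 3, 5, 7, 11, 13, 17, 19, 23, 29, 31, 41, 47, 59, 71]) (C := [(3, [(3, 0, 1), (19, 1, 0)]), (5, [(5, 1, 2), (71, 0, 1)]), (7, [(71, 0, 1)]), (11, [(23, 0, 1)]), (23, [(47, 0, 1)]), (29, [(59, 0, 1)])]) (by decide +kernel)

theorem M_29_31_L7_11_19_41 : Gen (2 ^ 46 * 3 ^ 20 * 5 ^ 9 * 7 ^ 6 * 11 ^ 2 * 13 ^ 3 * 17 * 19 * 23 * 29 * 31 * 41 * 47 * 59 * 71) 29 31 [7, 11, 19, 41] :=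
  gen_of_check (PS := [2, 3, 5, 7, 11, 13, 17, 19, 23, 29, 31, 41, 47, 59, 71]) (C := [(3, [(3, 0, 1), (13, 1, 0)]), (5, [(5, 1, 2), (71, 0, 1)]), (7, [(71, 0, 1)]), (11, [(23, 0, 1)]), (13, [(13, 0, 1)]), (23, [(47, 0, 1)]), (29, [(59, 0, 1)])]) (by decide +kernel)

theorem M_29_31_L7_13_41_71 : Gen (2 ^ 46 * 3 ^ 20 * 5 ^ 9 * 7 ^ 6 * 11 ^ 2 * 13 ^ 3 * 17 * 19 * 23 * 29 * 31 * 41 * 47 * 59 * 71) 29 31 [7, 13, 41, 71] :=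
  gen_of_check (PS := [2, 3, 5, 7, 11, 13, 17, 19, 23, 29, 31, 41, 47, 59, 71]) (C := [(3, [(3, 0, 1), (19, 1, 0)]), (5, [(5, 1, 3), (11, 0, 1)]), (11, [(11, 1, 8), (23, 0, 1)]), (23, [(47, 0, 1)]), (29, [(59, 0, 1)])]) (by decide +kernel)

theorem M_29_31_L7_19_41_71 : Gen (2 ^ 46 * 3 ^ 20 * 5 ^ 9 * 7 ^ 6 * 11 ^ 2 * 13 ^ 3 * 17 * 19 * 23 * 29 * 31 * 41 * 47 * 59 * 71) 29 31 [7, 19, 41, 71] :=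
  gen_of_check (PS := [2, 3, 5, 7, 11, 13, 17, 19, 23, 29, 31, 41, 47, 59, 71]) (C := [(3, [(3, 0, 1), (13, 1, 0)]), (5, [(5, 1, 3), (11, 0, 1)]), (11, [(11, 1, 8), (23, 0, 1)]), (13, [(13, 0, 1)]), (23, [(47, 0, 1)]), (29, [(59, 0, 1)])]) (by decide +kernel)

theorem M_29_31_L11_13_19_41 : Gen (2 ^ 46 * 3 ^ 20 * 5 ^ 9 * 7 ^ 6 * 11 ^ 2 * 13 ^ 3 * 17 * 19 * 23 * 29 * 31 * 41 * 47 * 59 * 71) 29 31 [11, 13, 19, 41] :=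
  gen_of_check (PS := [2, 3, 5, 7, 11, 13, 17, 19, 23, 29, 31, 41, 47, 59, 71]) (C := [(3, [(3, 1, 0), (7, 0, 1)]), (5, [(5, 1, 2), (71, 0, 1)]), (7, [(7, 1, 4), (71, 0, 1)]), (11, [(23, 0, 1)]), (23, [(47, 0, 1)]), (29, [(59, 0, 1)])]) (by decide +kernel)

theorem M_29_31_L13_19_41_71 : Gen (2 ^ 46 * 3 ^ 20 * 5 ^ 9 * 7 ^ 6 * 11 ^ 2 * 13 ^ 3 * 17 * 19 * 23 * 29 * 31 * 41 * 47 * 59 * 71) 29 31 [13, 19, 41, 71] :=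
  gen_of_check (PS := [2, 3, 5, 7, 11, 13, 17, 19, 23, 29, 31, 41, 47, 59, 71]) (C := [(3, [(3, 1, 0), (7, 0, 1)]), (5, [(5, 1, 3), (11, 0, 1)]), (7, [(7, 1, 0)]), (11, [(11, 1, 8), (23, 0, 1)]), (23, [(47, 0, 1)]), (29, [(59, 0, 1)])]) (by decide +kernel)

theorem M_29_41_L3_5_7_31 : Gen (2 ^ 46 * 3 ^ 20 * 5 ^ 9 * 7 ^ 6 * 11 ^ 2 * 13 ^ 3 * 17 * 19 * 23 * 29 * 31 * 41 * 47 * 59 * 71) 29 41 [3, 5, 7, 31] :=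
  gen_of_check (PS := [2, 3, 5, 7, 11, 13, 17, 19, 23, 29, 31, 41, 47, 59, 71]) (C := [(3, [(13, 1, 1), (19, 0, 1)]), (5, [(11, 0, 1), (71, 1, 0)]), (7, [(71, 0, 1)]), (11, [(11, 1, 4), (23, 0, 1)]), (13, [(13, 0, 1)]), (23, [(47, 0, 1)]), (29, [(59, 0, 1)])]) (by decide +kernel)

theorem M_29_41_L3_7_11_31 : Gen (2 ^ 46 * 3 ^ 20 * 5 ^ 9 * 7 ^ 6 * 11 ^ 2 * 13 ^ 3 * 17 * 19 * 23 * 29 * 31 * 41 * 47 * 59 * 71) 29 41 [3, 7, 11, 31] :=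
  gen_of_check (PS := [2, 3, 5, 7, 11, 13, 17, 19, 23, 29, 31, 41, 47, 59, 71]) (C := [(3, [(13, 1, 1), (19, 0, 1)]), (5, [(5, 0, 1), (71, 1, 0)]), (7, [(71, 0, 1)]), (11, [(23, 0, 1)]), (13, [(13, 0, 1)]), (23, [(47, 0, 1)]), (29, [(59, 0, 1)])]) (by decide +kernel)

theorem M_29_41_L3_7_31_71 : Gen (2 ^ 46 * 3 ^ 20 * 5 ^ 9 * 7 ^ 6 * 11 ^ 2 * 13 ^ 3 * 17 * 19 * 23 * 29 * 31 * 41 * 47 * 59 * 71) 29 41 [3, 7, 31, 71] :=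
  gen_of_check (PS := [2, 3, 5, 7, 11, 13, 17, 19, 23, 29, 31, 41, 47, 59, 71]) (C := [(3, [(13, 1, 1), (19, 0, 1)]), (5, [(5, 1, 1), (11, 0, 1)]), (11, [(11, 1, 4), (23, 0, 1)]), (13, [(13, 0, 1)]), (23, [(47, 0, 1)]), (29, [(59, 0, 1)])]) (by decide +kernel)

theorem M_29_41_L5_7_19_31 : Gen (2 ^ 46 * 3 ^ 20 * 5 ^ 9 * 7 ^ 6 * 11 ^ 2 * 13 ^ 3 * 17 * 19 * 23 * 29 * 31 * 41 * 47 * 59 * 71) 29 41 [5, 7, 19, 31] :=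
  gen_of_check (PS := [2, 3, 5, 7, 11, 13, 17, 19, 23, 29, 31, 41, 47, 59, 71]) (C := [(3, [(3, 1, 2), (13, 0, 1)]), (5, [(11, 0, 1), (71, 1, 0)]), (7, [(71, 0, 1)]), (11, [(11, 1, 4), (23, 0, 1)]), (13, [(13, 0, 1)]), (23, [(47, 0, 1)]), (29, [(59, 0, 1)])]) (by decide +kernel)

theorem M_29_41_L7_11_19_31 : Gen (2 ^ 46 * 3 ^ 20 * 5 ^ 9 * 7 ^ 6 * 11 ^ 2 * 13 ^ 3 * 17 * 19 * 23 * 29 * 31 * 41 * 47 * 59 * 71) 29 41 [7, 11, 19, 31] :=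
  gen_of_check (PS := [2, 3, 5, 7, 11, 13, 17, 19, 23, 29, 31, 41, 47, 59, 71]) (C := [(3, [(3, 1, 2), (13, 0, 1)]), (5, [(5, 0, 1), (71, 1, 0)]), (7, [(71, 0, 1)]), (11, [(23, 0, 1)]), (13, [(13, 0, 1)]), (23, [(47, 0, 1)]), (29, [(59, 0, 1)])]) (by decide +kernel)

theorem M_29_41_L7_19_31_71 : Gen (2 ^ 46 * 3 ^ 20 * 5 ^ 9 * 7 ^ 6 * 11 ^ 2 * 13 ^ 3 * 17 * 19 * 23 * 29 * 31 * 41 * 47 * 59 * 71) 29 41 [7, 19, 31, 71] :=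
  gen_of_check (PS := [2, 3, 5, 7, 11, 13, 17, 19, 23, 29, 31, 41, 47, 59, 71]) (C := [(3, [(3, 1, 2), (13, 0, 1)]), (5, [(5, 1, 1), (11, 0, 1)]), (11, [(11, 1, 4), (23, 0, 1)]), (13, [(13, 0, 1)]), (23, [(47, 0, 1)]), (29, [(59, 0, 1)])]) (by decide +kernel)

theorem M_29_71_L5_7_13_31 : Gen (2 ^ 46 * 3 ^ 20 * 5 ^ 9 * 7 ^ 6 * 11 ^ 2 * 13 ^ 3 * 17 * 19 * 23 * 29 * 31 * 41 * 47 * 59 * 71) 29 71 [5, 7, 13, 31] :=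
  gen_of_check (PS := [2, 3, 5, 7, 11, 13, 17, 19, 23, 29, 31, 41, 47, 59, 71]) (C := [(3, [(3, 1, 1), (19, 0, 1)]), (5, [(11, 1, 1), (41, 0, 1)]), (11, [(11, 1, 2), (23, 0, 1)]), (23, [(47, 0, 1)]), (29, [(59, 0, 1)])]) (by decide +kernel)

theorem M_29_71_L5_7_19_31 : Gen (2 ^ 46 * 3 ^ 20 * 5 ^ 9 * 7 ^ 6 * 11 ^ 2 * 13 ^ 3 * 17 * 19 * 23 * 29 * 31 * 41 * 47 * 59 * 71) 29 71 [5, 7, 19, 31] :=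
  gen_of_check (PS := [2, 3, 5, 7, 11, 13, 17, 19, 23, 29, 31, 41, 47, 59, 71]) (C := [(3, [(3, 1, 1), (13, 0, 1)]), (5, [(11, 1, 1), (41, 0, 1)]), (11, [(11, 1, 2), (23, 0, 1)]), (13, [(13, 0, 1)]), (23, [(47, 0, 1)]), (29, [(59, 0, 1)])]) (by decide +kernel)

theorem M_29_71_L7_11_13_31 : Gen (2 ^ 46 * 3 ^ 20 * 5 ^ 9 * 7 ^ 6 * 11 ^ 2 * 13 ^ 3 * 17 * 19 * 23 * 29 * 31 * 41 * 47 * 59 * 71) 29 71 [7, 11, 13, 31] :=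
  gen_of_check (PS := [2, 3, 5, 7, 11, 13, 17, 19, 23, 29, 31, 41, 47, 59, 71]) (C := [(3, [(3, 1, 1), (19, 0, 1)]), (5, [(5, 1, 1), (41, 0, 1)]), (11, [(23, 0, 1)]), (23, [(47, 0, 1)]), (29, [(59, 0, 1)])]) (by decide +kernel)

theorem M_29_71_L7_11_19_31 : Gen (2 ^ 46 * 3 ^ 20 * 5 ^ 9 * 7 ^ 6 * 11 ^ 2 * 13 ^ 3 * 17 * 19 * 23 * 29 * 31 * 41 * 47 * 59 * 71) 29 71 [7, 11, 19, 31] :=
  gen_of_check (PS := [2, 3, 5, 7, 11, 13, 17, 19, 23, 29, 31, 41, 47, 59, 71]) (C := [(3, [(3, 1, 1), (13, 0, 1)]), (5, [(5, 1, 1), (41, 0, 1)]), (11, [(23, 0, 1)]), (13, [(13, 0, 1)]), (23, [(47, 0, 1)]), (29, [(59, 0, 1)])]) (by decide +kernel)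

theorem M_29_71_L7_13_31_41 : Gen (2 ^ 46 * 3 ^ 20 * 5 ^ 9 * 7 ^ 6 * 11 ^ 2 * 13 ^ 3 * 17 * 19 * 23 * 29 * 31 * 41 * 47 * 59 * 71) 29 71 [7, 13, 31, 41] :=
  gen_of_check (PS := [2, 3, 5, 7, 11, 13, 17, 19, 23, 29, 31, 41, 47, 59, 71]) (C := [(3, [(3, 1, 1), (19, 0, 1)]), (5, [(5, 1, 2), (11, 0, 1)]), (11, [(11, 1, 2), (23, 0, 1)]), (23, [(47, 0, 1)]), (29, [(59, 0, 1)])]) (by decide +kernel)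

theorem M_29_71_L7_19_31_41 : Gen (2 ^ 46 * 3 ^ 20 * 5 ^ 9 * 7 ^ 6 * 11 ^ 2 * 13 ^ 3 * 17 * 19 * 23 * 29 * 31 * 41 * 47 * 59 * 71) 29 71 [7, 19, 31, 41] :=
  gen_of_check (PS := [2, 3, 5, 7, 11, 13, 17, 19, 23, 29, 31, 41, 47, 59, 71]) (C := [(3, [(3, 1, 1), (13, 0, 1)]), (5, [(5, 1, 2), (11, 0, 1)]), (11, [(11, 1, 2), (23, 0, 1)]), (13, [(13, 0, 1)]), (23, [(47, 0, 1)]), (29, [(59, 0, 1)])]) (by decide +kernel)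

theorem M_31_41_L5_7_13 : Gen (2 ^ 46 * 3 ^ 20 * 5 ^ 9 * 7 ^ 6 * 11 ^ 2 * 13 ^ 3 * 17 * 19 * 23 * 29 * 31 * 41 * 47 * 59 * 71) 31 41 [5, 7, 13] :=
  gen_of_check (PS := [2, 3, 5, 7, 11, 13, 17, 19, 23, 29, 31, 41, 47, 59, 71]) (C := [(3, [(3, 1, 0), (19, 0, 1)]), (5, [(11, 0, 1), (71, 1, 0)]), (7, [(29, 1, 6), (71, 0, 1)]), (11, [(11, 1, 5), (23, 0, 1)]), (23, [(47, 0, 1)]), (29, [(59, 0, 1)])]) (by decide +kernel)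

theorem M_31_41_L5_7_19 : Gen (2 ^ 46 * 3 ^ 20 * 5 ^ 9 * 7 ^ 6 * 11 ^ 2 * 13 ^ 3 * 17 * 19 * 23 * 29 * 31 * 41 * 47 * 59 * 71) 31 41 [5, 7, 19] :=
  gen_of_check (PS := [2, 3, 5, 7, 11, 13, 17, 19, 23, 29, 31, 41, 47, 59, 71]) (C := [(3, [(3, 1, 0), (13, 0, 1)]), (5, [(11, 0, 1), (71, 1, 0)]), (7, [(29, 1, 6), (71, 0, 1)]), (11, [(11, 1, 5), (23, 0, 1)]), (13, [(13, 0, 1)]), (23, [(47, 0, 1)]), (29, [(59, 0, 1)])]) (by decide +kernel)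

theorem M_31_41_L7_11_13 : Gen (2 ^ 46 * 3 ^ 20 * 5 ^ 9 * 7 ^ 6 * 11 ^ 2 * 13 ^ 3 * 17 * 19 * 23 * 29 * 31 * 41 * 47 * 59 * 71) 31 41 [7, 11, 13] :=
  gen_of_check (PS := [2, 3, 5, 7, 11, 13, 17, 19, 23, 29, 31, 41, 47, 59, 71]) (C := [(3, [(3, 1, 0), (19, 0, 1)]), (5, [(5, 0, 1), (71, 1, 0)]), (7, [(29, 1, 6), (71, 0, 1)]), (11, [(23, 0, 1)]), (23, [(47, 0, 1)]), (29, [(59, 0, 1)])]) (by decide +kernel)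

theorem M_31_41_L7_11_19 : Gen (2 ^ 46 * 3 ^ 20 * 5 ^ 9 * 7 ^ 6 * 11 ^ 2 * 13 ^ 3 * 17 * 19 * 23 * 29 * 31 * 41 * 47 * 59 * 71) 31 41 [7, 11, 19] :=
  gen_of_check (PS := [2, 3, 5, 7, 11, 13, 17, 19, 23, 29, 31, 41, 47, 59, 71]) (C := [(3, [(3, 1, 0), (13, 0, 1)]), (5, [(5, 0, 1), (71, 1, 0)]), (7, [(29, 1, 6), (71, 0, 1)]), (11, [(23, 0, 1)]), (13, [(13, 0, 1)]), (23, [(47, 0, 1)]), (29, [(59, 0, 1)])]) (by decide +kernel)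

theorem M_31_41_L3_5_13_29 : Gen (2 ^ 46 * 3 ^ 20 * 5 ^ 9 * 7 ^ 6 * 11 ^ 2 * 13 ^ 3 * 17 * 19 * 23 * 29 * 31 * 41 * 47 * 59 * 71) 31 41 [3, 5, 13, 29] :=
  gen_of_check (PS := [2, 3, 5, 7, 11, 13, 17, 19, 23, 29, 31, 41, 47, 59, 71]) (C := [(3, [(7, 1, 0), (19, 0, 1)]), (5, [(11, 0, 1), (71, 1, 0)]), (7, [(7, 1, 6), (71, 0, 1)]), (11, [(11, 1, 5), (23, 0, 1)]), (23, [(47, 0, 1)]), (29, [(59, 0, 1)])]) (by decide +kernel)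

theorem M_31_41_L3_5_13_71 : Gen (2 ^ 46 * 3 ^ 20 * 5 ^ 9 * 7 ^ 6 * 11 ^ 2 * 13 ^ 3 * 17 * 19 * 23 * 29 * 31 * 41 * 47 * 59 * 71) 31 41 [3, 5, 13, 71] :=
  gen_of_check (PS := [2, 3, 5, 7, 11, 13, 17, 19, 23, 29, 31, 41, 47, 59, 71]) (C := [(3, [(7, 1, 0), (19, 0, 1)]), (5, [(11, 0, 1)]), (7, [(7, 0, 1), (29, 1, 0)]), (11, [(11, 1, 5), (23, 0, 1)]), (23, [(47, 0, 1)]), (29, [(59, 0, 1)])]) (by decide +kernel)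

theorem M_31_41_L3_5_19_29 : Gen (2 ^ 46 * 3 ^ 20 * 5 ^ 9 * 7 ^ 6 * 11 ^ 2 * 13 ^ 3 * 17 * 19 * 23 * 29 * 31 * 41 * 47 * 59 * 71) 31 41 [3, 5, 19, 29] :=
  gen_of_check (PS := [2, 3, 5, 7, 11, 13, 17, 19, 23, 29, 31, 41, 47, 59, 71]) (C := [(3, [(7, 1, 0), (13, 0, 1)]), (5, [(11, 0, 1), (71, 1, 0)]), (7, [(7, 1, 6), (71, 0, 1)]), (11, [(11, 1, 5), (23, 0, 1)]), (13, [(13, 0, 1)]), (23, [(47, 0, 1)]), (29, [(59, 0, 1)])]) (by decide +kernel)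

theorem M_31_41_L3_5_19_71 : Gen (2 ^ 46 * 3 ^ 20 * 5 ^ 9 * 7 ^ 6 * 11 ^ 2 * 13 ^ 3 * 17 * 19 * 23 * 29 * 31 * 41 * 47 * 59 * 71) 31 41 [3, 5, 19, 71] :=
  gen_of_check (PS := [2, 3, 5, 7, 11, 13, 17, 19, 23, 29, 31, 41, 47, 59, 71]) (C := [(3, [(7, 1, 0), (13, 0, 1)]), (5, [(11, 0, 1)]), (7, [(7, 0, 1), (29, 1, 0)]), (11, [(11, 1, 5), (23, 0, 1)]), (13, [(13, 0, 1)]), (23, [(47, 0, 1)]), (29, [(59, 0, 1)])]) (by decide +kernel)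

theorem M_31_41_L3_11_13_29 : Gen (2 ^ 46 * 3 ^ 20 * 5 ^ 9 * 7 ^ 6 * 11 ^ 2 * 13 ^ 3 * 17 * 19 * 23 * 29 * 31 * 41 * 47 * 59 * 71) 31 41 [3, 11, 13, 29] :=
  gen_of_check (PS := [2, 3, 5, 7, 11, 13, 17, 19, 23, 29, 31, 41, 47, 59, 71]) (C := [(3, [(7, 1, 0), (19, 0, 1)]), (5, [(5, 0, 1), (71, 1, 0)]), (7, [(7, 1, 6), (71, 0, 1)]), (11, [(23, 0, 1)]), (23, [(47, 0, 1)]), (29, [(59, 0, 1)])]) (by decide +kernel)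

theorem M_31_41_L3_11_13_71 : Gen (2 ^ 46 * 3 ^ 20 * 5 ^ 9 * 7 ^ 6 * 11 ^ 2 * 13 ^ 3 * 17 * 19 * 23 * 29 * 31 * 41 * 47 * 59 * 71) 31 41 [3, 11, 13, 71] :=
  gen_of_check (PS := [2, 3, 5, 7, 11, 13, 17, 19, 23, 29, 31, 41, 47, 59, 71]) (C := [(3, [(7, 1, 0), (19, 0, 1)]), (5, [(5, 0, 1)]), (7, [(7, 0, 1), (29, 1, 0)]), (11, [(23, 0, 1)]), (23, [(47, 0, 1)]), (29, [(59, 0, 1)])]) (by decide +kernel)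

theorem M_31_41_L3_11_19_29 : Gen (2 ^ 46 * 3 ^ 20 * 5 ^ 9 * 7 ^ 6 * 11 ^ 2 * 13 ^ 3 * 17 * 19 * 23 * 29 * 31 * 41 * 47 * 59 * 71) 31 41 [3, 11, 19, 29] :=
  gen_of_check (PS := [2, 3, 5, 7, 11, 13, 17, 19, 23, 29, 31, 41, 47, 59, 71]) (C := [(3, [(7, 1, 0), (13, 0, 1)]), (5, [(5, 0, 1), (71, 1, 0)]), (7, [(7, 1, 6), (71, 0, 1)]), (11, [(23, 0, 1)]), (13, [(13, 0, 1)]), (23, [(47, 0, 1)]), (29, [(59, 0, 1)])]) (by decide +kernel)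

theorem M_31_41_L3_11_19_71 : Gen (2 ^ 46 * 3 ^ 20 * 5 ^ 9 * 7 ^ 6 * 11 ^ 2 * 13 ^ 3 * 17 * 19 * 23 * 29 * 31 * 41 * 47 * 59 * 71) 31 41 [3, 11, 19, 71] :=
  gen_of_check (PS := [2, 3, 5, 7, 11, 13, 17, 19, 23, 29, 31, 41, 47, 59, 71]) (C := [(3, [(7, 1, 0), (13, 0, 1)]), (5, [(5, 0, 1)]), (7, [(7, 0, 1), (29, 1, 0)]), (11, [(23, 0, 1)]), (13, [(13, 0, 1)]), (23, [(47, 0, 1)]), (29, [(59, 0, 1)])]) (by decide +kernel)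

theorem M_31_41_L5_13_19_29 : Gen (2 ^ 46 * 3 ^ 20 * 5 ^ 9 * 7 ^ 6 * 11 ^ 2 * 13 ^ 3 * 17 * 19 * 23 * 29 * 31 * 41 * 47 * 59 * 71) 31 41 [5, 13, 19, 29] :=
  gen_of_check (PS := [2, 3, 5, 7, 11, 13, 17, 19, 23, 29, 31, 41, 47, 59, 71]) (C := [(3, [(3, 0, 1), (7, 1, 0)]), (5, [(11, 0, 1), (71, 1, 0)]), (7, [(7, 1, 6), (71, 0, 1)]), (11, [(11, 1, 5), (23, 0, 1)]), (23, [(47, 0, 1)]), (29, [(59, 0, 1)])]) (by decide +kernel)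

theorem M_31_41_L5_13_19_71 : Gen (2 ^ 46 * 3 ^ 20 * 5 ^ 9 * 7 ^ 6 * 11 ^ 2 * 13 ^ 3 * 17 * 19 * 23 * 29 * 31 * 41 * 47 * 59 * 71) 31 41 [5, 13, 19, 71] :=
  gen_of_check (PS := [2, 3, 5, 7, 11, 13, 17, 19, 23, 29, 31, 41, 47, 59, 71]) (C := [(3, [(3, 0, 1), (7, 1, 0)]), (5, [(11, 0, 1)]), (7, [(7, 0, 1), (29, 1, 0)]), (11, [(11, 1, 5), (23, 0, 1)]), (23, [(47, 0, 1)]), (29, [(59, 0, 1)])]) (by decide +kernel)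

theorem M_31_41_L11_13_19_29 : Gen (2 ^ 46 * 3 ^ 20 * 5 ^ 9 * 7 ^ 6 * 11 ^ 2 * 13 ^ 3 * 17 * 19 * 23 * 29 * 31 * 41 * 47 * 59 * 71) 31 41 [11, 13, 19, 29] :=
  gen_of_check (PS := [2, 3, 5, 7, 11, 13, 17, 19, 23, 29, 31, 41, 47, 59, 71]) (C := [(3, [(3, 0, 1), (7, 1, 0)]), (5, [(5, 0, 1), (71, 1, 0)]), (7, [(7, 1, 6), (71, 0, 1)]), (11, [(23, 0, 1)]), (23, [(47, 0, 1)]), (29, [(59, 0, 1)])]) (by decide +kernel)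

theorem M_31_41_L11_13_19_71 : Gen (2 ^ 46 * 3 ^ 20 * 5 ^ 9 * 7 ^ 6 * 11 ^ 2 * 13 ^ 3 * 17 * 19 * 23 * 29 * 31 * 41 * 47 * 59 * 71) 31 41 [11, 13, 19, 71] :=
  gen_of_check (PS := [2, 3, 5, 7, 11, 13, 17, 19, 23, 29, 31, 41, 47, 59, 71]) (C := [(3, [(3, 0, 1), (7, 1, 0)]), (5, [(5, 0, 1)]), (7, [(7, 0, 1), (29, 1, 0)]), (11, [(23, 0, 1)]), (23, [(47, 0, 1)]), (29, [(59, 0, 1)])]) (by decide +kernel)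

theorem M_31_47_L3_5_13_71 : Gen (2 ^ 46 * 3 ^ 20 * 5 ^ 9 * 7 ^ 6 * 11 ^ 2 * 13 ^ 3 * 17 * 19 * 23 * 29 * 31 * 41 * 47 * 59 * 71) 31 47 [3, 5, 13, 71] :=
  gen_of_check (PS := [2, 3, 5, 7, 11, 13, 17, 19, 23, 29, 31, 41, 47, 59, 71]) (C := [(3, [(7, 1, 0), (19, 0, 1)]), (5, [(11, 1, 2), (41, 0, 1)]), (7, [(7, 1, 5), (29, 0, 1)]), (11, [(11, 0, 1), (23, 1, 0)]), (29, [(59, 0, 1)])]) (by decide +kernel)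

theorem M_31_47_L3_11_13_71 : Gen (2 ^ 46 * 3 ^ 20 * 5 ^ 9 * 7 ^ 6 * 11 ^ 2 * 13 ^ 3 * 17 * 19 * 23 * 29 * 31 * 41 * 47 * 59 * 71) 31 47 [3, 11, 13, 71] :=
  gen_of_check (PS := [2, 3, 5, 7, 11, 13, 17, 19, 23, 29, 31, 41, 47, 59, 71]) (C := [(3, [(7, 1, 0), (19, 0, 1)]), (5, [(5, 1, 2), (41, 0, 1)]), (7, [(7, 1, 5), (29, 0, 1)]), (11, [(23, 1, 0)]), (29, [(59, 0, 1)])]) (by decide +kernel)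

theorem M_31_47_L3_13_41_71 : Gen (2 ^ 46 * 3 ^ 20 * 5 ^ 9 * 7 ^ 6 * 11 ^ 2 * 13 ^ 3 * 17 * 19 * 23 * 29 * 31 * 41 * 47 * 59 * 71) 31 47 [3, 13, 41, 71] :=
  gen_of_check (PS := [2, 3, 5, 7, 11, 13, 17, 19, 23, 29, 31, 41, 47, 59, 71]) (C := [(3, [(7, 1, 0), (19, 0, 1)]), (5, [(5, 1, 3), (11, 0, 1)]), (7, [(7, 1, 5), (29, 0, 1)]), (11, [(11, 0, 1), (23, 1, 0)]), (29, [(59, 0, 1)])]) (by decide +kernel)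

theorem M_31_47_L5_7_13_71 : Gen (2 ^ 46 * 3 ^ 20 * 5 ^ 9 * 7 ^ 6 * 11 ^ 2 * 13 ^ 3 * 17 * 19 * 23 * 29 * 31 * 41 * 47 * 59 * 71) 31 47 [5, 7, 13, 71] :=
  gen_of_check (PS := [2, 3, 5, 7, 11, 13, 17, 19, 23, 29, 31, 41, 47, 59, 71]) (C := [(3, [(3, 1, 0), (19, 0, 1)]), (5, [(11, 1, 2), (41, 0, 1)]), (7, [(29, 0, 1)]), (11, [(11, 0, 1), (23, 1, 0)]), (29, [(59, 0, 1)])]) (by decide +kernel)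

theorem M_31_47_L7_11_13_71 : Gen (2 ^ 46 * 3 ^ 20 * 5 ^ 9 * 7 ^ 6 * 11 ^ 2 * 13 ^ 3 * 17 * 19 * 23 * 29 * 31 * 41 * 47 * 59 * 71) 31 47 [7, 11, 13, 71] :=
  gen_of_check (PS := [2, 3, 5, 7, 11, 13, 17, 19, 23, 29, 31, 41, 47, 59, 71]) (C := [(3, [(3, 1, 0), (19, 0, 1)]), (5, [(5, 1, 2), (41, 0, 1)]), (7, [(29, 0, 1)]), (11, [(23, 1, 0)]), (29, [(59, 0, 1)])]) (by decide +kernel)

theorem M_31_47_L7_13_41_71 : Gen (2 ^ 46 * 3 ^ 20 * 5 ^ 9 * 7 ^ 6 * 11 ^ 2 * 13 ^ 3 * 17 * 19 * 23 * 29 * 31 * 41 * 47 * 59 * 71) 31 47 [7, 13, 41, 71] :=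
  gen_of_check (PS := [2, 3, 5, 7, 11, 13, 17, 19, 23, 29, 31, 41, 47, 59, 71]) (C := [(3, [(3, 1, 0), (19, 0, 1)]), (5, [(5, 1, 3), (11, 0, 1)]), (7, [(29, 0, 1)]), (11, [(11, 0, 1), (23, 1, 0)]), (29, [(59, 0, 1)])]) (by decide +kernel)

theorem M_31_59_L3_11_13_71 : Gen (2 ^ 46 * 3 ^ 20 * 5 ^ 9 * 7 ^ 6 * 11 ^ 2 * 13 ^ 3 * 17 * 19 * 23 * 29 * 31 * 41 * 47 * 59 * 71) 31 59 [3, 11, 13, 71] :=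
  gen_of_check (PS := [2, 3, 5, 7, 11, 13, 17, 19, 23, 29, 31, 41, 47, 59, 71]) (C := [(3, [(7, 1, 0), (19, 0, 1)]), (5, [(5, 1, 2), (41, 0, 1)]), (7, [(7, 0, 1), (29, 1, 0)]), (11, [(23, 0, 1)]), (23, [(47, 0, 1)])]) (by decide +kernel)

theorem M_31_59_L3_11_19_71 : Gen (2 ^ 46 * 3 ^ 20 * 5 ^ 9 * 7 ^ 6 * 11 ^ 2 * 13 ^ 3 * 17 * 19 * 23 * 29 * 31 * 41 * 47 * 59 * 71) 31 59 [3, 11, 19, 71] :=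
  gen_of_check (PS := [2, 3, 5, 7, 11, 13, 17, 19, 23, 29, 31, 41, 47, 59, 71]) (C := [(3, [(7, 1, 0), (13, 0, 1)]), (5, [(5, 1, 2), (41, 0, 1)]), (7, [(7, 0, 1), (29, 1, 0)]), (11, [(23, 0, 1)]), (13, [(13, 0, 1)]), (23, [(47, 0, 1)])]) (by decide +kernel)

theorem M_31_59_L5_7_11_13 : Gen (2 ^ 46 * 3 ^ 20 * 5 ^ 9 * 7 ^ 6 * 11 ^ 2 * 13 ^ 3 * 17 * 19 * 23 * 29 * 31 * 41 * 47 * 59 * 71) 31 59 [5, 7, 11, 13] :=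
  gen_of_check (PS := [2, 3, 5, 7, 11, 13, 17, 19, 23, 29, 31, 41, 47, 59, 71]) (C := [(3, [(3, 1, 0), (19, 0, 1)]), (5, [(41, 1, 3), (71, 0, 1)]), (7, [(29, 1, 1), (71, 0, 1)]), (11, [(23, 0, 1)]), (23, [(47, 0, 1)])]) (by decide +kernel)

theorem M_31_59_L5_7_11_19 : Gen (2 ^ 46 * 3 ^ 20 * 5 ^ 9 * 7 ^ 6 * 11 ^ 2 * 13 ^ 3 * 17 * 19 * 23 * 29 * 31 * 41 * 47 * 59 * 71) 31 59 [5, 7, 11, 19] :=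
  gen_of_check (PS := [2, 3, 5, 7, 11, 13, 17, 19, 23, 29, 31, 41, 47, 59, 71]) (C := [(3, [(3, 1, 0), (13, 0, 1)]), (5, [(41, 1, 3), (71, 0, 1)]), (7, [(29, 1, 1), (71, 0, 1)]), (11, [(23, 0, 1)]), (13, [(13, 0, 1)]), (23, [(47, 0, 1)])]) (by decide +kernel)

theorem M_31_59_L7_11_13_71 : Gen (2 ^ 46 * 3 ^ 20 * 5 ^ 9 * 7 ^ 6 * 11 ^ 2 * 13 ^ 3 * 17 * 19 * 23 * 29 * 31 * 41 * 47 * 59 * 71) 31 59 [7, 11, 13, 71] :=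
  gen_of_check (PS := [2, 3, 5, 7, 11, 13, 17, 19, 23, 29, 31, 41, 47, 59, 71]) (C := [(3, [(3, 1, 0), (19, 0, 1)]), (5, [(5, 1, 2), (41, 0, 1)]), (7, [(29, 1, 0)]), (11, [(23, 0, 1)]), (23, [(47, 0, 1)])]) (by decide +kernel)

theorem M_31_59_L7_11_19_71 : Gen (2 ^ 46 * 3 ^ 20 * 5 ^ 9 * 7 ^ 6 * 11 ^ 2 * 13 ^ 3 * 17 * 19 * 23 * 29 * 31 * 41 * 47 * 59 * 71) 31 59 [7, 11, 19, 71] :=
  gen_of_check (PS := [2, 3, 5, 7, 11, 13, 17, 19, 23, 29, 31, 41, 47, 59, 71]) (C := [(3, [(3, 1, 0), (13, 0, 1)]), (5, [(5, 1, 2), (41, 0, 1)]), (7, [(29, 1, 0)]), (11, [(23, 0, 1)]), (13, [(13, 0, 1)]), (23, [(47, 0, 1)])]) (by decide +kernel)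

theorem M_31_71_L3_5_13 : Gen (2 ^ 46 * 3 ^ 20 * 5 ^ 9 * 7 ^ 6 * 11 ^ 2 * 13 ^ 3 * 17 * 19 * 23 * 29 * 31 * 41 * 47 * 59 * 71) 31 71 [3, 5, 13] :=
  gen_of_check (PS := [2, 3, 5, 7, 11, 13, 17, 19, 23, 29, 31, 41, 47, 59, 71]) (C := [(3, [(7, 1, 0), (19, 0, 1)]), (5, [(11, 1, 4), (41, 0, 1)]), (7, [(7, 1, 5), (29, 0, 1)]), (11, [(11, 1, 8), (23, 0, 1)]), (23, [(47, 0, 1)]), (29, [(59, 0, 1)])]) (by decide +kernel)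

theorem M_31_71_L3_5_19 : Gen (2 ^ 46 * 3 ^ 20 * 5 ^ 9 * 7 ^ 6 * 11 ^ 2 * 13 ^ 3 * 17 * 19 * 23 * 29 * 31 * 41 * 47 * 59 * 71) 31 71 [3, 5, 19] :=
  gen_of_check (PS := [2, 3, 5, 7, 11, 13, 17, 19, 23, 29, 31, 41, 47, 59, 71]) (C := [(3, [(7, 1, 0), (13, 0, 1)]), (5, [(11, 1, 4), (41, 0, 1)]), (7, [(7, 1, 5), (29, 0, 1)]), (11, [(11, 1, 8), (23, 0, 1)]), (13, [(13, 0, 1)]), (23, [(47, 0, 1)]), (29, [(59, 0, 1)])]) (by decide +kernel)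

theorem M_31_71_L3_11_13 : Gen (2 ^ 46 * 3 ^ 20 * 5 ^ 9 * 7 ^ 6 * 11 ^ 2 * 13 ^ 3 * 17 * 19 * 23 * 29 * 31 * 41 * 47 * 59 * 71) 31 71 [3, 11, 13] :=
  gen_of_check (PS := [2, 3, 5, 7, 11, 13, 17, 19, 23, 29, 31, 41, 47, 59, 71]) (C := [(3, [(7, 1, 0), (19, 0, 1)]), (5, [(5, 1, 4), (41, 0, 1)]), (7, [(7, 1, 5), (29, 0, 1)]), (11, [(23, 0, 1)]), (23, [(47, 0, 1)]), (29, [(59, 0, 1)])]) (by decide +kernel)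

theorem M_31_71_L3_11_19 : Gen (2 ^ 46 * 3 ^ 20 * 5 ^ 9 * 7 ^ 6 * 11 ^ 2 * 13 ^ 3 * 17 * 19 * 23 * 29 * 31 * 41 * 47 * 59 * 71) 31 71 [3, 11, 19] :=
  gen_of_check (PS := [2, 3, 5, 7, 11, 13, 17, 19, 23, 29, 31, 41, 47, 59, 71]) (C := [(3, [(7, 1, 0), (13, 0, 1)]), (5, [(5, 1, 4), (41, 0, 1)]), (7, [(7, 1, 5), (29, 0, 1)]), (11, [(23, 0, 1)]), (13, [(13, 0, 1)]), (23, [(47, 0, 1)]), (29, [(59, 0, 1)])]) (by decide +kernel)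

theorem M_31_71_L5_7_13 : Gen (2 ^ 46 * 3 ^ 20 * 5 ^ 9 * 7 ^ 6 * 11 ^ 2 * 13 ^ 3 * 17 * 19 * 23 * 29 * 31 * 41 * 47 * 59 * 71) 31 71 [5, 7, 13] :=
  gen_of_check (PS := [2, 3, 5, 7, 11, 13, 17, 19, 23, 29, 31, 41, 47, 59, 71]) (C := [(3, [(3, 1, 0), (19, 0, 1)]), (5, [(11, 1, 4), (41, 0, 1)]), (7, [(29, 0, 1)]), (11, [(11, 1, 8), (23, 0, 1)]), (23, [(47, 0, 1)]), (29, [(59, 0, 1)])]) (by decide +kernel)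

theorem M_31_71_L5_7_19 : Gen (2 ^ 46 * 3 ^ 20 * 5 ^ 9 * 7 ^ 6 * 11 ^ 2 * 13 ^ 3 * 17 * 19 * 23 * 29 * 31 * 41 * 47 * 59 * 71) 31 71 [5, 7, 19] :=
  gen_of_check (PS := [2, 3, 5, 7, 11, 13, 17, 19, 23, 29, 31, 41, 47, 59, 71]) (C := [(3, [(3, 1, 0), (13, 0, 1)]), (5, [(11, 1, 4), (41, 0, 1)]), (7, [(29, 0, 1)]), (11, [(11, 1, 8), (23, 0, 1)]), (13, [(13, 0, 1)]), (23, [(47, 0, 1)]), (29, [(59, 0, 1)])]) (by decide +kernel)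

theorem M_31_71_L7_11_13 : Gen (2 ^ 46 * 3 ^ 20 * 5 ^ 9 * 7 ^ 6 * 11 ^ 2 * 13 ^ 3 * 17 * 19 * 23 * 29 * 31 * 41 * 47 * 59 * 71) 31 71 [7, 11, 13] :=
  gen_of_check (PS := [2, 3, 5, 7, 11, 13, 17, 19, 23, 29, 31, 41, 47, 59, 71]) (C := [(3, [(3, 1, 0), (19, 0, 1)]), (5, [(5, 1, 4), (41, 0, 1)]), (7, [(29, 0, 1)]), (11, [(23, 0, 1)]), (23, [(47, 0, 1)]), (29, [(59, 0, 1)])]) (by decide +kernel)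

theorem M_31_71_L7_11_19 : Gen (2 ^ 46 * 3 ^ 20 * 5 ^ 9 * 7 ^ 6 * 11 ^ 2 * 13 ^ 3 * 17 * 19 * 23 * 29 * 31 * 41 * 47 * 59 * 71) 31 71 [7, 11, 19] :=
  gen_of_check (PS := [2, 3, 5, 7, 11, 13, 17, 19, 23, 29, 31, 41, 47, 59, 71]) (C := [(3, [(3, 1, 0), (13, 0, 1)]), (5, [(5, 1, 4), (41, 0, 1)]), (7, [(29, 0, 1)]), (11, [(23, 0, 1)]), (13, [(13, 0, 1)]), (23, [(47, 0, 1)]), (29, [(59, 0, 1)])]) (by decide +kernel)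

theorem M_41_47_L3_5_7_31 : Gen (2 ^ 46 * 3 ^ 20 * 5 ^ 9 * 7 ^ 6 * 11 ^ 2 * 13 ^ 3 * 17 * 19 * 23 * 29 * 31 * 41 * 47 * 59 * 71) 41 47 [3, 5, 7, 31] :=
  gen_of_check (PS := [2, 3, 5, 7, 11, 13, 17, 19, 23, 29, 31, 41, 47, 59, 71]) (C := [(3, [(13, 1, 1), (19, 0, 1)]), (5, [(11, 1, 0), (71, 0, 1)]), (7, [(29, 1, 5), (71, 0, 1)]), (11, [(11, 0, 1), (23, 1, 0)]), (13, [(13, 0, 1)]), (29, [(59, 0, 1)])]) (by decide +kernel)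

theorem M_41_47_L3_7_11_31 : Gen (2 ^ 46 * 3 ^ 20 * 5 ^ 9 * 7 ^ 6 * 11 ^ 2 * 13 ^ 3 * 17 * 19 * 23 * 29 * 31 * 41 * 47 * 59 * 71) 41 47 [3, 7, 11, 31] :=
  gen_of_check (PS := [2, 3, 5, 7, 11, 13, 17, 19, 23, 29, 31, 41, 47, 59, 71]) (C := [(3, [(13, 1, 1), (19, 0, 1)]), (5, [(5, 1, 0), (71, 0, 1)]), (7, [(29, 1, 5), (71, 0, 1)]), (11, [(23, 1, 0)]), (13, [(13, 0, 1)]), (29, [(59, 0, 1)])]) (by decide +kernel)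

theorem M_41_47_L3_7_31_71 : Gen (2 ^ 46 * 3 ^ 20 * 5 ^ 9 * 7 ^ 6 * 11 ^ 2 * 13 ^ 3 * 17 * 19 * 23 * 29 * 31 * 41 * 47 * 59 * 71) 41 47 [3, 7, 31, 71] :=
  gen_of_check (PS := [2, 3, 5, 7, 11, 13, 17, 19, 23, 29, 31, 41, 47, 59, 71]) (C := [(3, [(13, 1, 1), (19, 0, 1)]), (5, [(5, 1, 4), (11, 0, 1)]), (7, [(29, 0, 1)]), (11, [(11, 0, 1), (23, 1, 0)]), (13, [(13, 0, 1)]), (29, [(59, 0, 1)])]) (by decide +kernel)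

theorem M_41_47_L3_13_31_71 : Gen (2 ^ 46 * 3 ^ 20 * 5 ^ 9 * 7 ^ 6 * 11 ^ 2 * 13 ^ 3 * 17 * 19 * 23 * 29 * 31 * 41 * 47 * 59 * 71) 41 47 [3, 13, 31, 71] :=
  gen_of_check (PS := [2, 3, 5, 7, 11, 13, 17, 19, 23, 29, 31, 41, 47, 59, 71]) (C := [(3, [(7, 1, 1), (19, 0, 1)]), (5, [(5, 1, 4), (11, 0, 1)]), (7, [(7, 1, 0), (29, 0, 1)]), (11, [(11, 0, 1), (23, 1, 0)]), (29, [(59, 0, 1)])]) (by decide +kernel)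

theorem M_41_47_L3_19_31_71 : Gen (2 ^ 46 * 3 ^ 20 * 5 ^ 9 * 7 ^ 6 * 11 ^ 2 * 13 ^ 3 * 17 * 19 * 23 * 29 * 31 * 41 * 47 * 59 * 71) 41 47 [3, 19, 31, 71] :=
  gen_of_check (PS := [2, 3, 5, 7, 11, 13, 17, 19, 23, 29, 31, 41, 47, 59, 71]) (C := [(3, [(7, 0, 1), (13, 1, 0)]), (5, [(5, 1, 4), (11, 0, 1)]), (7, [(7, 1, 0), (29, 0, 1)]), (11, [(11, 0, 1), (23, 1, 0)]), (13, [(13, 0, 1)]), (29, [(59, 0, 1)])]) (by decide +kernel)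

theorem M_41_47_L5_7_19_31 : Gen (2 ^ 46 * 3 ^ 20 * 5 ^ 9 * 7 ^ 6 * 11 ^ 2 * 13 ^ 3 * 17 * 19 * 23 * 29 * 31 * 41 * 47 * 59 * 71) 41 47 [5, 7, 19, 31] :=
  gen_of_check (PS := [2, 3, 5, 7, 11, 13, 17, 19, 23, 29, 31, 41, 47, 59, 71]) (C := [(3, [(3, 0, 1), (13, 1, 0)]), (5, [(11, 1, 0), (71, 0, 1)]), (7, [(29, 1, 5), (71, 0, 1)]), (11, [(11, 0, 1), (23, 1, 0)]), (13, [(13, 0, 1)]), (29, [(59, 0, 1)])]) (by decide +kernel)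

theorem M_41_47_L7_11_19_31 : Gen (2 ^ 46 * 3 ^ 20 * 5 ^ 9 * 7 ^ 6 * 11 ^ 2 * 13 ^ 3 * 17 * 19 * 23 * 29 * 31 * 41 * 47 * 59 * 71) 41 47 [7, 11, 19, 31] :=
  gen_of_check (PS := [2, 3, 5, 7, 11, 13, 17, 19, 23, 29, 31, 41, 47, 59, 71]) (C := [(3, [(3, 0, 1), (13, 1, 0)]), (5, [(5, 1, 0), (71, 0, 1)]), (7, [(29, 1, 5), (71, 0, 1)]), (11, [(23, 1, 0)]), (13, [(13, 0, 1)]), (29, [(59, 0, 1)])]) (by decide +kernel)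

theorem M_41_47_L7_19_31_71 : Gen (2 ^ 46 * 3 ^ 20 * 5 ^ 9 * 7 ^ 6 * 11 ^ 2 * 13 ^ 3 * 17 * 19 * 23 * 29 * 31 * 41 * 47 * 59 * 71) 41 47 [7, 19, 31, 71] :=
  gen_of_check (PS := [2, 3, 5, 7, 11, 13, 17, 19, 23, 29, 31, 41, 47, 59, 71]) (C := [(3, [(3, 0, 1), (13, 1, 0)]), (5, [(5, 1, 4), (11, 0, 1)]), (7, [(29, 0, 1)]), (11, [(11, 0, 1), (23, 1, 0)]), (13, [(13, 0, 1)]), (29, [(59, 0, 1)])]) (by decide +kernel)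

theorem M_41_47_L13_19_31_71 : Gen (2 ^ 46 * 3 ^ 20 * 5 ^ 9 * 7 ^ 6 * 11 ^ 2 * 13 ^ 3 * 17 * 19 * 23 * 29 * 31 * 41 * 47 * 59 * 71) 41 47 [13, 19, 31, 71] :=
  gen_of_check (PS := [2, 3, 5, 7, 11, 13, 17, 19, 23, 29, 31, 41, 47, 59, 71]) (C := [(3, [(3, 1, 0), (7, 0, 1)]), (5, [(5, 1, 4), (11, 0, 1)]), (7, [(7, 1, 0), (29, 0, 1)]), (11, [(11, 0, 1), (23, 1, 0)]), (29, [(59, 0, 1)])]) (by decide +kernel)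

theorem M_41_71_L3_5_7_31 : Gen (2 ^ 46 * 3 ^ 20 * 5 ^ 9 * 7 ^ 6 * 11 ^ 2 * 13 ^ 3 * 17 * 19 * 23 * 29 * 31 * 41 * 47 * 59 * 71) 41 71 [3, 5, 7, 31] :=
  gen_of_check (PS := [2, 3, 5, 7, 11, 13, 17, 19, 23, 29, 31, 41, 47, 59, 71]) (C := [(3, [(13, 1, 2), (19, 0, 1)]), (5, [(11, 0, 1)]), (7, [(29, 0, 1)]), (11, [(11, 1, 5), (23, 0, 1)]), (13, [(13, 0, 1)]), (23, [(47, 0, 1)]), (29, [(59, 0, 1)])]) (by decide +kernel)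

theorem M_41_71_L3_7_11_31 : Gen (2 ^ 46 * 3 ^ 20 * 5 ^ 9 * 7 ^ 6 * 11 ^ 2 * 13 ^ 3 * 17 * 19 * 23 * 29 * 31 * 41 * 47 * 59 * 71) 41 71 [3, 7, 11, 31] :=
  gen_of_check (PS := [2, 3, 5, 7, 11, 13, 17, 19, 23, 29, 31, 41, 47, 59, 71]) (C := [(3, [(13, 1, 2), (19, 0, 1)]), (5, [(5, 0, 1)]), (7, [(29, 0, 1)]), (11, [(23, 0, 1)]), (13, [(13, 0, 1)]), (23, [(47, 0, 1)]), (29, [(59, 0, 1)])]) (by decide +kernel)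

theorem M_41_71_L5_7_13_31 : Gen (2 ^ 46 * 3 ^ 20 * 5 ^ 9 * 7 ^ 6 * 11 ^ 2 * 13 ^ 3 * 17 * 19 * 23 * 29 * 31 * 41 * 47 * 59 * 71) 41 71 [5, 7, 13, 31] :=
  gen_of_check (PS := [2, 3, 5, 7, 11, 13, 17, 19, 23, 29, 31, 41, 47, 59, 71]) (C := [(3, [(3, 1, 2), (19, 0, 1)]), (5, [(11, 0, 1)]), (7, [(29, 0, 1)]), (11, [(11, 1, 5), (23, 0, 1)]), (23, [(47, 0, 1)]), (29, [(59, 0, 1)])]) (by decide +kernel)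

theorem M_41_71_L5_7_19_31 : Gen (2 ^ 46 * 3 ^ 20 * 5 ^ 9 * 7 ^ 6 * 11 ^ 2 * 13 ^ 3 * 17 * 19 * 23 * 29 * 31 * 41 * 47 * 59 * 71) 41 71 [5, 7, 19, 31] :=
  gen_of_check (PS := [2, 3, 5, 7, 11, 13, 17, 19, 23, 29, 31, 41, 47, 59, 71]) (C := [(3, [(3, 1, 1), (13, 0, 1)]), (5, [(11, 0, 1)]), (7, [(29, 0, 1)]), (11, [(11, 1, 5), (23, 0, 1)]), (13, [(13, 0, 1)]), (23, [(47, 0, 1)]), (29, [(59, 0, 1)])]) (by decide +kernel)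

theorem M_41_71_L7_11_13_31 : Gen (2 ^ 46 * 3 ^ 20 * 5 ^ 9 * 7 ^ 6 * 11 ^ 2 * 13 ^ 3 * 17 * 19 * 23 * 29 * 31 * 41 * 47 * 59 * 71) 41 71 [7, 11, 13, 31] :=
  gen_of_check (PS := [2, 3, 5, 7, 11, 13, 17, 19, 23, 29, 31, 41, 47, 59, 71]) (C := [(3, [(3, 1, 2), (19, 0, 1)]), (5, [(5, 0, 1)]), (7, [(29, 0, 1)]), (11, [(23, 0, 1)]), (23, [(47, 0, 1)]), (29, [(59, 0, 1)])]) (by decide +kernel)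

theorem M_41_71_L7_11_19_31 : Gen (2 ^ 46 * 3 ^ 20 * 5 ^ 9 * 7 ^ 6 * 11 ^ 2 * 13 ^ 3 * 17 * 19 * 23 * 29 * 31 * 41 * 47 * 59 * 71) 41 71 [7, 11, 19, 31] :=
  gen_of_check (PS := [2, 3, 5, 7, 11, 13, 17, 19, 23, 29, 31, 41, 47, 59, 71]) (C := [(3, [(3, 1, 1), (13, 0, 1)]), (5, [(5, 0, 1)]), (7, [(29, 0, 1)]), (11, [(23, 0, 1)]), (13, [(13, 0, 1)]), (23, [(47, 0, 1)]), (29, [(59, 0, 1)])]) (by decide +kernel)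

theorem M_47_71_L3_7_11_31 : Gen (2 ^ 46 * 3 ^ 20 * 5 ^ 9 * 7 ^ 6 * 11 ^ 2 * 13 ^ 3 * 17 * 19 * 23 * 29 * 31 * 41 * 47 * 59 * 71) 47 71 [3, 7, 11, 31] :=
  gen_of_check (PS := [2, 3, 5, 7, 11, 13, 17, 19, 23, 29, 31, 41, 47, 59, 71]) (C := [(3, [(13, 1, 1), (19, 0, 1)]), (5, [(5, 1, 3), (41, 0, 1)]), (7, [(29, 0, 1)]), (11, [(23, 0, 1)]), (13, [(13, 0, 1)]), (29, [(59, 0, 1)])]) (by decide +kernel)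

theorem M_47_71_L3_7_31_41 : Gen (2 ^ 46 * 3 ^ 20 * 5 ^ 9 * 7 ^ 6 * 11 ^ 2 * 13 ^ 3 * 17 * 19 * 23 * 29 * 31 * 41 * 47 * 59 * 71) 47 71 [3, 7, 31, 41] :=
  gen_of_check (PS := [2, 3, 5, 7, 11, 13, 17, 19, 23, 29, 31, 41, 47, 59, 71]) (C := [(3, [(13, 1, 1), (19, 0, 1)]), (5, [(5, 1, 3), (11, 0, 1)]), (7, [(29, 0, 1)]), (11, [(11, 1, 0), (23, 0, 1)]), (13, [(13, 0, 1)]), (29, [(59, 0, 1)])]) (by decide +kernel)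

theorem M_47_71_L3_11_13_31 : Gen (2 ^ 46 * 3 ^ 20 * 5 ^ 9 * 7 ^ 6 * 11 ^ 2 * 13 ^ 3 * 17 * 19 * 23 * 29 * 31 * 41 * 47 * 59 * 71) 47 71 [3, 11, 13, 31] :=
  gen_of_check (PS := [2, 3, 5, 7, 11, 13, 17, 19, 23, 29, 31, 41, 47, 59, 71]) (C := [(3, [(7, 1, 1), (19, 0, 1)]), (5, [(5, 1, 3), (41, 0, 1)]), (7, [(7, 1, 6), (29, 0, 1)]), (11, [(23, 0, 1)]), (29, [(59, 0, 1)])]) (by decide +kernel)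

theorem M_47_71_L3_11_19_31 : Gen (2 ^ 46 * 3 ^ 20 * 5 ^ 9 * 7 ^ 6 * 11 ^ 2 * 13 ^ 3 * 17 * 19 * 23 * 29 * 31 * 41 * 47 * 59 * 71) 47 71 [3, 11, 19, 31] :=
  gen_of_check (PS := [2, 3, 5, 7, 11, 13, 17, 19, 23, 29, 31, 41, 47, 59, 71]) (C := [(3, [(7, 1, 0), (13, 0, 1)]), (5, [(5, 1, 3), (41, 0, 1)]), (7, [(7, 1, 6), (29, 0, 1)]), (11, [(23, 0, 1)]), (13, [(13, 0, 1)]), (29, [(59, 0, 1)])]) (by decide +kernel)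

theorem M_47_71_L3_13_31_41 : Gen (2 ^ 46 * 3 ^ 20 * 5 ^ 9 * 7 ^ 6 * 11 ^ 2 * 13 ^ 3 * 17 * 19 * 23 * 29 * 31 * 41 * 47 * 59 * 71) 47 71 [3, 13, 31, 41] :=
  gen_of_check (PS := [2, 3, 5, 7, 11, 13, 17, 19, 23, 29, 31, 41, 47, 59, 71]) (C := [(3, [(7, 1, 1), (19, 0, 1)]), (5, [(5, 1, 3), (11, 0, 1)]), (7, [(7, 1, 6), (29, 0, 1)]), (11, [(11, 1, 0), (23, 0, 1)]), (29, [(59, 0, 1)])]) (by decide +kernel)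

theorem M_47_71_L3_19_31_41 : Gen (2 ^ 46 * 3 ^ 20 * 5 ^ 9 * 7 ^ 6 * 11 ^ 2 * 13 ^ 3 * 17 * 19 * 23 * 29 * 31 * 41 * 47 * 59 * 71) 47 71 [3, 19, 31, 41] :=
  gen_of_check (PS := [2, 3, 5, 7, 11, 13, 17, 19, 23, 29, 31, 41, 47, 59, 71]) (C := [(3, [(7, 1, 0), (13, 0, 1)]), (5, [(5, 1, 3), (11, 0, 1)]), (7, [(7, 1, 6), (29, 0, 1)]), (11, [(11, 1, 0), (23, 0, 1)]), (13, [(13, 0, 1)]), (29, [(59, 0, 1)])]) (by decide +kernel)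

theorem M_47_71_L7_11_13_31 : Gen (2 ^ 46 * 3 ^ 20 * 5 ^ 9 * 7 ^ 6 * 11 ^ 2 * 13 ^ 3 * 17 * 19 * 23 * 29 * 31 * 41 * 47 * 59 * 71) 47 71 [7, 11, 13, 31] :=
  gen_of_check (PS := [2, 3, 5, 7, 11, 13, 17, 19, 23, 29, 31, 41, 47, 59, 71]) (C := [(3, [(3, 1, 1), (19, 0, 1)]), (5, [(5, 1, 3), (41, 0, 1)]), (7, [(29, 0, 1)]), (11, [(23, 0, 1)]), (29, [(59, 0, 1)])]) (by decide +kernel)

theorem M_47_71_L7_11_19_31 : Gen (2 ^ 46 * 3 ^ 20 * 5 ^ 9 * 7 ^ 6 * 11 ^ 2 * 13 ^ 3 * 17 * 19 * 23 * 29 * 31 * 41 * 47 * 59 * 71) 47 71 [7, 11, 19, 31] :=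
  gen_of_check (PS := [2, 3, 5, 7, 11, 13, 17, 19, 23, 29, 31, 41, 47, 59, 71]) (C := [(3, [(3, 1, 0), (13, 0, 1)]), (5, [(5, 1, 3), (41, 0, 1)]), (7, [(29, 0, 1)]), (11, [(23, 0, 1)]), (13, [(13, 0, 1)]), (29, [(59, 0, 1)])]) (by decide +kernel)

theorem M_47_71_L7_13_31_41 : Gen (2 ^ 46 * 3 ^ 20 * 5 ^ 9 * 7 ^ 6 * 11 ^ 2 * 13 ^ 3 * 17 * 19 * 23 * 29 * 31 * 41 * 47 * 59 * 71) 47 71 [7, 13, 31, 41] :=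
  gen_of_check (PS := [2, 3, 5, 7, 11, 13, 17, 19, 23, 29, 31, 41, 47, 59, 71]) (C := [(3, [(3, 1, 1), (19, 0, 1)]), (5, [(5, 1, 3), (11, 0, 1)]), (7, [(29, 0, 1)]), (11, [(11, 1, 0), (23, 0, 1)]), (29, [(59, 0, 1)])]) (by decide +kernel)

theorem M_47_71_L7_19_31_41 : Gen (2 ^ 46 * 3 ^ 20 * 5 ^ 9 * 7 ^ 6 * 11 ^ 2 * 13 ^ 3 * 17 * 19 * 23 * 29 * 31 * 41 * 47 * 59 * 71) 47 71 [7, 19, 31, 41] :=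
  gen_of_check (PS := [2, 3, 5, 7, 11, 13, 17, 19, 23, 29, 31, 41, 47, 59, 71]) (C := [(3, [(3, 1, 0), (13, 0, 1)]), (5, [(5, 1, 3), (11, 0, 1)]), (7, [(29, 0, 1)]), (11, [(11, 1, 0), (23, 0, 1)]), (13, [(13, 0, 1)]), (29, [(59, 0, 1)])]) (by decide +kernel)

theorem M_59_71_L3_5_13_31 : Gen (2 ^ 46 * 3 ^ 20 * 5 ^ 9 * 7 ^ 6 * 11 ^ 2 * 13 ^ 3 * 17 * 19 * 23 * 29 * 31 * 41 * 47 * 59 * 71) 59 71 [3, 5, 13, 31] :=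
  gen_of_check (PS := [2, 3, 5, 7, 11, 13, 17, 19, 23, 29, 31, 41, 47, 59, 71]) (C := [(3, [(7, 1, 2), (19, 0, 1)]), (5, [(11, 1, 3), (41, 0, 1)]), (7, [(7, 1, 0), (29, 0, 1)]), (11, [(11, 1, 4), (23, 0, 1)]), (23, [(47, 0, 1)])]) (by decide +kernel)

theorem M_59_71_L3_5_19_31 : Gen (2 ^ 46 * 3 ^ 20 * 5 ^ 9 * 7 ^ 6 * 11 ^ 2 * 13 ^ 3 * 17 * 19 * 23 * 29 * 31 * 41 * 47 * 59 * 71) 59 71 [3, 5, 19, 31] :=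
  gen_of_check (PS := [2, 3, 5, 7, 11, 13, 17, 19, 23, 29, 31, 41, 47, 59, 71]) (C := [(3, [(7, 1, 2), (13, 0, 1)]), (5, [(11, 1, 3), (41, 0, 1)]), (7, [(7, 1, 0), (29, 0, 1)]), (11, [(11, 1, 4), (23, 0, 1)]), (13, [(13, 0, 1)]), (23, [(47, 0, 1)])]) (by decide +kernel)

theorem M_59_71_L3_13_31_41 : Gen (2 ^ 46 * 3 ^ 20 * 5 ^ 9 * 7 ^ 6 * 11 ^ 2 * 13 ^ 3 * 17 * 19 * 23 * 29 * 31 * 41 * 47 * 59 * 71) 59 71 [3, 13, 31, 41] :=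
  gen_of_check (PS := [2, 3, 5, 7, 11, 13, 17, 19, 23, 29, 31, 41, 47, 59, 71]) (C := [(3, [(7, 1, 2), (19, 0, 1)]), (5, [(5, 1, 2), (11, 0, 1)]), (7, [(7, 1, 0), (29, 0, 1)]), (11, [(11, 1, 4), (23, 0, 1)]), (23, [(47, 0, 1)])]) (by decide +kernel)

theorem M_59_71_L3_19_31_41 : Gen (2 ^ 46 * 3 ^ 20 * 5 ^ 9 * 7 ^ 6 * 11 ^ 2 * 13 ^ 3 * 17 * 19 * 23 * 29 * 31 * 41 * 47 * 59 * 71) 59 71 [3, 19, 31, 41] :=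
  gen_of_check (PS := [2, 3, 5, 7, 11, 13, 17, 19, 23, 29, 31, 41, 47, 59, 71]) (C := [(3, [(7, 1, 2), (13, 0, 1)]), (5, [(5, 1, 2), (11, 0, 1)]), (7, [(7, 1, 0), (29, 0, 1)]), (11, [(11, 1, 4), (23, 0, 1)]), (13, [(13, 0, 1)]), (23, [(47, 0, 1)])]) (by decide +kernel)

theorem M_59_71_L5_7_13_31 : Gen (2 ^ 46 * 3 ^ 20 * 5 ^ 9 * 7 ^ 6 * 11 ^ 2 * 13 ^ 3 * 17 * 19 * 23 * 29 * 31 * 41 * 47 * 59 * 71) 59 71 [5, 7, 13, 31] :=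
  gen_of_check (PS := [2, 3, 5, 7, 11, 13, 17, 19, 23, 29, 31, 41, 47, 59, 71]) (C := [(3, [(3, 1, 2), (19, 0, 1)]), (5, [(11, 1, 3), (41, 0, 1)]), (7, [(29, 0, 1)]), (11, [(11, 1, 4), (23, 0, 1)]), (23, [(47, 0, 1)])]) (by decide +kernel)

theorem M_59_71_L5_7_19_31 : Gen (2 ^ 46 * 3 ^ 20 * 5 ^ 9 * 7 ^ 6 * 11 ^ 2 * 13 ^ 3 * 17 * 19 * 23 * 29 * 31 * 41 * 47 * 59 * 71) 59 71 [5, 7, 19, 31] :=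
  gen_of_check (PS := [2, 3, 5, 7, 11, 13, 17, 19, 23, 29, 31, 41, 47, 59, 71]) (C := [(3, [(3, 1, 2), (13, 0, 1)]), (5, [(11, 1, 3), (41, 0, 1)]), (7, [(29, 0, 1)]), (11, [(11, 1, 4), (23, 0, 1)]), (13, [(13, 0, 1)]), (23, [(47, 0, 1)])]) (by decide +kernel)

theorem M_59_71_L7_13_31_41 : Gen (2 ^ 46 * 3 ^ 20 * 5 ^ 9 * 7 ^ 6 * 11 ^ 2 * 13 ^ 3 * 17 * 19 * 23 * 29 * 31 * 41 * 47 * 59 * 71) 59 71 [7, 13, 31, 41] :=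
  gen_of_check (PS := [2, 3, 5, 7, 11, 13, 17, 19, 23, 29, 31, 41, 47, 59, 71]) (C := [(3, [(3, 1, 2), (19, 0, 1)]), (5, [(5, 1, 2), (11, 0, 1)]), (7, [(29, 0, 1)]), (11, [(11, 1, 4), (23, 0, 1)]), (23, [(47, 0, 1)])]) (by decide +kernel)

theorem M_59_71_L7_19_31_41 : Gen (2 ^ 46 * 3 ^ 20 * 5 ^ 9 * 7 ^ 6 * 11 ^ 2 * 13 ^ 3 * 17 * 19 * 23 * 29 * 31 * 41 * 47 * 59 * 71) 59 71 [7, 19, 31, 41] :=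
  gen_of_check (PS := [2, 3, 5, 7, 11, 13, 17, 19, 23, 29, 31, 41, 47, 59, 71]) (C := [(3, [(3, 1, 2), (13, 0, 1)]), (5, [(5, 1, 2), (11, 0, 1)]), (7, [(29, 0, 1)]), (11, [(11, 1, 4), (23, 0, 1)]), (13, [(13, 0, 1)]), (23, [(47, 0, 1)])]) (by decide +kernel)

theorem Suz_7_11 : Gen (2 ^ 13 * 3 ^ 7 * 5 ^ 2 * 7 * 11 * 13) 7 11 [] :=
  gen_of_check (PS := [2, 3, 5, 7, 11, 13]) (C := [(3, [(3, 1, 1), (13, 0, 1)]), (5, [(5, 0, 1)])]) (by decide +kernel)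

theorem Suz_7_13 : Gen (2 ^ 13 * 3 ^ 7 * 5 ^ 2 * 7 * 11 * 13) 7 13 [] :=
  gen_of_check (PS := [2, 3, 5, 7, 11, 13]) (C := [(3, [(3, 0, 1)]), (5, [(5, 1, 3), (11, 0, 1)])]) (by decide +kernel)

theorem Suz_11_13 : Gen (2 ^ 13 * 3 ^ 7 * 5 ^ 2 * 7 * 11 * 13) 11 13 [] :=
  gen_of_check (PS := [2, 3, 5, 7, 11, 13]) (C := [(3, [(3, 0, 1), (7, 1, 0)]), (5, [(5, 0, 1)])]) (by decide +kernel)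

theorem Fi22_7_11 : Gen (2 ^ 17 * 3 ^ 9 * 5 ^ 2 * 7 * 11 * 13) 7 11 [] :=
  gen_of_check (PS := [2, 3, 5, 7, 11, 13]) (C := [(3, [(3, 1, 1), (13, 0, 1)]), (5, [(5, 0, 1)])]) (by decide +kernel)

theorem Fi22_7_13 : Gen (2 ^ 17 * 3 ^ 9 * 5 ^ 2 * 7 * 11 * 13) 7 13 [] :=
  gen_of_check (PS := [2, 3, 5, 7, 11, 13]) (C := [(3, [(3, 0, 1)]), (5, [(5, 1, 3), (11, 0, 1)])]) (by decide +kernel)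

theorem Fi22_11_13 : Gen (2 ^ 17 * 3 ^ 9 * 5 ^ 2 * 7 * 11 * 13) 11 13 [] :=
  gen_of_check (PS := [2, 3, 5, 7, 11, 13]) (C := [(3, [(3, 0, 1), (7, 1, 0)]), (5, [(5, 0, 1)])]) (by decide +kernel)

theorem Co2_7_11 : Gen (2 ^ 18 * 3 ^ 6 * 5 ^ 3 * 7 * 11 * 23) 7 11 [] :=
  gen_of_check (PS := [2, 3, 5, 7, 11, 23]) (C := [(3, [(3, 0, 1)]), (5, [(5, 0, 1)]), (11, [(23, 0, 1)])]) (by decide +kernel)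

theorem Co2_7_23 : Gen (2 ^ 18 * 3 ^ 6 * 5 ^ 3 * 7 * 11 * 23) 7 23 [] :=
  gen_of_check (PS := [2, 3, 5, 7, 11, 23]) (C := [(3, [(3, 0, 1)]), (5, [(5, 0, 1), (11, 1, 0)])]) (by decide +kernel)

theorem Co2_11_23_L3 : Gen (2 ^ 18 * 3 ^ 6 * 5 ^ 3 * 7 * 11 * 23) 11 23 [3] :=
  gen_of_check (PS := [2, 3, 5, 7, 11, 23]) (C := [(3, [(7, 0, 1)]), (5, [(5, 0, 1)])]) (by decide +kernel)

theorem Co2_11_23_L7 : Gen (2 ^ 18 * 3 ^ 6 * 5 ^ 3 * 7 * 11 * 23) 11 23 [7] :=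
  gen_of_check (PS := [2, 3, 5, 7, 11, 23]) (C := [(3, [(3, 0, 1)]), (5, [(5, 0, 1)])]) (by decide +kernel)

theorem Co3_7_11 : Gen (2 ^ 10 * 3 ^ 7 * 5 ^ 3 * 7 * 11 * 23) 7 11 [] :=
  gen_of_check (PS := [2, 3, 5, 7, 11, 23]) (C := [(3, [(3, 0, 1)]), (5, [(5, 0, 1)]), (11, [(23, 0, 1)])]) (by decide +kernel)

theorem Co3_7_23 : Gen (2 ^ 10 * 3 ^ 7 * 5 ^ 3 * 7 * 11 * 23) 7 23 [] :=
  gen_of_check (PS := [2, 3, 5, 7, 11, 23]) (C := [(3, [(3, 0, 1)]), (5, [(5, 0, 1), (11, 1, 0)])]) (by decide +kernel)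

theorem Co3_11_23_L3 : Gen (2 ^ 10 * 3 ^ 7 * 5 ^ 3 * 7 * 11 * 23) 11 23 [3] :=
  gen_of_check (PS := [2, 3, 5, 7, 11, 23]) (C := [(3, [(7, 0, 1)]), (5, [(5, 0, 1)])]) (by decide +kernel)

theorem Co3_11_23_L7 : Gen (2 ^ 10 * 3 ^ 7 * 5 ^ 3 * 7 * 11 * 23) 11 23 [7] :=
  gen_of_check (PS := [2, 3, 5, 7, 11, 23]) (C := [(3, [(3, 0, 1)]), (5, [(5, 0, 1)])]) (by decide +kernel)

theorem Ru_7_13 : Gen (2 ^ 14 * 3 ^ 3 * 5 ^ 3 * 7 * 13 * 29) 7 13 [] :=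
  gen_of_check (PS := [2, 3, 5, 7, 13, 29]) (C := [(3, [(3, 0, 1)]), (5, [(5, 0, 1)]), (7, [(29, 0, 1)])]) (by decide +kernel)

theorem Ru_7_29 : Gen (2 ^ 14 * 3 ^ 3 * 5 ^ 3 * 7 * 13 * 29) 7 29 [] :=
  gen_of_check (PS := [2, 3, 5, 7, 13, 29]) (C := [(3, [(3, 1, 1), (13, 0, 1)]), (5, [(5, 0, 1)])]) (by decide +kernel)

theorem Ru_13_29_L7 : Gen (2 ^ 14 * 3 ^ 3 * 5 ^ 3 * 7 * 13 * 29) 13 29 [7] :=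
  gen_of_check (PS := [2, 3, 5, 7, 13, 29]) (C := [(3, [(3, 0, 1)]), (5, [(5, 0, 1)])]) (by decide +kernel)

theorem HS_7_11 : Gen (2 ^ 9 * 3 ^ 2 * 5 ^ 3 * 7 * 11) 7 11 [] :=
  gen_of_check (PS := [2, 3, 5, 7, 11]) (C := [(3, [(3, 0, 1)]), (5, [(5, 0, 1)])]) (by decide +kernel)

theorem McL_7_11 : Gen (2 ^ 7 * 3 ^ 6 * 5 ^ 3 * 7 * 11) 7 11 [] :=
  gen_of_check (PS := [2, 3, 5, 7, 11]) (C := [(3, [(3, 0, 1)]), (5, [(5, 0, 1)])]) (by decide +kernel)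

theorem M24_5_7 : Gen (2 ^ 10 * 3 ^ 3 * 5 * 7 * 11 * 23) 5 7 [] :=
  gen_of_check (PS := [2, 3, 5, 7, 11, 23]) (C := [(3, [(3, 0, 1)]), (5, [(11, 0, 1)]), (11, [(23, 0, 1)])]) (by decide +kernel)

theorem M24_5_11_L3 : Gen (2 ^ 10 * 3 ^ 3 * 5 * 7 * 11 * 23) 5 11 [3] :=
  gen_of_check (PS := [2, 3, 5, 7, 11, 23]) (C := [(3, [(7, 0, 1)]), (11, [(23, 0, 1)])]) (by decide +kernel)

theorem M24_5_11_L7 : Gen (2 ^ 10 * 3 ^ 3 * 5 * 7 * 11 * 23) 5 11 [7] :=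
  gen_of_check (PS := [2, 3, 5, 7, 11, 23]) (C := [(3, [(3, 0, 1)]), (11, [(23, 0, 1)])]) (by decide +kernel)

theorem M24_5_23_L3 : Gen (2 ^ 10 * 3 ^ 3 * 5 * 7 * 11 * 23) 5 23 [3] :=
  gen_of_check (PS := [2, 3, 5, 7, 11, 23]) (C := [(3, [(7, 0, 1)]), (5, [(11, 1, 0)])]) (by decide +kernel)

theorem M24_5_23_L7 : Gen (2 ^ 10 * 3 ^ 3 * 5 * 7 * 11 * 23) 5 23 [7] :=
  gen_of_check (PS := [2, 3, 5, 7, 11, 23]) (C := [(3, [(3, 0, 1)]), (5, [(11, 1, 0)])]) (by decide +kernel)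

theorem M24_7_11 : Gen (2 ^ 10 * 3 ^ 3 * 5 * 7 * 11 * 23) 7 11 [] :=
  gen_of_check (PS := [2, 3, 5, 7, 11, 23]) (C := [(3, [(3, 0, 1)]), (11, [(23, 0, 1)])]) (by decide +kernel)

theorem M24_7_23 : Gen (2 ^ 10 * 3 ^ 3 * 5 * 7 * 11 * 23) 7 23 [] :=
  gen_of_check (PS := [2, 3, 5, 7, 11, 23]) (C := [(3, [(3, 0, 1)]), (5, [(11, 1, 0)])]) (by decide +kernel)

theorem M24_11_23_L3 : Gen (2 ^ 10 * 3 ^ 3 * 5 * 7 * 11 * 23) 11 23 [3] :=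
  gen_of_check (PS := [2, 3, 5, 7, 11, 23]) (C := [(3, [(7, 0, 1)])]) (by decide +kernel)

theorem M24_11_23_L7 : Gen (2 ^ 10 * 3 ^ 3 * 5 * 7 * 11 * 23) 11 23 [7] :=
  gen_of_check (PS := [2, 3, 5, 7, 11, 23]) (C := [(3, [(3, 0, 1)])]) (by decide +kernel)

theorem M23_5_7 : Gen (2 ^ 7 * 3 ^ 2 * 5 * 7 * 11 * 23) 5 7 [] :=
  gen_of_check (PS := [2, 3, 5, 7, 11, 23]) (C := [(3, [(3, 0, 1)]), (5, [(11, 0, 1)]), (11, [(23, 0, 1)])]) (by decide +kernel)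

theorem M23_5_11_L3 : Gen (2 ^ 7 * 3 ^ 2 * 5 * 7 * 11 * 23) 5 11 [3] :=
  gen_of_check (PS := [2, 3, 5, 7, 11, 23]) (C := [(3, [(7, 0, 1)]), (11, [(23, 0, 1)])]) (by decide +kernel)

theorem M23_5_11_L7 : Gen (2 ^ 7 * 3 ^ 2 * 5 * 7 * 11 * 23) 5 11 [7] :=
  gen_of_check (PS := [2, 3, 5, 7, 11, 23]) (C := [(3, [(3, 0, 1)]), (11, [(23, 0, 1)])]) (by decide +kernel)

theorem M23_5_23_L3 : Gen (2 ^ 7 * 3 ^ 2 * 5 * 7 * 11 * 23) 5 23 [3] :=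
  gen_of_check (PS := [2, 3, 5, 7, 11, 23]) (C := [(3, [(7, 0, 1)]), (5, [(11, 1, 0)])]) (by decide +kernel)

theorem M23_5_23_L7 : Gen (2 ^ 7 * 3 ^ 2 * 5 * 7 * 11 * 23) 5 23 [7] :=
  gen_of_check (PS := [2, 3, 5, 7, 11, 23]) (C := [(3, [(3, 0, 1)]), (5, [(11, 1, 0)])]) (by decide +kernel)

theorem M23_7_11 : Gen (2 ^ 7 * 3 ^ 2 * 5 * 7 * 11 * 23) 7 11 [] :=
  gen_of_check (PS := [2, 3, 5, 7, 11, 23]) (C := [(3, [(3, 0, 1)]), (11, [(23, 0, 1)])]) (by decide +kernel)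

theorem M23_7_23 : Gen (2 ^ 7 * 3 ^ 2 * 5 * 7 * 11 * 23) 7 23 [] :=
  gen_of_check (PS := [2, 3, 5, 7, 11, 23]) (C := [(3, [(3, 0, 1)]), (5, [(11, 1, 0)])]) (by decide +kernel)

theorem M23_11_23_L3 : Gen (2 ^ 7 * 3 ^ 2 * 5 * 7 * 11 * 23) 11 23 [3] :=
  gen_of_check (PS := [2, 3, 5, 7, 11, 23]) (C := [(3, [(7, 0, 1)])]) (by decide +kernel)

theorem M23_11_23_L7 : Gen (2 ^ 7 * 3 ^ 2 * 5 * 7 * 11 * 23) 11 23 [7] :=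
  gen_of_check (PS := [2, 3, 5, 7, 11, 23]) (C := [(3, [(3, 0, 1)])]) (by decide +kernel)

theorem M22_5_7 : Gen (2 ^ 7 * 3 ^ 2 * 5 * 7 * 11) 5 7 [] :=
  gen_of_check (PS := [2, 3, 5, 7, 11]) (C := [(3, [(3, 0, 1)]), (5, [(11, 0, 1)])]) (by decide +kernel)

theorem M22_5_11_L3 : Gen (2 ^ 7 * 3 ^ 2 * 5 * 7 * 11) 5 11 [3] :=
  gen_of_check (PS := [2, 3, 5, 7, 11]) (C := [(3, [(7, 0, 1)])]) (by decide +kernel)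

theorem M22_5_11_L7 : Gen (2 ^ 7 * 3 ^ 2 * 5 * 7 * 11) 5 11 [7] :=
  gen_of_check (PS := [2, 3, 5, 7, 11]) (C := [(3, [(3, 0, 1)])]) (by decide +kernel)

theorem M22_7_11 : Gen (2 ^ 7 * 3 ^ 2 * 5 * 7 * 11) 7 11 [] :=
  gen_of_check (PS := [2, 3, 5, 7, 11]) (C := [(3, [(3, 0, 1)])]) (by decide +kernel)

theorem M12_5_11 : Gen (2 ^ 6 * 3 ^ 3 * 5 * 11) 5 11 [] :=
  gen_of_check (PS := [2, 3, 5, 11]) (C := [(3, [(3, 0, 1)])]) (by decide +kernel)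

theorem M11_5_11 : Gen (2 ^ 4 * 3 ^ 2 * 5 * 11) 5 11 [] :=
  gen_of_check (PS := [2, 3, 5, 11]) (C := [(3, [(3, 0, 1)])]) (by decide +kernel)

theorem J1_3_5 : Gen (2 ^ 3 * 3 * 5 * 7 * 11 * 19) 3 5 [] :=
  gen_of_check (PS := [2, 3, 5, 7, 11, 19]) (C := [(3, [(7, 1, 2), (19, 0, 1)]), (5, [(11, 0, 1)])]) (by decide +kernel)

theorem J1_3_7 : Gen (2 ^ 3 * 3 * 5 * 7 * 11 * 19) 3 7 [] :=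
  gen_of_check (PS := [2, 3, 5, 7, 11, 19]) (C := [(3, [(19, 1, 0)]), (5, [(11, 0, 1)])]) (by decide +kernel)

theorem J1_3_11 : Gen (2 ^ 3 * 3 * 5 * 7 * 11 * 19) 3 11 [] :=
  gen_of_check (PS := [2, 3, 5, 7, 11, 19]) (C := [(3, [(7, 0, 1), (19, 1, 0)])]) (by decide +kernel)

theorem J1_3_19 : Gen (2 ^ 3 * 3 * 5 * 7 * 11 * 19) 3 19 [] :=
  gen_of_check (PS := [2, 3, 5, 7, 11, 19]) (C := [(3, [(7, 0, 1)]), (5, [(11, 0, 1)])]) (by decide +kernel)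

theorem J1_5_7 : Gen (2 ^ 3 * 3 * 5 * 7 * 11 * 19) 5 7 [] :=
  gen_of_check (PS := [2, 3, 5, 7, 11, 19]) (C := [(3, [(19, 1, 0)]), (5, [(11, 0, 1)])]) (by decide +kernel)

theorem J1_5_11 : Gen (2 ^ 3 * 3 * 5 * 7 * 11 * 19) 5 11 [] :=
  gen_of_check (PS := [2, 3, 5, 7, 11, 19]) (C := [(3, [(7, 0, 1), (19, 1, 0)])]) (by decide +kernel)

theorem J1_5_19 : Gen (2 ^ 3 * 3 * 5 * 7 * 11 * 19) 5 19 [] :=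
  gen_of_check (PS := [2, 3, 5, 7, 11, 19]) (C := [(3, [(7, 0, 1)]), (5, [(11, 0, 1)])]) (by decide +kernel)

theorem J1_7_11_L19 : Gen (2 ^ 3 * 3 * 5 * 7 * 11 * 19) 7 11 [19] :=
  gen_of_check (PS := [2, 3, 5, 7, 11, 19]) (C := []) (by decide +kernel)

theorem J1_7_19 : Gen (2 ^ 3 * 3 * 5 * 7 * 11 * 19) 7 19 [] :=
  gen_of_check (PS := [2, 3, 5, 7, 11, 19]) (C := [(5, [(11, 0, 1)])]) (by decide +kernel)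

theorem J1_11_19 : Gen (2 ^ 3 * 3 * 5 * 7 * 11 * 19) 11 19 [] :=
  gen_of_check (PS := [2, 3, 5, 7, 11, 19]) (C := [(3, [(7, 0, 1)])]) (by decide +kernel)

theorem J3_5_17 : Gen (2 ^ 7 * 3 ^ 5 * 5 * 17 * 19) 5 17 [] :=
  gen_of_check (PS := [2, 3, 5, 17, 19]) (C := [(3, [(3, 1, 2), (19, 0, 1)])]) (by decide +kernel)

theorem J3_5_19 : Gen (2 ^ 7 * 3 ^ 5 * 5 * 17 * 19) 5 19 [] :=
  gen_of_check (PS := [2, 3, 5, 17, 19]) (C := [(3, [(3, 1, 0)])]) (by decide +kernel)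

theorem J3_17_19_L3 : Gen (2 ^ 7 * 3 ^ 5 * 5 * 17 * 19) 17 19 [3] :=
  gen_of_check (PS := [2, 3, 5, 17, 19]) (C := []) (by decide +kernel)

theorem HN_7_11_L19 : Gen (2 ^ 14 * 3 ^ 6 * 5 ^ 6 * 7 * 11 * 19) 7 11 [19] :=
  gen_of_check (PS := [2, 3, 5, 7, 11, 19]) (C := [(3, [(3, 0, 1)]), (5, [(5, 0, 1)])]) (by decide +kernel)

theorem HN_7_19 : Gen (2 ^ 14 * 3 ^ 6 * 5 ^ 6 * 7 * 11 * 19) 7 19 [] :=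
  gen_of_check (PS := [2, 3, 5, 7, 11, 19]) (C := [(3, [(3, 1, 0)]), (5, [(5, 1, 1), (11, 0, 1)])]) (by decide +kernel)

theorem HN_11_19 : Gen (2 ^ 14 * 3 ^ 6 * 5 ^ 6 * 7 * 11 * 19) 11 19 [] :=
  gen_of_check (PS := [2, 3, 5, 7, 11, 19]) (C := [(3, [(3, 1, 1), (7, 0, 1)]), (5, [(5, 0, 1)])]) (by decide +kernel)

theorem Th_13_19_L3 : Gen (2 ^ 15 * 3 ^ 10 * 5 ^ 3 * 7 ^ 2 * 13 * 19 * 31) 13 19 [3] :=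
  gen_of_check (PS := [2, 3, 5, 7, 13, 19, 31]) (C := [(3, [(7, 1, 1), (31, 0, 1)]), (5, [(5, 1, 1), (31, 0, 1)]), (7, [(7, 1, 0)])]) (by decide +kernel)

theorem Th_13_19_L7 : Gen (2 ^ 15 * 3 ^ 10 * 5 ^ 3 * 7 ^ 2 * 13 * 19 * 31) 13 19 [7] :=
  gen_of_check (PS := [2, 3, 5, 7, 13, 19, 31]) (C := [(3, [(3, 1, 1), (31, 0, 1)]), (5, [(5, 1, 1), (31, 0, 1)])]) (by decide +kernel)

theorem Th_13_19_L31 : Gen (2 ^ 15 * 3 ^ 10 * 5 ^ 3 * 7 ^ 2 * 13 * 19 * 31) 13 19 [31] :=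
  gen_of_check (PS := [2, 3, 5, 7, 13, 19, 31]) (C := [(3, [(3, 1, 0), (7, 0, 1)]), (5, [(5, 0, 1)]), (7, [(7, 1, 0)])]) (by decide +kernel)

theorem Th_13_31_L3 : Gen (2 ^ 15 * 3 ^ 10 * 5 ^ 3 * 7 ^ 2 * 13 * 19 * 31) 13 31 [3] :=
  gen_of_check (PS := [2, 3, 5, 7, 13, 19, 31]) (C := [(3, [(7, 0, 1), (19, 1, 0)]), (5, [(5, 0, 1)]), (7, [(7, 1, 0)])]) (by decide +kernel)

theorem Th_13_31_L7 : Gen (2 ^ 15 * 3 ^ 10 * 5 ^ 3 * 7 ^ 2 * 13 * 19 * 31) 13 31 [7] :=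
  gen_of_check (PS := [2, 3, 5, 7, 13, 19, 31]) (C := [(3, [(3, 0, 1), (19, 1, 0)]), (5, [(5, 0, 1)])]) (by decide +kernel)

theorem Th_13_31_L19 : Gen (2 ^ 15 * 3 ^ 10 * 5 ^ 3 * 7 ^ 2 * 13 * 19 * 31) 13 31 [19] :=
  gen_of_check (PS := [2, 3, 5, 7, 13, 19, 31]) (C := [(3, [(3, 1, 0), (7, 0, 1)]), (5, [(5, 0, 1)]), (7, [(7, 1, 0)])]) (by decide +kernel)

theorem Th_19_31_L7 : Gen (2 ^ 15 * 3 ^ 10 * 5 ^ 3 * 7 ^ 2 * 13 * 19 * 31) 19 31 [7] :=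
  gen_of_check (PS := [2, 3, 5, 7, 13, 19, 31]) (C := [(3, [(3, 0, 1), (13, 1, 0)]), (5, [(5, 0, 1)])]) (by decide +kernel)

theorem Ly_7_11_L3_31 : Gen (2 ^ 8 * 3 ^ 7 * 5 ^ 6 * 7 * 11 * 31 * 37 * 67) 7 11 [3, 31] :=
  gen_of_check (PS := [2, 3, 5, 7, 11, 31, 37, 67]) (C := [(3, [(37, 1, 2), (67, 0, 1)]), (5, [(5, 0, 1)]), (11, [(67, 0, 1)])]) (by decide +kernel)

theorem Ly_7_11_L3_37 : Gen (2 ^ 8 * 3 ^ 7 * 5 ^ 6 * 7 * 11 * 31 * 37 * 67) 7 11 [3, 37] :=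
  gen_of_check (PS := [2, 3, 5, 7, 11, 31, 37, 67]) (C := [(3, [(31, 1, 2), (67, 0, 1)]), (5, [(5, 1, 4), (31, 0, 1)]), (11, [(67, 0, 1)])]) (by decide +kernel)

theorem Ly_7_11_L3_67 : Gen (2 ^ 8 * 3 ^ 7 * 5 ^ 6 * 7 * 11 * 31 * 37 * 67) 7 11 [3, 67] :=
  gen_of_check (PS := [2, 3, 5, 7, 11, 31, 37, 67]) (C := [(3, [(31, 0, 1), (37, 1, 0)]), (5, [(5, 1, 4), (31, 0, 1)])]) (by decide +kernel)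

theorem Ly_7_11_L31_67 : Gen (2 ^ 8 * 3 ^ 7 * 5 ^ 6 * 7 * 11 * 31 * 37 * 67) 7 11 [31, 67] :=
  gen_of_check (PS := [2, 3, 5, 7, 11, 31, 37, 67]) (C := [(3, [(3, 0, 1), (37, 1, 0)]), (5, [(5, 0, 1)])]) (by decide +kernel)

theorem Ly_7_11_L37_67 : Gen (2 ^ 8 * 3 ^ 7 * 5 ^ 6 * 7 * 11 * 31 * 37 * 67) 7 11 [37, 67] :=
  gen_of_check (PS := [2, 3, 5, 7, 11, 31, 37, 67]) (C := [(3, [(3, 1, 1), (31, 0, 1)]), (5, [(5, 1, 4), (31, 0, 1)])]) (by decide +kernel)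

theorem Ly_7_31_L3 : Gen (2 ^ 8 * 3 ^ 7 * 5 ^ 6 * 7 * 11 * 31 * 37 * 67) 7 31 [3] :=
  gen_of_check (PS := [2, 3, 5, 7, 11, 31, 37, 67]) (C := [(3, [(37, 1, 2), (67, 0, 1)]), (5, [(5, 1, 3), (11, 0, 1)]), (11, [(67, 0, 1)])]) (by decide +kernel)

theorem Ly_7_31_L37 : Gen (2 ^ 8 * 3 ^ 7 * 5 ^ 6 * 7 * 11 * 31 * 37 * 67) 7 31 [37] :=
  gen_of_check (PS := [2, 3, 5, 7, 11, 31, 37, 67]) (C := [(3, [(3, 1, 2), (67, 0, 1)]), (5, [(5, 1, 3), (11, 0, 1)]), (11, [(67, 0, 1)])]) (by decide +kernel)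

theorem Ly_7_31_L67 : Gen (2 ^ 8 * 3 ^ 7 * 5 ^ 6 * 7 * 11 * 31 * 37 * 67) 7 31 [67] :=
  gen_of_check (PS := [2, 3, 5, 7, 11, 31, 37, 67]) (C := [(3, [(3, 0, 1), (37, 1, 0)]), (5, [(5, 1, 3), (11, 0, 1)])]) (by decide +kernel)

theorem Ly_7_37_L31 : Gen (2 ^ 8 * 3 ^ 7 * 5 ^ 6 * 7 * 11 * 31 * 37 * 67) 7 37 [31] :=
  gen_of_check (PS := [2, 3, 5, 7, 11, 31, 37, 67]) (C := [(3, [(3, 1, 1), (67, 0, 1)]), (5, [(5, 1, 4), (11, 0, 1)]), (11, [(67, 1, 0)])]) (by decide +kernel)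

theorem Ly_7_37_L3_5 : Gen (2 ^ 8 * 3 ^ 7 * 5 ^ 6 * 7 * 11 * 31 * 37 * 67) 7 37 [3, 5] :=
  gen_of_check (PS := [2, 3, 5, 7, 11, 31, 37, 67]) (C := [(3, [(31, 1, 1), (67, 0, 1)]), (5, [(11, 0, 1), (31, 1, 0)]), (11, [(67, 1, 0)])]) (by decide +kernel)

theorem Ly_7_37_L3_11 : Gen (2 ^ 8 * 3 ^ 7 * 5 ^ 6 * 7 * 11 * 31 * 37 * 67) 7 37 [3, 11] :=
  gen_of_check (PS := [2, 3, 5, 7, 11, 31, 37, 67]) (C := [(3, [(31, 1, 1), (67, 0, 1)]), (5, [(5, 0, 1), (31, 1, 0)]), (11, [(67, 1, 0)])]) (by decide +kernel)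

theorem Ly_7_37_L5_67 : Gen (2 ^ 8 * 3 ^ 7 * 5 ^ 6 * 7 * 11 * 31 * 37 * 67) 7 37 [5, 67] :=
  gen_of_check (PS := [2, 3, 5, 7, 11, 31, 37, 67]) (C := [(3, [(3, 1, 2), (31, 0, 1)]), (5, [(11, 0, 1), (31, 1, 0)])]) (by decide +kernel)

theorem Ly_7_37_L11_67 : Gen (2 ^ 8 * 3 ^ 7 * 5 ^ 6 * 7 * 11 * 31 * 37 * 67) 7 37 [11, 67] :=
  gen_of_check (PS := [2, 3, 5, 7, 11, 31, 37, 67]) (C := [(3, [(3, 1, 2), (31, 0, 1)]), (5, [(5, 0, 1), (31, 1, 0)])]) (by decide +kernel)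

theorem Ly_7_67_L31 : Gen (2 ^ 8 * 3 ^ 7 * 5 ^ 6 * 7 * 11 * 31 * 37 * 67) 7 67 [31] :=
  gen_of_check (PS := [2, 3, 5, 7, 11, 31, 37, 67]) (C := [(3, [(3, 1, 2), (37, 0, 1)]), (5, [(5, 0, 1), (11, 1, 0)])]) (by decide +kernel)

theorem Ly_7_67_L3_11 : Gen (2 ^ 8 * 3 ^ 7 * 5 ^ 6 * 7 * 11 * 31 * 37 * 67) 7 67 [3, 11] :=
  gen_of_check (PS := [2, 3, 5, 7, 11, 31, 37, 67]) (C := [(3, [(31, 1, 2), (37, 0, 1)]), (5, [(5, 0, 1), (31, 1, 0)])]) (by decide +kernel)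

theorem Ly_11_31_L7_37 : Gen (2 ^ 8 * 3 ^ 7 * 5 ^ 6 * 7 * 11 * 31 * 37 * 67) 11 31 [7, 37] :=
  gen_of_check (PS := [2, 3, 5, 7, 11, 31, 37, 67]) (C := [(3, [(3, 1, 2), (67, 0, 1)]), (5, [(5, 0, 1)]), (11, [(67, 0, 1)])]) (by decide +kernel)

theorem Ly_11_31_L37_67 : Gen (2 ^ 8 * 3 ^ 7 * 5 ^ 6 * 7 * 11 * 31 * 37 * 67) 11 31 [37, 67] :=
  gen_of_check (PS := [2, 3, 5, 7, 11, 31, 37, 67]) (C := [(3, [(3, 1, 2), (7, 0, 1)]), (5, [(5, 0, 1)])]) (by decide +kernel)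

theorem Ly_11_37_L7_31 : Gen (2 ^ 8 * 3 ^ 7 * 5 ^ 6 * 7 * 11 * 31 * 37 * 67) 11 37 [7, 31] :=
  gen_of_check (PS := [2, 3, 5, 7, 11, 31, 37, 67]) (C := [(3, [(3, 1, 1), (67, 0, 1)]), (5, [(5, 0, 1)]), (11, [(67, 1, 0)])]) (by decide +kernel)

theorem Ly_11_37_L7_67 : Gen (2 ^ 8 * 3 ^ 7 * 5 ^ 6 * 7 * 11 * 31 * 37 * 67) 11 37 [7, 67] :=
  gen_of_check (PS := [2, 3, 5, 7, 11, 31, 37, 67]) (C := [(3, [(3, 1, 1), (31, 0, 1)]), (5, [(5, 0, 1), (31, 1, 0)])]) (by decide +kernel)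

theorem Ly_11_37_L31_67 : Gen (2 ^ 8 * 3 ^ 7 * 5 ^ 6 * 7 * 11 * 31 * 37 * 67) 11 37 [31, 67] :=
  gen_of_check (PS := [2, 3, 5, 7, 11, 31, 37, 67]) (C := [(3, [(3, 1, 1), (7, 0, 1)]), (5, [(5, 0, 1)])]) (by decide +kernel)

theorem Ly_11_67_L3_7 : Gen (2 ^ 8 * 3 ^ 7 * 5 ^ 6 * 7 * 11 * 31 * 37 * 67) 11 67 [3, 7] :=
  gen_of_check (PS := [2, 3, 5, 7, 11, 31, 37, 67]) (C := [(3, [(31, 1, 0), (37, 0, 1)]), (5, [(5, 0, 1), (31, 1, 0)])]) (by decide +kernel)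

theorem Ly_11_67_L3_31 : Gen (2 ^ 8 * 3 ^ 7 * 5 ^ 6 * 7 * 11 * 31 * 37 * 67) 11 67 [3, 31] :=
  gen_of_check (PS := [2, 3, 5, 7, 11, 31, 37, 67]) (C := [(3, [(7, 1, 0), (37, 0, 1)]), (5, [(5, 0, 1)])]) (by decide +kernel)

theorem Ly_11_67_L7_31 : Gen (2 ^ 8 * 3 ^ 7 * 5 ^ 6 * 7 * 11 * 31 * 37 * 67) 11 67 [7, 31] :=
  gen_of_check (PS := [2, 3, 5, 7, 11, 31, 37, 67]) (C := [(3, [(3, 1, 0), (37, 0, 1)]), (5, [(5, 0, 1)])]) (by decide +kernel)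

theorem Ly_11_67_L7_37 : Gen (2 ^ 8 * 3 ^ 7 * 5 ^ 6 * 7 * 11 * 31 * 37 * 67) 11 67 [7, 37] :=
  gen_of_check (PS := [2, 3, 5, 7, 11, 31, 37, 67]) (C := [(3, [(3, 1, 2), (31, 0, 1)]), (5, [(5, 0, 1), (31, 1, 0)])]) (by decide +kernel)

theorem Ly_11_67_L31_37 : Gen (2 ^ 8 * 3 ^ 7 * 5 ^ 6 * 7 * 11 * 31 * 37 * 67) 11 67 [31, 37] :=
  gen_of_check (PS := [2, 3, 5, 7, 11, 31, 37, 67]) (C := [(3, [(3, 1, 2), (7, 0, 1)]), (5, [(5, 0, 1)])]) (by decide +kernel)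

theorem Ly_31_37_L7 : Gen (2 ^ 8 * 3 ^ 7 * 5 ^ 6 * 7 * 11 * 31 * 37 * 67) 31 37 [7] :=
  gen_of_check (PS := [2, 3, 5, 7, 11, 31, 37, 67]) (C := [(3, [(3, 1, 1), (67, 0, 1)]), (5, [(5, 1, 2), (11, 0, 1)]), (11, [(67, 1, 0)])]) (by decide +kernel)

theorem Ly_31_37_L67 : Gen (2 ^ 8 * 3 ^ 7 * 5 ^ 6 * 7 * 11 * 31 * 37 * 67) 31 37 [67] :=
  gen_of_check (PS := [2, 3, 5, 7, 11, 31, 37, 67]) (C := [(3, [(3, 1, 1), (7, 0, 1)]), (5, [(5, 1, 2), (11, 0, 1)])]) (by decide +kernel)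

theorem Ly_31_67_L3 : Gen (2 ^ 8 * 3 ^ 7 * 5 ^ 6 * 7 * 11 * 31 * 37 * 67) 31 67 [3] :=
  gen_of_check (PS := [2, 3, 5, 7, 11, 31, 37, 67]) (C := [(3, [(7, 1, 0), (37, 0, 1)]), (5, [(5, 0, 1), (11, 1, 0)])]) (by decide +kernel)

theorem Ly_31_67_L7 : Gen (2 ^ 8 * 3 ^ 7 * 5 ^ 6 * 7 * 11 * 31 * 37 * 67) 31 67 [7] :=
  gen_of_check (PS := [2, 3, 5, 7, 11, 31, 37, 67]) (C := [(3, [(3, 1, 0), (37, 0, 1)]), (5, [(5, 0, 1), (11, 1, 0)])]) (by decide +kernel)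

theorem Ly_37_67_L31 : Gen (2 ^ 8 * 3 ^ 7 * 5 ^ 6 * 7 * 11 * 31 * 37 * 67) 37 67 [31] :=
  gen_of_check (PS := [2, 3, 5, 7, 11, 31, 37, 67]) (C := [(3, [(3, 1, 1), (7, 0, 1)]), (5, [(5, 0, 1), (11, 1, 0)])]) (by decide +kernel)

theorem ON_5_11_L3_7 : Gen (2 ^ 9 * 3 ^ 4 * 5 * 7 ^ 3 * 11 * 19 * 31) 5 11 [3, 7] :=
  gen_of_check (PS := [2, 3, 5, 7, 11, 19, 31]) (C := [(3, [(19, 1, 2), (31, 0, 1)]), (5, [(31, 0, 1)])]) (by decide +kernel)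

theorem ON_5_11_L3_19 : Gen (2 ^ 9 * 3 ^ 4 * 5 * 7 ^ 3 * 11 * 19 * 31) 5 11 [3, 19] :=
  gen_of_check (PS := [2, 3, 5, 7, 11, 19, 31]) (C := [(3, [(7, 1, 2), (31, 0, 1)]), (5, [(31, 0, 1)]), (7, [(7, 0, 1)])]) (by decide +kernel)

theorem ON_5_11_L3_31 : Gen (2 ^ 9 * 3 ^ 4 * 5 * 7 ^ 3 * 11 * 19 * 31) 5 11 [3, 31] :=
  gen_of_check (PS := [2, 3, 5, 7, 11, 19, 31]) (C := [(3, [(7, 0, 1), (19, 1, 0)]), (7, [(7, 0, 1)])]) (by decide +kernel)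

theorem ON_5_11_L7_19 : Gen (2 ^ 9 * 3 ^ 4 * 5 * 7 ^ 3 * 11 * 19 * 31) 5 11 [7, 19] :=
  gen_of_check (PS := [2, 3, 5, 7, 11, 19, 31]) (C := [(3, [(3, 1, 2), (31, 0, 1)]), (5, [(31, 0, 1)])]) (by decide +kernel)

theorem ON_5_11_L7_31 : Gen (2 ^ 9 * 3 ^ 4 * 5 * 7 ^ 3 * 11 * 19 * 31) 5 11 [7, 31] :=
  gen_of_check (PS := [2, 3, 5, 7, 11, 19, 31]) (C := [(3, [(3, 0, 1), (19, 1, 0)])]) (by decide +kernel)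

theorem ON_5_19_L3 : Gen (2 ^ 9 * 3 ^ 4 * 5 * 7 ^ 3 * 11 * 19 * 31) 5 19 [3] :=
  gen_of_check (PS := [2, 3, 5, 7, 11, 19, 31]) (C := [(3, [(7, 1, 1), (31, 0, 1)]), (5, [(11, 1, 0), (31, 0, 1)]), (7, [(7, 1, 0)])]) (by decide +kernel)

theorem ON_5_19_L7 : Gen (2 ^ 9 * 3 ^ 4 * 5 * 7 ^ 3 * 11 * 19 * 31) 5 19 [7] :=
  gen_of_check (PS := [2, 3, 5, 7, 11, 19, 31]) (C := [(3, [(3, 1, 1), (31, 0, 1)]), (5, [(11, 1, 0), (31, 0, 1)])]) (by decide +kernel)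

theorem ON_5_19_L31 : Gen (2 ^ 9 * 3 ^ 4 * 5 * 7 ^ 3 * 11 * 19 * 31) 5 19 [31] :=
  gen_of_check (PS := [2, 3, 5, 7, 11, 19, 31]) (C := [(3, [(3, 1, 2), (7, 0, 1)]), (5, [(11, 0, 1)]), (7, [(7, 1, 0)])]) (by decide +kernel)

theorem ON_5_31_L3 : Gen (2 ^ 9 * 3 ^ 4 * 5 * 7 ^ 3 * 11 * 19 * 31) 5 31 [3] :=
  gen_of_check (PS := [2, 3, 5, 7, 11, 19, 31]) (C := [(3, [(7, 0, 1), (19, 1, 0)]), (5, [(11, 0, 1)]), (7, [(7, 1, 0)])]) (by decide +kernel)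

theorem ON_5_31_L7 : Gen (2 ^ 9 * 3 ^ 4 * 5 * 7 ^ 3 * 11 * 19 * 31) 5 31 [7] :=
  gen_of_check (PS := [2, 3, 5, 7, 11, 19, 31]) (C := [(3, [(3, 0, 1), (19, 1, 0)]), (5, [(11, 0, 1)])]) (by decide +kernel)

theorem ON_5_31_L19 : Gen (2 ^ 9 * 3 ^ 4 * 5 * 7 ^ 3 * 11 * 19 * 31) 5 31 [19] :=
  gen_of_check (PS := [2, 3, 5, 7, 11, 19, 31]) (C := [(3, [(3, 1, 1), (7, 0, 1)]), (5, [(11, 0, 1)]), (7, [(7, 1, 0)])]) (by decide +kernel)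

theorem ON_11_19_L7 : Gen (2 ^ 9 * 3 ^ 4 * 5 * 7 ^ 3 * 11 * 19 * 31) 11 19 [7] :=
  gen_of_check (PS := [2, 3, 5, 7, 11, 19, 31]) (C := [(3, [(3, 1, 1), (31, 0, 1)]), (5, [(31, 0, 1)])]) (by decide +kernel)

theorem ON_11_19_L31 : Gen (2 ^ 9 * 3 ^ 4 * 5 * 7 ^ 3 * 11 * 19 * 31) 11 19 [31] :=
  gen_of_check (PS := [2, 3, 5, 7, 11, 19, 31]) (C := [(3, [(3, 1, 1), (7, 0, 1)]), (7, [(7, 1, 0)])]) (by decide +kernel)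

theorem ON_11_31_L19 : Gen (2 ^ 9 * 3 ^ 4 * 5 * 7 ^ 3 * 11 * 19 * 31) 11 31 [19] :=
  gen_of_check (PS := [2, 3, 5, 7, 11, 19, 31]) (C := [(3, [(3, 1, 2), (7, 0, 1)]), (7, [(7, 1, 0)])]) (by decide +kernel)

theorem ON_19_31_L7 : Gen (2 ^ 9 * 3 ^ 4 * 5 * 7 ^ 3 * 11 * 19 * 31) 19 31 [7] :=
  gen_of_check (PS := [2, 3, 5, 7, 11, 19, 31]) (C := [(3, [(3, 0, 1)]), (5, [(11, 0, 1)])]) (by decide +kernel)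

end Cfsg.Agent.H823.B0R
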